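import Groth.Agent.Hilb6.HomCount
import Mathlib.Algebra.Order.Antidiag.FinsuppEquiv

/-!
# Degree-zero homomorphisms of the two-block ideals `x₀(x₀,…,x_{n-1}) + x₁^q(x₁,…,x_m)`
-/

set_option autoImplicit false
set_option linter.style.haveILetI false

namespace Groth.Agent.Hilb6.Borel

open MvPolynomial W4c1hilbpn Finsupp

variable {k : Type*} [Field k] {n q m : ℕ}

/-- The second variable. -/
def v1 (n : ℕ) : Fin (n + 1) := Fin.ofNat (n + 1) 1

theorem val_v1 (hn : 2 ≤ n) : (v1 n).val = 1 := by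
  show 1 % (n + 1) = 1
  exact Nat.mod_eq_of_lt (by omega)

/-- Exponent of `x₀ xᵢ`. -/
noncomputable def gE (i : Fin (n + 1)) : Fin (n + 1) →₀ ℕ := single 0 1 + single i 1

/-- Exponent of `x₁^q xⱼ`. -/
noncomputable def hE (q : ℕ) (j : Fin (n + 1)) : Fin (n + 1) →₀ ℕ := single (v1 n) q + single j 1

/-- The generators. -/
def gens (n q m : ℕ) : Set (Fin (n + 1) →₀ ℕ) :=
  {b | ∃ i : Fin (n + 1), i.val + 1 ≤ n ∧ b = gE i} ∪
    {b | ∃ j : Fin (n + 1), 1 ≤ j.val ∧ j.val ≤ m ∧ b = hE q j}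

/-- The two-block ideal. -/
noncomputable def bI (k : Type*) [Field k] (n q m : ℕ) : Ideal (MvPolynomial (Fin (n + 1)) k) :=
  Ideal.span ((fun b => monomial b (1 : k)) '' gens n q m)

theorem isMonomial_bI : IsMonomial (bI k n q m) := isMonomial_span_monomial _

/-- Membership in the two-block ideal. -/
def InI (n q m : ℕ) (β : Fin (n + 1) →₀ ℕ) : Prop :=
  2 ≤ β 0 ∨ (1 ≤ β 0 ∧ ∃ i : Fin (n + 1), 1 ≤ i.val ∧ i.val + 1 ≤ n ∧ 1 ≤ β i) ∨ q + 1 ≤ β (v1 n) ∨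
    (q ≤ β (v1 n) ∧ ∃ j : Fin (n + 1), 2 ≤ j.val ∧ j.val ≤ m ∧ 1 ≤ β j)

theorem mem_exps (hn : 2 ≤ n) (hm : 1 ≤ m) (β : Fin (n + 1) →₀ ℕ) :
    β ∈ exps (bI k n q m) ↔ InI n q m β := by
  rw [bI, mem_exps_span_monomial]
  have hv := val_v1 hn
  constructor
  · rintro ⟨b, (⟨i, hi, rfl⟩ | ⟨j, hj1, hj2, rfl⟩), hle⟩
    · rcases eq_or_ne i 0 with rfl | hi0
      · exact Or.inl (le_trans (by simp [gE]) (hle 0))
      · exact Or.inr (Or.inl ⟨le_trans (by simp [gE]) (hle 0), i,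
          Nat.one_le_iff_ne_zero.2 fun h => hi0 (Fin.ext h), hi, le_trans (by simp [gE]) (hle i)⟩)
    · rcases eq_or_ne j (v1 n) with rfl | hj
      · exact Or.inr (Or.inr (Or.inl (le_trans (by simp [hE]) (hle (v1 n)))))
      · refine Or.inr (Or.inr (Or.inr ⟨le_trans (by simp [hE]) (hle (v1 n)), j, ?_, hj2,
          le_trans (by simp [hE]) (hle j)⟩))
        have : j.val ≠ 1 := fun h => hj (Fin.ext (h.trans hv.symm))
        omega
  · rintro (h | ⟨h0, i, hi1, hi2, hi⟩ | h | ⟨h1, j, hj1, hj2, hj⟩)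
    · refine ⟨gE 0, Or.inl ⟨0, by simp; omega, rfl⟩, fun x => ?_⟩
      simp only [gE, Finsupp.add_apply, Finsupp.single_apply]
      split_ifs with hx <;> first | (subst hx; omega) | omega
    · refine ⟨gE i, Or.inl ⟨i, hi2, rfl⟩, fun x => ?_⟩
      simp only [gE, Finsupp.add_apply, Finsupp.single_apply]
      split_ifs with hx hy hy
      · subst hx; subst hy; simp at hi1
      · subst hx; omega
      · subst hy; omega
      · omega
    · refine ⟨hE q (v1 n), Or.inr ⟨v1 n, hv.ge, hv.le.trans hm, rfl⟩, fun x => ?_⟩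
      simp only [hE, Finsupp.add_apply, Finsupp.single_apply]
      split_ifs with hx <;> first | (subst hx; omega) | omega
    · refine ⟨hE q j, Or.inr ⟨j, le_trans one_le_two hj1, hj2, rfl⟩, fun x => ?_⟩
      simp only [hE, Finsupp.add_apply, Finsupp.single_apply]
      split_ifs with hx hy hy
      · subst hx; subst hy; omega
      · subst hx; omega
      · subst hy; omega
      · omega

theorem gE_mem (hn : 2 ≤ n) (hm : 1 ≤ m) {i : Fin (n + 1)} (hi : i.val + 1 ≤ n) :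
    gE i ∈ exps (bI k n q m) := by
  rw [bI, mem_exps_span_monomial]
  exact ⟨gE i, Or.inl ⟨i, hi, rfl⟩, le_rfl⟩

theorem hE_mem {j : Fin (n + 1)} (hj1 : 1 ≤ j.val) (hj2 : j.val ≤ m) : hE q j ∈ exps (bI k n q m) := by
  rw [bI, mem_exps_span_monomial]
  exact ⟨hE q j, Or.inr ⟨j, hj1, hj2, rfl⟩, le_rfl⟩

theorem mins_cases {b : Fin (n + 1) →₀ ℕ} (hb : b ∈ mins (bI k n q m)) : b ∈ gens n q m := by
  have h1 := hb.1
  rw [bI, mem_exps_span_monomial] at h1
  obtain ⟨b', hb', hle⟩ := h1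
  have h2 : b' ∈ exps (bI k n q m) := by
    rw [bI, mem_exps_span_monomial]; exact ⟨b', hb', le_rfl⟩
  rwa [le_antisymm (hb.2 h2 hle) hle]

theorem sum_shift {α : Fin (n + 1) → ℤ} (hα : ∑ x, α x = 0) {b : Fin (n + 1) →₀ ℕ} (hp : Pos α b) :
    ∑ x, shift b α x = ∑ x, b x := by
  have h : (∑ x, (shift b α x : ℤ)) = ∑ x, (b x : ℤ) := by
    simp only [cast_shift hp, Finset.sum_add_distrib, hα, add_zero]
  exact_mod_cast h

theorem sum_gE (i : Fin (n + 1)) : ∑ x, gE i x = 2 := by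
  simp [gE, Finset.sum_add_distrib, Finsupp.single_apply]

theorem sum_hE (j : Fin (n + 1)) : ∑ x, hE q j x = q + 1 := by
  simp [hE, Finset.sum_add_distrib, Finsupp.single_apply]

theorem link {σ : Type*} [Finite σ] {I : Ideal (MvPolynomial σ k)} {α : σ → ℤ} {c : (σ →₀ ℕ) → k}
    (hc : c ∈ CSp I α) {b b' : σ →₀ ℕ} (hb : b ∈ exps I) (hb' : b' ∈ exps I) (hp : Pos α b) (x : σ)
    (hle : b' ≤ b + single x 1) (hγ : shift b α + single x 1 ∉ exps I) : c b' = c b := by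
  have hγ' : shift (b + single x 1) α ∉ exps I := by rwa [shift_add hp]
  rw [← CSp.eq_of_le hc hb (le_add_of_nonneg_right (zero_le (α := σ →₀ ℕ))) hγ',
    ← CSp.eq_of_le hc hb' hle hγ']

theorem eq_zero_of_neg {σ : Type*} [Finite σ] {I : Ideal (MvPolynomial σ k)} {α : σ → ℤ} {c : (σ →₀ ℕ) → k}
    (hc : c ∈ CSp I α) {b : σ →₀ ℕ} (x : σ) (h : (b x : ℤ) + α x < 0) : c b = 0 :=
  hc.1 b fun hh => absurd (hh.2.1 x) (not_le.2 h)

/-- A homomorphism supported near one generator. -/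
theorem point_exists {σ : Type*} [Finite σ] {I : Ideal (MvPolynomial σ k)} {α : σ → ℤ} {b : σ →₀ ℕ}
    (F : Set σ) (hb : b ∈ exps I) (hp : Pos α b) (hγ : shift b α ∉ exps I)
    (hA : ∀ x ∉ F, shift b α + single x 1 ∈ exps I)
    (hB : ∀ β ∈ exps I, (∀ x ∉ F, β x ≤ b x) → b ≤ β) :
    ∃ c ∈ CSp I α, c b = 1 ∧ ∀ β, c β ≠ 0 → b ≤ β ∧ ∀ x ∉ F, β x = b x := by
  classical
  let U : (σ →₀ ℕ) → Prop := fun β => b ≤ β ∧ ∀ x ∉ F, β x = b x
  refine ⟨_, indicator_mem_CSp α U fun β hβ i hi => ⟨?_, ?_⟩, if_pos ⟨hb, hp, hγ, le_rfl, fun _ _ => rfl⟩,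
    fun β hβ => (by_contra fun hn => hβ (if_neg fun hh => hn hh.2.2.2) :)⟩
  · rintro ⟨⟨-, heq⟩, -⟩
    have hle : ∀ x ∉ F, β x ≤ b x := fun x hx => by
      rw [← heq x hx, Finsupp.add_apply]; omega
    have hbβ := hB β hβ hle
    exact ⟨⟨hbβ, fun x hx => le_antisymm (hle x hx) (hbβ x)⟩, hp.mono hbβ⟩
  · rintro ⟨⟨hbβ, heq⟩, hpβ⟩
    refine ⟨⟨hbβ.trans (le_add_of_nonneg_right (zero_le (α := σ →₀ ℕ))), fun x hx => ?_⟩,
      hpβ.mono (le_add_of_nonneg_right (zero_le (α := σ →₀ ℕ)))⟩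
    rcases eq_or_ne x i with rfl | hxi
    · refine absurd (exps_upper (hA x hx) ?_) hi
      rw [shift_add hpβ]
      intro y
      have h1 := cast_shift hp y
      have h2 := cast_shift hpβ y
      have h3 := hbβ y
      simp only [Finsupp.add_apply]
      omega
    · rw [Finsupp.add_apply, single_eq_of_ne hxi, add_zero, heq x hx]

/-- The multidegree moving a monomial `b` to a monomial `γ`. -/
def dd (γ b : Fin (n + 1) →₀ ℕ) : Fin (n + 1) → ℤ := fun x => (γ x : ℤ) - b x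

theorem sum_dd {γ b : Fin (n + 1) →₀ ℕ} (h : ∑ x, γ x = ∑ x, b x) : ∑ x, dd γ b x = 0 := by
  simp only [dd, Finset.sum_sub_distrib, sub_eq_zero]
  exact_mod_cast h

theorem pos_dd (γ b : Fin (n + 1) →₀ ℕ) : Pos (dd γ b) b := fun x => by simp [dd]

theorem shift_dd (γ b : Fin (n + 1) →₀ ℕ) : shift b (dd γ b) = γ := by
  ext x; simp [shift_apply, dd]

theorem eq_dd {α : Fin (n + 1) → ℤ} {b : Fin (n + 1) →₀ ℕ} (hp : Pos α b) : α = dd (shift b α) b :=
  funext fun x => by have := cast_shift hp x; simp only [dd]; omega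

/-- Pairs (multidegree, generator). -/
abbrev Pair (n : ℕ) := (Fin (n + 1) → ℤ) × (Fin (n + 1) →₀ ℕ)

/-- `T` describes the homomorphisms on the first block. -/
structure GSpec (k : Type*) [Field k] (n q m : ℕ) (T : Finset (Pair n)) : Prop where
  deg : ∀ t ∈ T, ∑ x, t.1 x = 0
  isG : ∀ t ∈ T, 1 ≤ t.2 0
  inj : ∀ α : Fin (n + 1) → ℤ, (∑ x, α x = 0) → ∀ c ∈ CSp (bI k n q m) α, (∀ b, (α, b) ∈ T → c b = 0) →
    ∀ i : Fin (n + 1), i.val + 1 ≤ n → c (gE i) = 0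
  surj : ∀ t ∈ T, ∃ c ∈ CSp (bI k n q m) t.1, c t.2 = 1 ∧ (∀ β, c β ≠ 0 → 1 ≤ β 0) ∧
    ∀ b, b ≠ t.2 → (t.1, b) ∈ T → c b = 0

/-- `T` describes the homomorphisms on the second block. -/
structure HSpec (k : Type*) [Field k] (n q m : ℕ) (T : Finset (Pair n)) : Prop where
  deg : ∀ t ∈ T, ∑ x, t.1 x = 0
  isH : ∀ t ∈ T, t.2 0 = 0
  inj : ∀ α : Fin (n + 1) → ℤ, (∑ x, α x = 0) → ∀ c ∈ CSp (bI k n q m) α, (∀ b, (α, b) ∈ T → c b = 0) →
    ∀ j : Fin (n + 1), 1 ≤ j.val → j.val ≤ m → c (hE q j) = 0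
  surj : ∀ t ∈ T, ∃ c ∈ CSp (bI k n q m) t.1, c t.2 = 1 ∧ (∀ β, c β ≠ 0 → β 0 = 0) ∧
    ∀ b, b ≠ t.2 → (t.1, b) ∈ T → c b = 0

theorem finrank_deg_zero {G H : Finset (Pair n)} (hG : GSpec k n q m G) (hH : HSpec k n q m H) :
    Module.finrank k ↥(⨆ α : {α : Fin (n + 1) → ℤ // ∑ i, α i = 0}, tPiece (bI k n q m) α.1) =
      G.card + H.card := by
  classical
  rw [← Finset.card_union_of_disjoint (Finset.disjoint_left.2 fun t h1 h2 => by
    have := hG.isG t h1; have := hH.isH t h2; omega)]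
  refine finrank_iSup_eq_card isMonomial_bI (fun α => ∑ i, α i = 0) _
    (fun t ht => (Finset.mem_union.1 ht).elim (hG.deg t) (hH.deg t)) ?_ ?_
  · intro α hα c hc h0
    refine CSp.eq_zero_of_mins hc fun b hb => ?_
    rcases mins_cases hb with ⟨i, hi, rfl⟩ | ⟨j, hj1, hj2, rfl⟩
    · exact hG.inj α hα c hc (fun b hb => h0 b (Finset.mem_union_left _ hb)) i hi
    · exact hH.inj α hα c hc (fun b hb => h0 b (Finset.mem_union_right _ hb)) j hj1 hj2
  · intro t ht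
    rcases Finset.mem_union.1 ht with h | h
    · obtain ⟨c, hc, h1, hs, h0⟩ := hG.surj t h
      refine ⟨c, hc, h1, fun b hne hb => ?_⟩
      rcases Finset.mem_union.1 hb with hb | hb
      · exact h0 b hne hb
      · by_contra hn
        have := hs b hn; have := hH.isH _ hb
        simp only at this; omega
    · obtain ⟨c, hc, h1, hs, h0⟩ := hH.surj t h
      refine ⟨c, hc, h1, fun b hne hb => ?_⟩
      rcases Finset.mem_union.1 hb with hb | hb
      · by_contra hn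
        have := hs b hn; have := hG.isG _ hb
        simp only at this; omega
      · exact h0 b hne hb

theorem card_range (a b : ℕ) (hb : b ≤ n) :
    (Finset.univ.filter fun x : Fin (n + 1) => a ≤ x.val ∧ x.val ≤ b).card = b + 1 - a := by
  rw [← Nat.card_Icc, ← Finset.card_map Fin.valEmbedding]
  congr 1
  ext x
  simp only [Finset.mem_map, Finset.mem_filter, Finset.mem_univ, true_and, Fin.valEmbedding_apply, Finset.mem_Icc]
  exact ⟨by rintro ⟨y, hy, rfl⟩; exact hy, fun h => ⟨⟨x, by omega⟩, h, rfl⟩⟩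

end Groth.Agent.Hilb6.Borel
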