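import Groth.Agent.Hilb6.BorelH

/-!
# The homomorphisms on the first block
-/

set_option autoImplicit false
set_option linter.style.haveILetI false

namespace Groth.Agent.Hilb6.Borel

open MvPolynomial W4c1hilbpn Finsupp

variable {k : Type*} [Field k] {n q m : ℕ}

/-- The last variable of the first block. -/
def vN (n : ℕ) : Fin (n + 1) := ⟨n - 1, by omega⟩

theorem eq_nE (hn : 2 ≤ n) (hm : 1 ≤ m) {d : ℕ} {γ : Fin (n + 1) →₀ ℕ} (hγ : γ ∉ exps (bI k n q m))
    (h0 : 1 ≤ γ 0) (hsum : ∑ x, γ x = d + 1) : γ = nE n d := by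
  have hrest : ∀ x : Fin (n + 1), x ≠ 0 → x ≠ Fin.last n → γ x = 0 := fun x h1 h2 => by
    by_contra h
    have : x.val ≠ n := fun e => h2 (Fin.ext (by simpa using e))
    exact hγ ((mem_exps hn hm _).2 (Or.inr (Or.inl ⟨h0, x, Nat.one_le_iff_ne_zero.2 fun e => h1 (Fin.ext e),
      by omega, by omega⟩)))
  have hle : γ 0 ≤ 1 := by
    by_contra h
    exact hγ ((mem_exps hn hm _).2 (Or.inl (by omega)))
  have hl : (0 : Fin (n + 1)) ≠ Fin.last n := fin_ne (by simp only [Fin.val_zero, Fin.val_last, vN]; omega)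
  rw [Finset.sum_eq_add (0 : Fin (n + 1)) (Fin.last n) hl (fun x _ hx => hrest x hx.1 hx.2) (by simp) (by simp)] at hsum
  ext x
  rcases eq_or_ne x 0 with rfl | hx0
  · simp [nE, single_eq_of_ne hl]; omega
  rcases eq_or_ne x (Fin.last n) with rfl | hxl
  · simp [nE, single_eq_of_ne hx0]; omega
  · rw [hrest x hx0 hxl]
    simp [nE, single_eq_of_ne hx0, single_eq_of_ne hxl]

theorem add_notMem (hn : 2 ≤ n) (hm : 1 ≤ m) {γ : Fin (n + 1) →₀ ℕ} (hγ : γ ∉ exps (bI k n q m)) (h0 : γ 0 = 0)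
    {x : Fin (n + 1)} (hx : m + 1 ≤ x.val) : γ + single x 1 ∉ exps (bI k n q m) := by
  rw [mem_exps hn hm] at hγ ⊢
  have hx1 : v1 n ≠ x := fin_ne (by rw [val_v1 hn]; omega)
  have hx0 : (0 : Fin (n + 1)) ≠ x := fin_ne (by simp only [Fin.val_zero, Fin.val_last, vN]; omega)
  rintro (h | ⟨h, -⟩ | h | ⟨h, j, hj1, hj2, hj⟩)
  · simp [h0, single_eq_of_ne hx0] at h
  · simp [h0, single_eq_of_ne hx0] at h
  · rw [Finsupp.add_apply, single_eq_of_ne hx1, add_zero] at h
    exact hγ (Or.inr (Or.inr (Or.inl h)))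
  · rw [Finsupp.add_apply, single_eq_of_ne hx1, add_zero] at h
    rw [Finsupp.add_apply, single_eq_of_ne (show j ≠ x from fin_ne (by omega)), add_zero] at hj
    exact hγ (Or.inr (Or.inr (Or.inr ⟨h, j, hj1, hj2, hj⟩)))

theorem gE_injective {i j : Fin (n + 1)} (h : gE i = gE j) : i = j :=
  single_left_injective one_ne_zero (add_left_cancel h)

theorem one_le_gE (i : Fin (n + 1)) : 1 ≤ gE i 0 := by simp [gE]

theorem gE_zero_le {i : Fin (n + 1)} (h : 2 ≤ gE i 0) : i = 0 := by
  by_contra hi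
  simp [gE, single_eq_of_ne (Ne.symm hi)] at h

theorem gE_eq_of_one_le {i x : Fin (n + 1)} (hx : x ≠ 0) (h : 1 ≤ gE i x) : x = i := by
  by_contra hi
  simp [gE, single_eq_of_ne hx, single_eq_of_ne hi] at h

theorem gE_le_one {i x : Fin (n + 1)} (hx : x ≠ 0) : gE i x ≤ 1 := by
  simp only [gE, Finsupp.add_apply, single_eq_of_ne hx, zero_add, Finsupp.single_apply]
  split_ifs <;> omega

theorem gE_le {i : Fin (n + 1)} {β : Fin (n + 1) →₀ ℕ} (h : i = 0 → 2 ≤ β 0)
    (h' : i ≠ 0 → 1 ≤ β 0 ∧ 1 ≤ β i) : gE i ≤ β := by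
  intro y
  rcases eq_or_ne i 0 with rfl | hi
  · have := h rfl
    rcases eq_or_ne y 0 with rfl | hy
    · simp [gE]; omega
    · simp [gE, single_eq_of_ne hy]
  · obtain ⟨h0, h1⟩ := h' hi
    rcases eq_or_ne y 0 with rfl | hy
    · simp [gE, single_eq_of_ne (Ne.symm hi)]; omega
    rcases eq_or_ne y i with rfl | hyi
    · simp [gE, single_eq_of_ne hy]; omega
    · simp [gE, single_eq_of_ne hy, single_eq_of_ne hyi]

theorem g_classify (hn : 2 ≤ n) (hm : 1 ≤ m) {α : Fin (n + 1) → ℤ}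
    (hα : ∑ x, α x = 0) {c : (Fin (n + 1) →₀ ℕ) → k} (hc : c ∈ CSp (bI k n q m) α) {i : Fin (n + 1)}
    (hi : i.val + 1 ≤ n) (hne : c (gE i) ≠ 0) :
    shift (gE i) α = nE n 1 ∨
      (∃ l : Fin (n + 1), 1 ≤ i.val ∧ 1 ≤ l.val ∧ shift (gE i) α = single i 1 + single l 1) ∨
      (shift (gE i) α 0 = 0 ∧ shift (gE i) α i = 0 ∧
        ∀ x : Fin (n + 1), 1 ≤ x.val → x.val + 1 ≤ n → x ≠ i →
          shift (gE i) α + single x 1 ∈ exps (bI k n q m)) := by
  obtain ⟨hmem, hp, hγ⟩ := CSp.supp hc hne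
  set γ := shift (gE i) α with hγdef
  have hsum : ∑ x, γ x = 2 := (sum_shift hα hp).trans (sum_gE i)
  rcases Nat.eq_zero_or_pos (γ 0) with h0 | h0
  swap
  · exact Or.inl (eq_nE hn hm hγ h0 hsum)
  right
  rcases Nat.eq_zero_or_pos (γ i) with hi0 | hi0
  swap
  · left
    have hle : single i 1 ≤ γ := by rw [Finsupp.single_le_iff]; exact hi0
    have hs1 : ∑ x, (γ - single i 1 : Fin (n + 1) →₀ ℕ) x = 1 := by
      have : ∑ x, ((γ - single i 1 : Fin (n + 1) →₀ ℕ) x + single i 1 x) = 2 := by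
        simp only [← Finsupp.add_apply, tsub_add_cancel_of_le hle, hsum]
      rw [Finset.sum_add_distrib] at this
      have h1 : ∑ x, (single i 1 : Fin (n + 1) →₀ ℕ) x = 1 := by simp [Finsupp.single_apply]
      omega
    obtain ⟨l, hl, hl0⟩ := Finset.exists_ne_zero_of_sum_ne_zero (by rw [hs1]; exact one_ne_zero)
    have hle' : single l 1 ≤ γ - single i 1 := by rw [Finsupp.single_le_iff]; omega
    refine ⟨l, Nat.one_le_iff_ne_zero.2 fun e => ?_, Nat.one_le_iff_ne_zero.2 fun e => ?_, ?_⟩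
    · rw [show i = 0 from Fin.ext e] at hi0; omega
    · rw [show l = 0 from Fin.ext e] at hl0; simp [h0] at hl0
    · ext x
      have h2 := hle' x
      rw [← Finset.add_sum_erase _ _ hl] at hs1
      rcases eq_or_ne x l with rfl | hxl
      · have h3 := hle x
        simp only [Finsupp.add_apply, Finsupp.tsub_apply, single_eq_same] at *
        omega
      · have h3 := Finset.single_le_sum (f := fun y => (γ - single i 1 : Fin (n + 1) →₀ ℕ) y)
          (fun y _ => Nat.zero_le _) (Finset.mem_erase.2 ⟨hxl, Finset.mem_univ x⟩)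
        have h4 := hle x
        beta_reduce at h3
        simp only [Finsupp.add_apply, Finsupp.tsub_apply, single_eq_of_ne hxl, add_zero] at *
        omega
  · refine Or.inr ⟨h0, hi0, fun x hx1 hx2 hxi => ?_⟩
    by_contra hx
    have hx0 : (0 : Fin (n + 1)) ≠ x := fin_ne (by simp only [Fin.val_zero, Fin.val_last, vN]; omega)
    have hlink : c (gE x) = c (gE i) :=
      link hc hmem (gE_mem hn hm hx2) hp x (fun y => by simp only [gE, Finsupp.add_apply]; omega) hx
    refine hne (hlink.symm.trans (eq_zero_of_neg hc i ?_))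
    have h1 := cast_shift hp i
    rw [← hγdef, hi0] at h1
    simp only [gE, Finsupp.add_apply, single_eq_same, single_eq_of_ne hxi.symm] at h1 ⊢
    omega

/-- The classes `gᵢ ↦ x₀x_n`. -/
noncomputable def G1 (n : ℕ) : Finset (Pair n) :=
  (Finset.univ.filter fun i : Fin (n + 1) => i.val + 1 ≤ n).image fun i => (dd (nE n 1) (gE i), gE i)

/-- The classes `x₀ ↦ x_l`. -/
noncomputable def G2 (n lo : ℕ) : Finset (Pair n) :=
  (Finset.univ.filter fun l : Fin (n + 1) => lo ≤ l.val ∧ l.val ≤ n).image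
    fun l => (dd (single (vN n) 1 + single l 1) (gE (vN n)), gE (vN n))

/-- The exceptional classes `gᵢ ↦ x₁x_n`. -/
noncomputable def GX (n : ℕ) (S : Finset (Fin (n + 1))) : Finset (Pair n) :=
  S.image fun i => (dd (single (v1 n) 1 + single (Fin.last n) 1) (gE i), gE i)

theorem card_G1 : (G1 n).card = n := by
  rw [G1, Finset.card_image_of_injective _ fun i j h => gE_injective (Prod.ext_iff.1 h).2,
    show (Finset.univ.filter fun i : Fin (n + 1) => i.val + 1 ≤ n) =
      (Finset.univ.filter fun i : Fin (n + 1) => i ≠ Fin.last n) from Finset.filter_congr fun i _ => ?_]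
  · rw [Finset.filter_ne']; simp
  · constructor
    · intro h e; subst e; simp at h
    · intro h
      have : i.val ≠ n := fun e => h (Fin.ext (by simpa using e))
      omega

theorem card_G2 {lo : ℕ} : (G2 n lo).card = n + 1 - lo := by
  rw [G2, Finset.card_image_of_injective _ fun l l' h => ?_, card_range lo n le_rfl]
  exact single_left_injective one_ne_zero (add_left_cancel (eq_of_dd (Prod.ext_iff.1 h).1))

theorem card_GX (S : Finset (Fin (n + 1))) : (GX n S).card = S.card :=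
  Finset.card_image_of_injective _ fun i j h => gE_injective (Prod.ext_iff.1 h).2

theorem card_G (hn : 3 ≤ n) {lo : ℕ} (hlo : 1 ≤ lo) (S : Finset (Fin (n + 1))) :
    (G1 n ∪ G2 n lo ∪ GX n S).card = n + (n + 1 - lo) + S.card := by
  classical
  have hl0 : (0 : Fin (n + 1)) ≠ Fin.last n := fin_ne (by simp only [Fin.val_zero, Fin.val_last, vN]; omega)
  have h10 : (0 : Fin (n + 1)) ≠ v1 n := fin_ne (by simp [val_v1 (show 2 ≤ n by omega)])
  have hN0 : (0 : Fin (n + 1)) ≠ vN n := fin_ne (by simp [vN]; omega)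
  have hN1 : v1 n ≠ vN n := fin_ne (by simp [vN, val_v1 (show 2 ≤ n by omega)]; omega)
  have hNl : Fin.last n ≠ vN n := fin_ne (by simp [vN]; omega)
  rw [Finset.card_union_of_disjoint, Finset.card_union_of_disjoint, card_G1, card_G2, card_GX]
  · rw [Finset.disjoint_left]
    rintro t h1 h2
    simp only [G1, G2, Finset.mem_image, Finset.mem_filter, Finset.mem_univ, true_and] at h1 h2
    obtain ⟨i, -, rfl⟩ := h1
    obtain ⟨l, ⟨hl, -⟩, he⟩ := h2
    obtain ⟨he1, he2⟩ := Prod.ext_iff.1 he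
    have := gE_injective he2
    subst this
    have h := DFunLike.congr_fun (eq_of_dd he1) 0
    simp [nE, single_eq_of_ne hl0, single_eq_of_ne hN0,
      single_eq_of_ne (show (0 : Fin (n + 1)) ≠ l from fin_ne (by simp only [Fin.val_zero, Fin.val_last, vN]; omega))] at h
  · rw [Finset.disjoint_left]
    rintro t h1 h3
    simp only [G1, G2, GX, Finset.mem_union, Finset.mem_image, Finset.mem_filter, Finset.mem_univ, true_and] at h1 h3
    obtain ⟨i, -, rfl⟩ := h3
    rcases h1 with ⟨j, -, he⟩ | ⟨l, ⟨hl, -⟩, he⟩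
    · obtain ⟨he1, he2⟩ := Prod.ext_iff.1 he
      have := gE_injective he2
      subst this
      have h := DFunLike.congr_fun (eq_of_dd he1) 0
      simp [nE, single_eq_of_ne hl0, single_eq_of_ne h10] at h
    · obtain ⟨he1, he2⟩ := Prod.ext_iff.1 he
      have := gE_injective he2
      subst this
      have h := DFunLike.congr_fun (eq_of_dd he1) (vN n)
      simp [single_eq_of_ne hN1.symm, single_eq_of_ne hNl.symm] at h

theorem G1_exists (hn : 2 ≤ n) (hm : 1 ≤ m) (hmn : m + 1 ≤ n) (hq : 1 ≤ q) {i : Fin (n + 1)} (hi : i.val + 1 ≤ n) :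
    ∃ c ∈ CSp (bI k n q m) (dd (nE n 1) (gE i)), c (gE i) = 1 ∧
      ∀ β, c β ≠ 0 → gE i ≤ β ∧ ∀ x ∉ ({Fin.last n} : Set (Fin (n + 1))), β x = gE i x := by
  have hv := val_v1 hn
  have hl0 : (0 : Fin (n + 1)) ≠ Fin.last n := fin_ne (by simp only [Fin.val_zero, Fin.val_last, vN]; omega)
  refine point_exists _ (gE_mem hn hm hi) (pos_dd _ _) ?_ ?_ ?_
  · rw [shift_dd, mem_exps hn hm]
    rintro (h | ⟨-, x, hx1, hx2, hx⟩ | h | ⟨h, -⟩)
    · simp [nE, single_eq_of_ne hl0] at h
    · simp [nE, single_eq_of_ne (show x ≠ 0 from fin_ne (show x.val ≠ _ by simp only [Fin.val_zero]; omega)),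
        single_eq_of_ne (show x ≠ Fin.last n from fin_ne (by simp only [Fin.val_zero, Fin.val_last, vN]; omega))] at hx
    all_goals
      simp [nE, single_eq_of_ne (show v1 n ≠ 0 from fin_ne (by simp [hv])),
        single_eq_of_ne (show v1 n ≠ Fin.last n from fin_ne (by simp [hv]; omega))] at h
      try omega
  · intro x hx
    rw [shift_dd, mem_exps hn hm]
    rcases eq_or_ne x 0 with rfl | hx0
    · left; simp [nE, single_eq_of_ne hl0]
    · refine Or.inr (Or.inl ⟨by simp [nE]; omega, x, Nat.one_le_iff_ne_zero.2 fun h => hx0 (Fin.ext h), ?_, by simp⟩)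
      have : x.val ≠ n := fun h => hx (Fin.ext (by simpa using h))
      omega
  · intro β hβ hle
    have hle' : ∀ x : Fin (n + 1), x.val + 1 ≤ n → β x ≤ gE i x := fun x hx =>
      hle x fun h => by rw [Set.mem_singleton_iff] at h; subst h; simp at hx
    have h0 := hle' 0 (by simp; omega)
    have h1 := hle' (v1 n) (by omega)
    have hv0 : v1 n ≠ 0 := fin_ne (by simp [hv])
    have := gE_le_one (i := i) hv0
    rcases (mem_exps hn hm β).1 hβ with h | ⟨h, x, hx1, hx2, hx⟩ | h | ⟨h, x, hx1, hx2, hx⟩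
    · have := gE_zero_le (le_trans h h0)
      subst this
      exact gE_le (fun _ => h) fun e => absurd rfl e
    · have hx0 : x ≠ 0 := fin_ne (by simp only [Fin.val_zero, Fin.val_last, vN]; omega)
      have := gE_eq_of_one_le hx0 (le_trans hx (hle' x hx2))
      subst this
      exact gE_le (fun e => absurd e hx0) fun _ => ⟨h, hx⟩
    · omega
    · have hxi := gE_eq_of_one_le (show x ≠ 0 from fin_ne (by simp only [Fin.val_zero, Fin.val_last, vN]; omega)) (le_trans hx (hle' x (by omega)))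
      have hvi := gE_eq_of_one_le hv0 (le_trans (le_trans hq h) h1)
      rw [hxi, ← hvi] at hx1; omega

theorem GX_exists (hn : 3 ≤ n) (hm : 1 ≤ m) (hmn : m + 1 ≤ n) (hq : q = 1) {i : Fin (n + 1)} (hi : i.val + 1 ≤ n)
    (hS : ∀ x : Fin (n + 1), m + 1 ≤ x.val → x.val + 1 ≤ n → x = i) :
    ∃ c ∈ CSp (bI k n q m) (dd (single (v1 n) 1 + single (Fin.last n) 1) (gE i)), c (gE i) = 1 ∧
      ∀ β, c β ≠ 0 → gE i ≤ β ∧ ∀ x ∉ {x : Fin (n + 1) | m + 1 ≤ x.val}, β x = gE i x := by
  subst hq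
  have hn2 : 2 ≤ n := by omega
  have hv := val_v1 hn2
  have h10 : v1 n ≠ 0 := fin_ne (by simp [hv])
  have h1l : v1 n ≠ Fin.last n := fin_ne (by simp [hv]; omega)
  have hl0 : (0 : Fin (n + 1)) ≠ Fin.last n := fin_ne (by simp only [Fin.val_zero, Fin.val_last, vN]; omega)
  refine point_exists _ (gE_mem hn2 hm hi) (pos_dd _ _) ?_ ?_ ?_
  · rw [shift_dd, mem_exps hn2 hm]
    rintro (h | ⟨h, -⟩ | h | ⟨-, x, hx1, hx2, hx⟩)
    · simp [single_eq_of_ne h10.symm, single_eq_of_ne hl0] at h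
    · simp [single_eq_of_ne h10.symm, single_eq_of_ne hl0] at h
    · simp [single_eq_of_ne h1l] at h
    · simp [single_eq_of_ne (show x ≠ v1 n from fin_ne (by omega)),
        single_eq_of_ne (show x ≠ Fin.last n from fin_ne (by simp only [Fin.val_zero, Fin.val_last, vN]; omega))] at hx
  · intro x hx
    rw [shift_dd, mem_exps hn2 hm]
    simp only [Set.mem_setOf_eq, not_le] at hx
    rcases eq_or_ne x 0 with rfl | hx0
    · exact Or.inr (Or.inl ⟨by simp, v1 n, hv.ge, by omega, by simp; omega⟩)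
    rcases eq_or_ne x (v1 n) with rfl | hx1
    · exact Or.inr (Or.inr (Or.inl (by simp [single_eq_of_ne h1l])))
    · have : x.val ≠ 1 := fun e => hx1 (Fin.ext (e.trans hv.symm))
      have : x.val ≠ 0 := fun e => hx0 (Fin.ext e)
      exact Or.inr (Or.inr (Or.inr ⟨by simp; omega, x, by omega, by omega, by simp⟩))
  · intro β hβ hle
    have hle' : ∀ x : Fin (n + 1), x.val ≤ m → β x ≤ gE i x := fun x hx =>
      hle x fun h => by simp only [Set.mem_setOf_eq] at h; omega
    have h0 := hle' 0 (by simp)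
    have h1 := hle' (v1 n) (by omega)
    have := gE_le_one (i := i) h10
    rcases (mem_exps hn2 hm β).1 hβ with h | ⟨h, x, hx1, hx2, hx⟩ | h | ⟨h, x, hx1, hx2, hx⟩
    · have := gE_zero_le (le_trans h h0)
      subst this
      exact gE_le (fun _ => h) fun e => absurd rfl e
    · have hx0 : x ≠ 0 := fin_ne (by simp only [Fin.val_zero, Fin.val_last, vN]; omega)
      have hxi : x = i := by
        by_cases hxm : x.val ≤ m
        · exact gE_eq_of_one_le hx0 (le_trans hx (hle' x hxm))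
        · exact hS x (by omega) hx2
      subst hxi
      exact gE_le (fun e => absurd e hx0) fun _ => ⟨h, hx⟩
    · omega
    · have hxi := gE_eq_of_one_le (show x ≠ 0 from fin_ne (by simp only [Fin.val_zero, Fin.val_last, vN]; omega)) (le_trans hx (hle' x hx2))
      have hvi := gE_eq_of_one_le h10 (le_trans h h1)
      rw [hxi, ← hvi] at hx1; omega

theorem G2_exists (hn : 3 ≤ n) (hm : 1 ≤ m) (flag : Prop) (hflag : flag → q = 1 ∧ m + 1 = n) {l : Fin (n + 1)}
    (hl : 1 ≤ l.val) (hns : single (vN n) 1 + single l 1 ∉ exps (bI k n q m)) :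
    ∃ c ∈ CSp (bI k n q m) (dd (single (vN n) 1 + single l 1) (gE (vN n))), c (gE (vN n)) = 1 ∧
      ∀ β, c β ≠ 0 → β 0 = 1 ∧ (flag → β (v1 n) = 0) := by
  classical
  have hn2 : 2 ≤ n := by omega
  have hv := val_v1 hn2
  have hN0 : (0 : Fin (n + 1)) ≠ vN n := fin_ne (by simp [vN]; omega)
  have hl0 : (0 : Fin (n + 1)) ≠ l := fin_ne (by simp only [Fin.val_zero, Fin.val_last, vN]; omega)
  set α := dd (single (vN n) 1 + single l 1) (gE (vN n)) with hαdef
  have hαe : ∀ x, α x = (single l 1 : Fin (n + 1) →₀ ℕ) x - ((single 0 1 : Fin (n + 1) →₀ ℕ) x : ℤ) := fun x => by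
    simp only [hαdef, dd, gE, Finsupp.add_apply]; push_cast; ring
  have hpos : ∀ β : Fin (n + 1) →₀ ℕ, 1 ≤ β 0 → Pos α β := fun β hβ x => by
    rw [hαe]
    rcases eq_or_ne x 0 with rfl | hx
    · simp [single_eq_of_ne hl0]; omega
    · simp [single_eq_of_ne hx]; omega
  let U : (Fin (n + 1) →₀ ℕ) → Prop := fun β => β 0 = 1 ∧ (flag → β (v1 n) = 0)
  refine ⟨_, indicator_mem_CSp α U fun β hβ i hi => ⟨?_, ?_⟩,
    if_pos ⟨gE_mem hn2 hm (by simp [vN]; omega), pos_dd _ _, by rw [hαdef, shift_dd]; exact hns,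
      by simp [gE, single_eq_of_ne hN0], fun _ => ?_⟩,
    fun β hβ => (by_contra fun hn => hβ (if_neg fun hh => hn hh.2.2.2) :)⟩
  · rintro ⟨⟨h0, hU⟩, hp⟩
    rw [Finsupp.add_apply] at h0
    rcases eq_or_ne i 0 with rfl | hi0
    · refine absurd (exps_upper hβ ?_) hi
      intro x
      have := cast_shift hp x
      rw [hαe, Finsupp.add_apply] at this
      push_cast at this
      omega
    · rw [single_eq_of_ne hi0.symm, add_zero] at h0
      refine ⟨⟨h0, fun hf => ?_⟩, hpos β h0.ge⟩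
      have := hU hf
      rw [Finsupp.add_apply] at this; omega
  · rintro ⟨⟨h0, hU⟩, hp⟩
    rw [shift_add hp] at hi
    have hi0 : i ≠ 0 := by
      rintro rfl
      refine absurd (exps_upper hβ ?_) hi
      intro x
      have := cast_shift hp x
      rw [hαe] at this
      simp only [Finsupp.add_apply]
      omega
    refine ⟨⟨by rw [Finsupp.add_apply, single_eq_of_ne hi0.symm, add_zero, h0], fun hf => ?_⟩,
      hp.mono (le_add_of_nonneg_right (zero_le (α := Fin (n + 1) →₀ ℕ)))⟩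
    rw [Finsupp.add_apply, hU hf, zero_add]
    obtain ⟨hq, hmn⟩ := hflag hf
    rcases eq_or_ne i (v1 n) with rfl | hi1
    · exfalso
      have hb1 := hU hf
      rcases (mem_exps hn2 hm β).1 hβ with h | ⟨-, x, hx1, hx2, hx⟩ | h | ⟨h, -⟩
      · omega
      · have hxv : x ≠ v1 n := fun e => by rw [e] at hx; omega
        have hx1' : x.val ≠ 1 := fun e => hxv (Fin.ext (e.trans hv.symm))
        refine hi ((mem_exps hn2 hm _).2 (Or.inr (Or.inr (Or.inr ⟨?_, x, by omega, by omega, ?_⟩))))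
        · simp; omega
        · have := cast_shift hp x
          rw [hαe, single_eq_of_ne (show x ≠ 0 from fin_ne (by simp only [Fin.val_zero, Fin.val_last, vN]; omega))] at this
          simp only [Finsupp.add_apply]
          omega
      · omega
      · omega
    · rw [single_eq_of_ne hi1.symm]
  · simp [gE, single_eq_of_ne (show v1 n ≠ 0 from fin_ne (by simp [hv])),
      single_eq_of_ne (show v1 n ≠ vN n from fin_ne (by simp [vN, hv]; omega))]

theorem gSpec_of (hn : 3 ≤ n) (hm : 1 ≤ m) (hmn : m + 1 ≤ n) (hq : 1 ≤ q) {lo : ℕ} (hlo : 1 ≤ lo)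
    (S : Finset (Fin (n + 1))) (flag : Prop) (hflag : flag → q = 1 ∧ m + 1 = n) (hflag' : v1 n ∈ S → flag)
    (hS : ∀ i ∈ S, q = 1 ∧ i.val + 1 ≤ n ∧ ∀ x : Fin (n + 1), m + 1 ≤ x.val → x.val + 1 ≤ n → x = i)
    (hns : ∀ l : Fin (n + 1), lo ≤ l.val → single (vN n) 1 + single l 1 ∉ exps (bI k n q m))
    (hmove : ∀ i l : Fin (n + 1), 1 ≤ i.val → i.val + 1 ≤ n → 1 ≤ l.val →
      single i 1 + single l 1 ∉ exps (bI k n q m) →
      (lo ≤ l.val ∧ (i ≠ vN n → single i 1 + single l 1 + single (vN n) 1 ∉ exps (bI k n q m))) ∨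
        (i ∈ S ∧ (single i 1 + single l 1 : Fin (n + 1) →₀ ℕ) = single (v1 n) 1 + single (Fin.last n) 1))
    (hdead : ∀ (i : Fin (n + 1)) (γ : Fin (n + 1) →₀ ℕ), i.val + 1 ≤ n → γ 0 = 0 → γ i = 0 → ∑ x, γ x = 2 →
      γ ∉ exps (bI k n q m) →
      (∀ x : Fin (n + 1), 1 ≤ x.val → x.val + 1 ≤ n → x ≠ i → γ + single x 1 ∈ exps (bI k n q m)) →
      i ∈ S ∧ γ = single (v1 n) 1 + single (Fin.last n) 1) :
    GSpec k n q m (G1 n ∪ G2 n lo ∪ GX n S) := by
  classical
  have hn2 : 2 ≤ n := by omega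
  have hv := val_v1 hn2
  have hl0 : (0 : Fin (n + 1)) ≠ Fin.last n := fin_ne (by simp only [Fin.val_zero, Fin.val_last, vN]; omega)
  have h10 : (0 : Fin (n + 1)) ≠ v1 n := fin_ne (by simp [hv])
  have hgen : ∀ t ∈ G1 n ∪ G2 n lo ∪ GX n S, ∃ i, t.2 = gE i := fun t ht => by
    simp only [Finset.mem_union, G1, G2, GX, Finset.mem_image] at ht
    rcases ht with (⟨i, -, rfl⟩ | ⟨l, -, rfl⟩) | ⟨i, -, rfl⟩ <;> exact ⟨_, rfl⟩
  refine ⟨?_, fun t ht => by obtain ⟨i, hi⟩ := hgen t ht; rw [hi]; exact one_le_gE i, ?_, ?_⟩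
  · intro t ht
    simp only [Finset.mem_union, G1, G2, GX, Finset.mem_image] at ht
    rcases ht with (⟨i, -, rfl⟩ | ⟨l, -, rfl⟩) | ⟨i, -, rfl⟩ <;> refine sum_dd ?_ <;>
      simp [sum_gE, sum_nE, Finset.sum_add_distrib, Finsupp.single_apply]
  · intro α hα c hc h0 i hi
    by_contra hne
    obtain ⟨hmem, hp, hγ⟩ := CSp.supp hc hne
    have hαdd := eq_dd hp
    have hX : i ∈ S → shift (gE i) α = single (v1 n) 1 + single (Fin.last n) 1 → False := fun hiS he => by
      refine hne (h0 _ (Finset.mem_union_right _ ?_))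
      rw [GX, Finset.mem_image]
      exact ⟨i, hiS, by rw [← he, ← hαdd]⟩
    rcases g_classify hn2 hm hα hc hi hne with h | ⟨l, hi1, hl1, h⟩ | ⟨h1, h2, h3⟩
    · refine hne (h0 _ (Finset.mem_union_left _ (Finset.mem_union_left _ ?_)))
      rw [G1, Finset.mem_image]
      exact ⟨i, by simpa using hi, by rw [← h, ← hαdd]⟩
    · rcases hmove i l hi1 hi hl1 (h ▸ hγ) with ⟨hlo', hlk⟩ | ⟨hiS, he⟩
      swap
      · exact hX hiS (h.trans he)
      have hNi : c (gE (vN n)) = c (gE i) := by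
        rcases eq_or_ne i (vN n) with rfl | hiN
        · rfl
        · exact link hc hmem (gE_mem hn2 hm (by simp [vN]; omega)) hp (vN n)
            (fun y => by simp only [gE, Finsupp.add_apply]; omega) (by rw [h]; exact hlk hiN)
      refine hne (hNi.symm.trans (h0 _ (Finset.mem_union_left _ (Finset.mem_union_right _ ?_))))
      rw [G2, Finset.mem_image]
      refine ⟨l, by simp [hlo', Nat.le_of_lt_succ l.isLt], Prod.ext (funext fun x => ?_) rfl⟩
      have h1 : ((single i 1 + single l 1 : Fin (n + 1) →₀ ℕ) x : ℤ) = _ := h ▸ cast_shift hp x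
      simp only [dd, gE, Finsupp.add_apply] at h1 ⊢
      push_cast at h1 ⊢
      omega
    · exact hX (hdead i _ hi h1 h2 ((sum_shift hα hp).trans (sum_gE i)) hγ h3).1
        (hdead i _ hi h1 h2 ((sum_shift hα hp).trans (sum_gE i)) hγ h3).2
  · intro t ht
    have hzero : ∀ {i : Fin (n + 1)} {F : Set (Fin (n + 1))} {c : (Fin (n + 1) →₀ ℕ) → k},
        (∀ β, c β ≠ 0 → gE i ≤ β ∧ ∀ x ∉ F, β x = gE i x) →
        ∀ {α : Fin (n + 1) → ℤ} {b}, b ≠ gE i → (α, b) ∈ G1 n ∪ G2 n lo ∪ GX n S → c b = 0 := by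
      intro i F c hs α b hb hT
      by_contra hn0
      obtain ⟨hle, -⟩ := hs b hn0
      obtain ⟨j, hj⟩ := hgen _ hT
      simp only at hj
      subst hj
      refine hb (le_antisymm (fun x => ?_) hle)
      by_contra hx
      have h1 := Finset.sum_lt_sum (fun y (_ : y ∈ Finset.univ) => hle y) ⟨x, Finset.mem_univ x, by omega⟩
      rw [sum_gE, sum_gE] at h1
      omega
    simp only [Finset.mem_union, G1, G2, GX, Finset.mem_image, Finset.mem_filter, Finset.mem_univ, true_and] at ht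
    rcases ht with (⟨i, hi, rfl⟩ | ⟨l, ⟨hl, -⟩, rfl⟩) | ⟨i, hiS, rfl⟩
    · obtain ⟨c, hc, h1, hs⟩ := G1_exists (k := k) hn2 hm hmn hq hi
      exact ⟨c, hc, h1, fun β hβ => le_trans (one_le_gE i) ((hs β hβ).1 0), fun b hb hT => hzero hs hb hT⟩
    · obtain ⟨c, hc, h1, hs⟩ := G2_exists (k := k) hn hm flag hflag (by omega) (hns l hl)
      refine ⟨c, hc, h1, fun β hβ => (hs β hβ).1.ge, fun b hb hT => ?_⟩
      by_contra hn0
      obtain ⟨hb0, hb1⟩ := hs b hn0
      simp only [Finset.mem_union, G1, G2, GX, Finset.mem_image, Prod.mk.injEq, Finset.mem_filter,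
        Finset.mem_univ, true_and] at hT
      have hl0' : (0 : Fin (n + 1)) ≠ l := fin_ne (by simp only [Fin.val_zero, Fin.val_last, vN]; omega)
      rcases hT with (⟨i, hi, he, rfl⟩ | ⟨l', -, -, rfl⟩) | ⟨i, hiS, he, rfl⟩
      · rcases eq_or_ne i 0 with rfl | hi0
        · simp [gE] at hb0
        · have := congrFun he i
          simp [dd, gE, nE, single_eq_of_ne hi0, single_eq_of_ne (show i ≠ Fin.last n from fin_ne (by simp only [Fin.val_zero, Fin.val_last, vN]; omega))] at this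
      · exact hb rfl
      · rcases eq_or_ne i 0 with rfl | hi0
        · simp [gE] at hb0
        rcases eq_or_ne i (v1 n) with rfl | hi1
        · have := hb1 (hflag' hiS)
          simp [gE] at this
        · have := congrFun he i
          simp [dd, gE, single_eq_of_ne hi0, single_eq_of_ne hi1,
            single_eq_of_ne (show i ≠ Fin.last n from fin_ne (by have := (hS i hiS).2.1; simp; omega))] at this
    · obtain ⟨hq1, hi, hS'⟩ := hS i hiS
      obtain ⟨c, hc, h1, hs⟩ := GX_exists (k := k) hn hm hmn hq1 hi hS'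
      exact ⟨c, hc, h1, fun β hβ => le_trans (one_le_gE i) ((hs β hβ).1 0), fun b hb hT => hzero hs hb hT⟩

theorem ns_of_gt (hn : 3 ≤ n) (hm : 1 ≤ m) (hmn : m + 2 ≤ n) (hq : 1 ≤ q) {l : Fin (n + 1)} (hl : 1 ≤ l.val) :
    single (vN n) 1 + single l 1 ∉ exps (bI k n q m) := by
  have hv := val_v1 (show 2 ≤ n by omega)
  have hN1 : v1 n ≠ vN n := fin_ne (by simp [vN, hv]; omega)
  rw [add_comm (single (vN n) 1)]
  refine add_notMem (by omega) hm ?_ (single_eq_of_ne (fin_ne (by simp only [Fin.val_zero, Fin.val_last, vN]; omega))) (by simp [vN]; omega)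
  rw [mem_exps (by omega) hm]
  rintro (h | ⟨h, -⟩ | h | ⟨h, x, hx1, hx2, hx⟩)
  · simp [single_eq_of_ne (show (0 : Fin (n + 1)) ≠ l from fin_ne (by simp only [Fin.val_zero, Fin.val_last, vN]; omega))] at h
  · simp [single_eq_of_ne (show (0 : Fin (n + 1)) ≠ l from fin_ne (by simp only [Fin.val_zero, Fin.val_last, vN]; omega))] at h
  · simp [Finsupp.single_apply] at h; split_ifs at h <;> omega
  · simp [Finsupp.single_apply] at h hx
    split_ifs at h hx with e e' <;> [(rw [← e', e] at hx1; omega); omega; omega; omega]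

theorem gSpec_A (hn : 3 ≤ n) (hm : 1 ≤ m) (hq : 1 ≤ q) (h : m + 2 ≤ n) (hcase : 3 ≤ q ∨ m + 3 ≤ n) :
    GSpec k n q m (G1 n ∪ G2 n 1 ∪ GX n ∅) := by
  have hn2 : 2 ≤ n := by omega
  have hv := val_v1 hn2
  refine gSpec_of hn hm (by omega) hq le_rfl ∅ False (fun h => h.elim) (fun h => by simp at h)
    (fun i hi => by simp at hi) (fun l hl => ns_of_gt hn hm h hq hl) ?_ ?_
  · intro i l hi1 _ hl1 hγ
    refine Or.inl ⟨hl1, fun _ => add_notMem hn2 hm hγ ?_ (by simp [vN]; omega)⟩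
    simp [single_eq_of_ne (show (0 : Fin (n + 1)) ≠ i from fin_ne (by simp only [Fin.val_zero, Fin.val_last, vN]; omega)),
      single_eq_of_ne (show (0 : Fin (n + 1)) ≠ l from fin_ne (by simp only [Fin.val_zero, Fin.val_last, vN]; omega))]
  · intro i γ hi hγ0 hγi hsum hγ hall
    exfalso
    rcases hcase with hq3 | hm3
    · obtain ⟨x, hx1, hx2, hxi⟩ : ∃ x : Fin (n + 1), 1 ≤ x.val ∧ x.val + 1 ≤ n ∧ x ≠ i := by
        by_cases h1 : i.val = 1
        · exact ⟨⟨2, by omega⟩, by simp, by simp; omega, fin_ne (by simp only [Fin.val_zero, Fin.val_last, vN]; omega)⟩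
        · exact ⟨v1 n, hv.ge, by omega, fin_ne (by omega)⟩
      have hle : γ (v1 n) ≤ 2 := by
        rw [← hsum]; exact Finset.single_le_sum (f := fun y => γ y) (fun y _ => Nat.zero_le _) (Finset.mem_univ _)
      rcases (mem_exps hn2 hm _).1 (hall x hx1 hx2 hxi) with h | ⟨h, -⟩ | h | ⟨h, j, hj1, hj2, hj⟩
      · simp [hγ0, single_eq_of_ne (show (0 : Fin (n + 1)) ≠ x from fin_ne (by simp only [Fin.val_zero, Fin.val_last, vN]; omega))] at h
      · simp [hγ0, single_eq_of_ne (show (0 : Fin (n + 1)) ≠ x from fin_ne (by simp only [Fin.val_zero, Fin.val_last, vN]; omega))] at h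
      · simp only [Finsupp.add_apply, Finsupp.single_apply] at h
        split_ifs at h <;> omega
      · simp only [Finsupp.add_apply, Finsupp.single_apply] at h hj
        split_ifs at h with e <;> [skip; omega]
        have hjx : j ≠ x := by rw [e]; exact fin_ne (by omega)
        rw [if_neg hjx.symm] at hj
        have hjv : j ≠ v1 n := fin_ne (by omega)
        have h2 := Finset.single_le_sum (f := fun y => γ y) (fun y _ => Nat.zero_le _)
          (Finset.mem_erase.2 ⟨hjv, Finset.mem_univ j⟩)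
        rw [← Finset.add_sum_erase _ _ (Finset.mem_univ (v1 n))] at hsum
        beta_reduce at h2
        omega
    · obtain ⟨x, hx1, hx2, hxi⟩ : ∃ x : Fin (n + 1), m + 1 ≤ x.val ∧ x.val + 1 ≤ n ∧ x ≠ i := by
        by_cases h1 : i.val = n - 1
        · exact ⟨⟨n - 2, by omega⟩, by simp; omega, by simp; omega, fin_ne (by simp only [Fin.val_zero, Fin.val_last, vN]; omega)⟩
        · exact ⟨vN n, by simp [vN]; omega, by simp [vN]; omega, fin_ne (by simp [vN]; omega)⟩
      exact add_notMem hn2 hm hγ hγ0 hx1 (hall x (by omega) hx2 hxi)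

theorem x1_form (hn : 3 ≤ n) (hm : 1 ≤ m) {γ : Fin (n + 1) →₀ ℕ} (hγ0 : γ 0 = 0) (hsum : ∑ x, γ x = 2)
    (hγ : γ ∉ exps (bI k n 1 m)) (h1 : γ (v1 n) ≠ 0) :
    ∃ x : Fin (n + 1), m + 1 ≤ x.val ∧ γ = single (v1 n) 1 + single x 1 := by
  have hv := val_v1 (show 2 ≤ n by omega)
  rw [mem_exps (by omega) hm] at hγ
  have h1' : γ (v1 n) = 1 := by
    by_contra h
    exact hγ (Or.inr (Or.inr (Or.inl (by omega))))
  rw [← Finset.add_sum_erase _ _ (Finset.mem_univ (v1 n))] at hsum
  obtain ⟨x, hx, hx0⟩ := Finset.exists_ne_zero_of_sum_ne_zero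
    (show ∑ x ∈ Finset.univ.erase (v1 n), γ x ≠ 0 by omega)
  have hxv := Finset.ne_of_mem_erase hx
  rw [← Finset.add_sum_erase _ _ hx] at hsum
  refine ⟨x, ?_, ?_⟩
  · by_contra hlt
    have h2 : x.val ≠ 1 := fun e => hxv (Fin.ext (e.trans hv.symm))
    have h3 : x.val ≠ 0 := fun e => hx0 (by rw [show x = 0 from Fin.ext e, hγ0])
    exact hγ (Or.inr (Or.inr (Or.inr ⟨by omega, x, by omega, by omega, by omega⟩)))
  · ext y
    rcases eq_or_ne y (v1 n) with rfl | hy1
    · simp [single_eq_of_ne hxv.symm]; omega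
    rcases eq_or_ne y x with rfl | hyx
    · simp [single_eq_of_ne hy1]; omega
    · have := Finset.single_le_sum (f := fun z => γ z) (fun z _ => Nat.zero_le _)
        (show y ∈ (Finset.univ.erase (v1 n)).erase x by simp [hy1, hyx])
      beta_reduce at this
      simp [single_eq_of_ne hy1, single_eq_of_ne hyx]
      omega

theorem notMem_of_x1 (hn : 2 ≤ n) (hm : 1 ≤ m) {γ : Fin (n + 1) →₀ ℕ} (h0 : γ 0 = 0) (h1 : γ (v1 n) = 0)
    (hq : 1 ≤ q) : γ ∉ exps (bI k n q m) := by
  rw [mem_exps hn hm]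
  rintro (h | ⟨h, -⟩ | h | ⟨h, -⟩) <;> omega

theorem gSpec_B (hn : 4 ≤ n) (hm : m + 2 = n) :
    GSpec k n 1 m (G1 n ∪ G2 n 1 ∪ GX n {vN n}) := by
  have hn2 : 2 ≤ n := by omega
  have hv := val_v1 hn2
  have hN1 : v1 n ≠ vN n := fin_ne (by simp [vN, hv]; omega)
  refine gSpec_of (by omega) (by omega) (by omega) le_rfl le_rfl {vN n} False (fun h => h.elim)
    (fun h => hN1 (Finset.mem_singleton.1 h)) ?_
    (fun l hl => ns_of_gt (by omega) (by omega) (by omega) le_rfl hl) ?_ ?_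
  · intro i hi
    rw [Finset.mem_singleton] at hi
    subst hi
    exact ⟨rfl, by simp [vN]; omega, fun x h1 h2 => Fin.ext (by simp [vN]; omega)⟩
  · intro i l hi1 _ hl1 hγ
    refine Or.inl ⟨hl1, fun _ => add_notMem hn2 (by omega) hγ ?_ (by simp [vN]; omega)⟩
    simp [single_eq_of_ne (show (0 : Fin (n + 1)) ≠ i from fin_ne (by simp only [Fin.val_zero, Fin.val_last, vN]; omega)),
      single_eq_of_ne (show (0 : Fin (n + 1)) ≠ l from fin_ne (by simp only [Fin.val_zero, Fin.val_last, vN]; omega))]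
  · intro i γ hi hγ0 hγi hsum hγ hall
    have hiN : i = vN n := by
      by_contra hne
      exact add_notMem hn2 (by omega) hγ hγ0 (show m + 1 ≤ (vN n).val by simp [vN]; omega)
        (hall (vN n) (by simp [vN]; omega) (by simp [vN]; omega) (Ne.symm hne))
    subst hiN
    refine ⟨Finset.mem_singleton_self _, ?_⟩
    have h1 : γ (v1 n) ≠ 0 := by
      intro h1
      refine notMem_of_x1 (m := m) (q := 1) hn2 (by omega) ?_ ?_ le_rfl
        (hall ⟨m, by omega⟩ (show 1 ≤ m by omega) (show m + 1 ≤ n by omega) (fin_ne (by simp [vN]; omega)))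
      · simp [hγ0, single_eq_of_ne (show (0 : Fin (n + 1)) ≠ ⟨m, by omega⟩ from fin_ne (by simp only [Fin.val_zero, Fin.val_last, vN]; omega))]
      · simp [h1, single_eq_of_ne (show v1 n ≠ ⟨m, by omega⟩ from fin_ne (by simp [hv]; omega))]
    obtain ⟨x, hx, rfl⟩ := x1_form (by omega) (by omega) hγ0 hsum hγ h1
    rw [show x = Fin.last n from Fin.ext ?_]
    have hxN : x ≠ vN n := fun e => by
      subst e; simp [single_eq_of_ne hN1.symm] at hγi
    have : x.val ≠ n - 1 := fun e => hxN (Fin.ext e)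
    simp; omega

theorem gSpec_C (hn : 3 ≤ n) (hm : m + 1 = n) :
    GSpec k n 1 m (G1 n ∪ G2 n 2 ∪ GX n (Finset.univ.filter fun i : Fin (n + 1) => i.val + 1 ≤ n)) := by
  have hn2 : 2 ≤ n := by omega
  have hv := val_v1 hn2
  refine gSpec_of hn (by omega) (by omega) le_rfl (by omega) _ True (fun _ => ⟨rfl, hm⟩) (fun _ => trivial) ?_ ?_ ?_ ?_
  · intro i hi
    simp only [Finset.mem_filter, Finset.mem_univ, true_and] at hi
    exact ⟨rfl, hi, fun x h1 h2 => by omega⟩
  · intro l hl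
    refine notMem_of_x1 hn2 (by omega) ?_ ?_ le_rfl
    · simp [single_eq_of_ne (show (0 : Fin (n + 1)) ≠ vN n from fin_ne (by simp [vN]; omega)),
        single_eq_of_ne (show (0 : Fin (n + 1)) ≠ l from fin_ne (by simp only [Fin.val_zero, Fin.val_last, vN]; omega))]
    · simp [single_eq_of_ne (show v1 n ≠ vN n from fin_ne (by simp [vN, hv]; omega)),
        single_eq_of_ne (show v1 n ≠ l from fin_ne (by omega))]
  · intro i l hi1 hi hl1 hγ
    have hi0 : (0 : Fin (n + 1)) ≠ i := fin_ne (by simp only [Fin.val_zero, Fin.val_last, vN]; omega)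
    have hl0 : (0 : Fin (n + 1)) ≠ l := fin_ne (by simp only [Fin.val_zero, Fin.val_last, vN]; omega)
    by_cases h1 : (single i 1 + single l 1 : Fin (n + 1) →₀ ℕ) (v1 n) = 0
    · have hl : l ≠ v1 n := fun e => by subst e; simp at h1
      have : l.val ≠ 1 := fun e => hl (Fin.ext (e.trans hv.symm))
      refine Or.inl ⟨by omega, fun _ => notMem_of_x1 hn2 (by omega) ?_ ?_ le_rfl⟩
      · simp [single_eq_of_ne hi0, single_eq_of_ne hl0,
          single_eq_of_ne (show (0 : Fin (n + 1)) ≠ vN n from fin_ne (by simp [vN]; omega))]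
      · rw [Finsupp.add_apply, h1, single_eq_of_ne (show v1 n ≠ vN n from fin_ne (by simp [vN, hv]; omega))]
        rfl
    · obtain ⟨x, hx, he⟩ := x1_form hn (by omega) (by simp [single_eq_of_ne hi0, single_eq_of_ne hl0])
        (by simp [Finset.sum_add_distrib, Finsupp.single_apply]) hγ h1
      rw [show x = Fin.last n from Fin.ext (by simp; omega)] at he
      exact Or.inr ⟨by simpa using hi, he⟩
  · intro i γ hi hγ0 hγi hsum hγ hall
    refine ⟨by simpa using hi, ?_⟩
    have h1 : γ (v1 n) ≠ 0 := by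
      intro h1
      by_cases hex : ∃ x : Fin (n + 1), 2 ≤ x.val ∧ x.val + 1 ≤ n ∧ x ≠ i
      · obtain ⟨x, hx1, hx2, hxi⟩ := hex
        refine notMem_of_x1 (m := m) (q := 1) hn2 (by omega) ?_ ?_ le_rfl (hall x (by omega) hx2 hxi)
        · simp [hγ0, single_eq_of_ne (show (0 : Fin (n + 1)) ≠ x from fin_ne (by simp only [Fin.val_zero, Fin.val_last, vN]; omega))]
        · simp [h1, single_eq_of_ne (show v1 n ≠ x from fin_ne (by omega))]
      · push Not at hex
        have hi2 : i ≠ v1 n := by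
          intro e
          have := hex ⟨2, by omega⟩ le_rfl (by simp; omega)
          rw [e] at this
          have := congrArg Fin.val this
          simp [hv] at this
        rcases (mem_exps hn2 (by omega) _).1 (hall (v1 n) hv.ge (by omega) hi2.symm) with
          h | ⟨h, -⟩ | h | ⟨-, j, hj1, hj2, hj⟩
        · simp [hγ0, single_eq_of_ne (show (0 : Fin (n + 1)) ≠ v1 n from fin_ne (by simp [hv]))] at h
        · simp [hγ0, single_eq_of_ne (show (0 : Fin (n + 1)) ≠ v1 n from fin_ne (by simp [hv]))] at h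
        · simp [h1] at h
        · rw [hex j hj1 (by omega)] at hj
          simp [hγi, single_eq_of_ne hi2] at hj
    obtain ⟨x, hx, rfl⟩ := x1_form hn (by omega) hγ0 hsum hγ h1
    rw [show x = Fin.last n from Fin.ext (by simp; omega)]

theorem span_eq_bI (A : Set (MvPolynomial (Fin (n + 1)) k))
    (hA : ∀ f, f ∈ A ↔ ∃ j : Fin (n + 1), 1 ≤ j.val ∧ j.val ≤ m ∧ f = X 1 ^ q * X j) :
    Ideal.span ({f : MvPolynomial (Fin (n + 1)) k | ∃ i : Fin (n + 1), i.val + 1 ≤ n ∧ f = X 0 * X i} ∪ A) =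
      bI k n q m := by
  refine congrArg Ideal.span (Set.ext fun f => ?_)
  have h1 : (1 : Fin (n + 1)) = v1 n := Fin.ext (by simp [v1])
  have hg : ∀ i : Fin (n + 1), (X 0 : MvPolynomial (Fin (n + 1)) k) * X i = monomial (gE i) 1 := fun i => by
    simp [gE, X, monomial_mul]
  have hh : ∀ j : Fin (n + 1), (X 1 : MvPolynomial (Fin (n + 1)) k) ^ q * X j = monomial (hE q j) 1 := fun j => by
    rw [h1, X_pow_eq_monomial, X, monomial_mul, one_mul]; rfl
  simp only [Set.mem_union, Set.mem_image, gens, hA]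
  constructor
  · rintro (⟨i, hi, rfl⟩ | ⟨j, h1, h2, rfl⟩)
    · exact ⟨gE i, Or.inl ⟨i, hi, rfl⟩, (hg i).symm⟩
    · exact ⟨hE q j, Or.inr ⟨j, h1, h2, rfl⟩, (hh j).symm⟩
  · rintro ⟨b, (⟨i, hi, rfl⟩ | ⟨j, h1, h2, rfl⟩), rfl⟩
    · exact Or.inl ⟨i, hi, (hg i).symm⟩
    · exact Or.inr ⟨j, h1, h2, (hh j).symm⟩

end Groth.Agent.Hilb6.Borel
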