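import Groth.Agent.Hilb6.Borel

/-!
# The homomorphisms on the second block
-/

set_option autoImplicit false
set_option linter.style.haveILetI false

namespace Groth.Agent.Hilb6.Borel

open MvPolynomial W4c1hilbpn Finsupp

variable {k : Type*} [Field k] {n q m : ℕ}

theorem fin_ne {a b : Fin (n + 1)} (h : a.val ≠ b.val) : a ≠ b := fun e => h (congrArg Fin.val e)

/-- The exponent of `x₀ x_n^q`. -/
noncomputable def nE (n q : ℕ) : Fin (n + 1) →₀ ℕ := single 0 1 + single (Fin.last n) q

theorem sum_nE : ∑ x, nE n q x = q + 1 := by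
  simp [nE, Finset.sum_add_distrib, Finsupp.single_apply, add_comm]

theorem nE_notMem (hn : 2 ≤ n) (hm : 1 ≤ m) (hmn : m + 1 ≤ n) (hq : 1 ≤ q) : nE n q ∉ exps (bI k n q m) := by
  rw [mem_exps hn hm]
  have hv := val_v1 hn
  have hl : Fin.last n ≠ 0 := fun h => by have := congrArg Fin.val h; simp at this; omega
  have h1 : nE n q (v1 n) = 0 := by
    simp only [nE, Finsupp.add_apply]
    rw [single_eq_of_ne (fin_ne (by simp [hv])), single_eq_of_ne (fin_ne (by simp [hv]; omega))]
    rfl
  rintro (h | ⟨-, i, hi1, hi2, hi⟩ | h | ⟨h, -⟩)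
  · simp [nE, single_eq_of_ne hl.symm] at h
  · simp only [nE, Finsupp.add_apply] at hi
    rw [single_eq_of_ne (fin_ne (show i.val ≠ _ by simp only [Fin.val_zero, Fin.val_last]; omega)), single_eq_of_ne (fin_ne (show i.val ≠ _ by simp only [Fin.val_zero, Fin.val_last]; omega))] at hi
    omega
  · omega
  · omega

theorem hE_zero (hn : 2 ≤ n) {j : Fin (n + 1)} (hj1 : 1 ≤ j.val) : hE q j 0 = 0 := by
  simp only [hE, Finsupp.add_apply]
  rw [single_eq_of_ne (fin_ne (by simp [val_v1 hn])), single_eq_of_ne (fin_ne (by simp; omega))]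
  rfl

theorem hE_v1_le (q : ℕ) (j : Fin (n + 1)) : q ≤ hE q j (v1 n) := by simp [hE]

theorem hE_apply_of_ne {j x : Fin (n + 1)} (h1 : x ≠ v1 n) (h2 : x ≠ j) : hE q j x = 0 := by
  simp [hE, single_eq_of_ne h1, single_eq_of_ne h2]

theorem nE_exists (hn : 2 ≤ n) (hm : 1 ≤ m) (hmn : m + 1 ≤ n) (hq : 1 ≤ q) {j : Fin (n + 1)} (hj1 : 1 ≤ j.val)
    (hj2 : j.val ≤ m) :
    ∃ c ∈ CSp (bI k n q m) (dd (nE n q) (hE q j)), c (hE q j) = 1 ∧
      ∀ β, c β ≠ 0 → hE q j ≤ β ∧ ∀ x ∉ ({Fin.last n} : Set (Fin (n + 1))), β x = hE q j x := by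
  refine point_exists _ (hE_mem hj1 hj2) (pos_dd _ _) (by rw [shift_dd]; exact nE_notMem hn hm hmn hq) ?_ ?_
  · intro x hx
    rw [shift_dd, mem_exps hn hm]
    rcases eq_or_ne x 0 with rfl | hx0
    · left
      simp [nE, single_eq_of_ne (show (0 : Fin (n + 1)) ≠ Fin.last n from fin_ne (by simp; omega))]
    · refine Or.inr (Or.inl ⟨by simp [nE]; omega, x, Nat.one_le_iff_ne_zero.2 fun h => hx0 (Fin.ext h), ?_, by simp⟩)
      have : x.val ≠ n := fun h => hx (Fin.ext (by simpa using h))
      omega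
  · intro β hβ hle
    have hv := val_v1 hn
    have h0 : β 0 = 0 := by
      have := hle 0 (fun h => by have := congrArg Fin.val h; simp at this; omega)
      rw [hE_zero hn hj1] at this; omega
    have hle' : ∀ x : Fin (n + 1), x.val + 1 ≤ n → β x ≤ hE q j x := fun x hx =>
      hle x fun h => by rw [Set.mem_singleton_iff] at h; subst h; simp at hx
    rw [mem_exps hn hm] at hβ
    rcases hβ with h | ⟨h, -⟩ | h | ⟨h, i, hi1, hi2, hi⟩
    · omega
    · omega
    · have h1 := hle' (v1 n) (by omega)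
      have hj : j = v1 n := by
        by_contra hne
        simp [hE, single_eq_of_ne (Ne.symm hne)] at h1
        omega
      subst hj
      intro x
      simp only [hE, Finsupp.add_apply, Finsupp.single_apply]
      split_ifs with hx <;> first | (subst hx; omega) | omega
    · have h1 := hle' i (by omega)
      have hij : i = j := by
        by_contra hne
        rw [hE_apply_of_ne (fun h => by rw [h] at hi1; omega) hne] at h1
        omega
      subst hij
      intro x
      simp only [hE, Finsupp.add_apply, Finsupp.single_apply]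
      split_ifs with hx hy hy
      · subst hx; subst hy; omega
      · subst hx; omega
      · subst hy; omega
      · omega

/-- Homomorphisms with a negative exponent only at `x₁`. -/
theorem hmove_exists (hn : 2 ≤ n) (hm : 1 ≤ m) (α : Fin (n + 1) → ℤ) (j : Fin (n + 1)) (hj1 : 1 ≤ j.val)
    (hj2 : j.val ≤ m) (hα0 : α 0 = 0) (hα : ∀ x, x ≠ v1 n → 0 ≤ α x)
    (hs : shift (hE q j) α ∉ exps (bI k n q m))
    (hpos : ∀ β ∈ exps (bI k n q m), β 0 = 0 → Pos α β ∧
      ∃ x : Fin (n + 1), 1 ≤ x.val ∧ x.val + 1 ≤ n ∧ 1 ≤ shift β α x)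
    (hq : α (v1 n) = -1 → 2 ≤ m → 2 ≤ j.val) :
    ∃ c ∈ CSp (bI k n q m) α, c (hE q j) = 1 ∧
      ∀ β, c β ≠ 0 → β 0 = 0 ∧ (α (v1 n) = -1 → 2 ≤ m → β (v1 n) ≤ q) := by
  classical
  let U : (Fin (n + 1) →₀ ℕ) → Prop := fun β => β 0 = 0 ∧ (α (v1 n) = -1 → 2 ≤ m → β (v1 n) ≤ q)
  have hv := val_v1 hn
  have hpj := (hpos _ (hE_mem hj1 hj2) (hE_zero hn hj1)).1
  refine ⟨_, indicator_mem_CSp α U fun β hβ i hi => ⟨?_, ?_⟩,
    if_pos ⟨hE_mem hj1 hj2, hpj, hs, hE_zero hn hj1, fun h h' => ?_⟩,
    fun β hβ => (by_contra fun hn => hβ (if_neg fun hh => hn hh.2.2.2) :)⟩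
  · rintro ⟨⟨h0, hU⟩, -⟩
    rw [Finsupp.add_apply] at h0
    have h0' : β 0 = 0 := by omega
    refine ⟨⟨h0', fun h h' => le_trans ?_ (hU h h')⟩, (hpos β hβ h0').1⟩
    rw [Finsupp.add_apply]; omega
  · rintro ⟨⟨h0, hU⟩, hp⟩
    have hp' := hp.mono (show β ≤ β + single i 1 from le_add_of_nonneg_right (zero_le (α := Fin (n + 1) →₀ ℕ)))
    rw [shift_add hp] at hi
    have hi0 : i ≠ 0 := by
      rintro rfl
      obtain ⟨-, x, hx1, hx2, hx⟩ := hpos β hβ h0
      refine hi ((mem_exps hn hm _).2 (Or.inr (Or.inl ⟨by simp, x, hx1, hx2, ?_⟩)))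
      rw [Finsupp.add_apply]; omega
    refine ⟨⟨by rw [Finsupp.add_apply, single_eq_of_ne hi0.symm, add_zero, h0], fun h h' => ?_⟩, hp'⟩
    have hb := hU h h'
    rw [Finsupp.add_apply]
    rcases eq_or_ne i (v1 n) with rfl | hi1
    · rw [single_eq_same]
      by_contra hlt
      rcases (mem_exps hn hm β).1 hβ with h2 | ⟨h2, -⟩ | h2 | ⟨h2, x, hx1, hx2, hx⟩
      · omega
      · omega
      · omega
      · refine hi ((mem_exps hn hm _).2 (Or.inr (Or.inr (Or.inr ⟨?_, x, hx1, hx2, ?_⟩))))
        · have := cast_shift hp (v1 n)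
          simp only [Finsupp.add_apply, single_eq_same]; omega
        · have hx' : x ≠ v1 n := fun h => by rw [h] at hx1; omega
          have := cast_shift hp x
          have := hα x hx'
          simp only [Finsupp.add_apply, single_eq_of_ne hx']; omega
    · rw [single_eq_of_ne hi1.symm]; omega
  · have h2 := hq h h'
    have hne : v1 n ≠ j := fun e => by rw [← e] at h2; omega
    simp [hE, single_eq_of_ne hne]

theorem h_classify (hn : 2 ≤ n) (hm : 1 ≤ m) (hmn : m + 1 ≤ n) (hq : 1 ≤ q) {α : Fin (n + 1) → ℤ}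
    (hα : ∑ x, α x = 0) {c : (Fin (n + 1) →₀ ℕ) → k} (hc : c ∈ CSp (bI k n q m) α) {j : Fin (n + 1)}
    (hj1 : 1 ≤ j.val) (hj2 : j.val ≤ m) (hne : c (hE q j) ≠ 0) :
    shift (hE q j) α = nE n q ∨
      (shift (hE q j) α 0 = 0 ∧ shift (hE q j) α ≠ single (Fin.last n) (q + 1)) := by
  obtain ⟨hmem, hp, hγ⟩ := CSp.supp hc hne
  set γ := shift (hE q j) α with hγdef
  have hsum : ∑ x, γ x = q + 1 := (sum_shift hα hp).trans (sum_hE j)
  rcases Nat.eq_zero_or_pos (γ 0) with h0 | h0
  · refine Or.inr ⟨h0, fun he => ?_⟩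
    have hl : ∀ x : Fin (n + 1), x.val + 1 ≤ n → γ x = 0 := fun x hx => by
      rw [he, single_eq_of_ne]; intro h; rw [h] at hx; simp at hx
    have hns : γ + single 0 1 ∉ exps (bI k n q m) := by
      rw [mem_exps hn hm]
      rintro (h | ⟨-, i, hi1, hi2, hi⟩ | h | ⟨h, -⟩)
      · simp [h0] at h
      · simp [hl i hi2, single_eq_of_ne (show i ≠ 0 from fun e => by rw [e] at hi1; simp at hi1)] at hi
      · have hv := val_v1 hn
        simp [hl (v1 n) (by omega), single_eq_of_ne (show v1 n ≠ 0 from fun e => by rw [e] at hv; simp at hv)] at h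
      · have hv := val_v1 hn
        simp [hl (v1 n) (by omega), single_eq_of_ne (show v1 n ≠ 0 from fun e => by rw [e] at hv; simp at hv)] at h
        omega
    have hg : c (gE j) = c (hE q j) := by
      refine link hc hmem (gE_mem hn hm (by omega)) hp 0 (fun x => ?_) hns
      simp only [gE, hE, Finsupp.add_apply]
      omega
    refine hne (hg.symm.trans (eq_zero_of_neg hc (v1 n) ?_))
    have hv := val_v1 hn
    have h1 := cast_shift hp (v1 n)
    rw [← hγdef, hl (v1 n) (by omega)] at h1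
    simp only [gE, hE, Finsupp.add_apply, single_eq_same,
      single_eq_of_ne (show v1 n ≠ 0 from fun e => by rw [e] at hv; simp at hv)] at h1 ⊢
    omega
  · left
    have hrest : ∀ x : Fin (n + 1), 1 ≤ x.val → x.val + 1 ≤ n → γ x = 0 := fun x h1 h2 => by
      by_contra h
      exact hγ ((mem_exps hn hm _).2 (Or.inr (Or.inl ⟨h0, x, h1, h2, by omega⟩)))
    have hle : γ 0 ≤ 1 := by
      by_contra h
      exact hγ ((mem_exps hn hm _).2 (Or.inl (by omega)))
    have hl : Fin.last n ≠ 0 := fun h => by have := congrArg Fin.val h; simp at this; omega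
    rw [← Finset.add_sum_erase _ _ (Finset.mem_univ (0 : Fin (n + 1))),
      Finset.sum_eq_single (Fin.last n)] at hsum
    · ext x
      rcases eq_or_ne x 0 with rfl | hx0
      · simp [nE, single_eq_of_ne hl.symm]; omega
      rcases eq_or_ne x (Fin.last n) with rfl | hxl
      · simp [nE, single_eq_of_ne hx0]; omega
      · have hxv : x.val ≠ n := fun h => hxl (Fin.ext (by simpa using h))
        rw [hrest x (Nat.one_le_iff_ne_zero.2 fun h => hx0 (Fin.ext h)) (by omega)]
        simp [nE, single_eq_of_ne hx0, single_eq_of_ne hxl]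
    · intro x hx hxl
      obtain ⟨hx0, -⟩ := Finset.mem_erase.1 hx
      have hxv : x.val ≠ n := fun h => hxl (Fin.ext (by simpa using h))
      exact hrest x (Nat.one_le_iff_ne_zero.2 fun h => hx0 (Fin.ext h)) (by omega)
    · intro h; simp [hl] at h

/-- The variables other than `x₀`. -/
def pos' (n : ℕ) : Finset (Fin (n + 1)) := Finset.univ.erase 0

theorem card_pos' : (pos' n).card = n := by simp [pos']

theorem mem_anti {P : Fin (n + 1) →₀ ℕ} {d : ℕ} :
    P ∈ (pos' n).finsuppAntidiag d ↔ ∑ x, P x = d ∧ P 0 = 0 := by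
  rw [Finset.mem_finsuppAntidiag]
  constructor
  · rintro ⟨h1, h2⟩
    have h0 : P 0 = 0 := Finsupp.notMem_support_iff.1 fun h => by simpa [pos'] using h2 h
    exact ⟨by rw [← Finset.add_sum_erase _ _ (Finset.mem_univ (0 : Fin (n + 1))), h0, zero_add]; exact h1, h0⟩
  · rintro ⟨h1, h2⟩
    refine ⟨?_, fun x hx => ?_⟩
    · rw [← Finset.add_sum_erase _ _ (Finset.mem_univ (0 : Fin (n + 1))), h2, zero_add] at h1
      exact h1
    · simp only [pos', Finset.mem_erase, Finset.mem_univ, and_true]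
      rintro rfl
      exact Finsupp.mem_support_iff.1 hx h2

theorem card_anti (d : ℕ) (hn : 1 ≤ n) : ((pos' n).finsuppAntidiag d).card = (n + d - 1).choose (n - 1) := by
  rw [Finset.card_finsuppAntidiag_nat_eq_choose, card_pos',
    Nat.choose_symm_of_eq_add (show n + d - 1 = d + (n - 1) by omega)]

/-- Classes `hⱼ ↦ x₀x_n^q`. -/
noncomputable def H1 (n q m : ℕ) : Finset (Pair n) :=
  (Finset.univ.filter fun j : Fin (n + 1) => 1 ≤ j.val ∧ j.val ≤ m).image
    fun j => (dd (nE n q) (hE q j), hE q j)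

theorem hE_injective (hn : 2 ≤ n) {i j : Fin (n + 1)} (h : hE q i = hE q j) : i = j := by
  have h' : single i 1 = (single j 1 : Fin (n + 1) →₀ ℕ) := add_left_cancel h
  exact single_left_injective one_ne_zero h'

theorem card_H1 (hn : 2 ≤ n) (hmn : m + 1 ≤ n) : (H1 n q m).card = m := by
  rw [H1, Finset.card_image_of_injective _ fun i j h => hE_injective hn (Prod.ext_iff.1 h).2,
    card_range 1 m (by omega)]
  omega

theorem eq_of_dd {γ γ' b : Fin (n + 1) →₀ ℕ} (h : dd γ b = dd γ' b) : γ = γ' := by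
  rw [← shift_dd γ b, h, shift_dd]

theorem dd_nE_zero (hn : 2 ≤ n) {j : Fin (n + 1)} (hj1 : 1 ≤ j.val) : dd (nE n q) (hE q j) 0 = 1 := by
  simp [dd, hE_zero hn hj1, nE, single_eq_of_ne (show (0 : Fin (n + 1)) ≠ Fin.last n from fun h => by
    have := congrArg Fin.val h; simp at this; omega)]

/-- Classes of forms `P` of degree `q`: `hⱼ ↦ P xⱼ`. -/
noncomputable def H2 (n q m : ℕ) (hm : m ≤ n) : Finset (Pair n) :=
  (((pos' n).finsuppAntidiag q).erase (single (v1 n) q)).image
    fun P => (dd (P + single ⟨m, by omega⟩ 1) (hE q ⟨m, by omega⟩), hE q ⟨m, by omega⟩)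

/-- Classes `hⱼ ↦ x₁^q x_l`, `l > m`. -/
noncomputable def H3 (n q m : ℕ) : Finset (Pair n) :=
  ((Finset.univ.filter fun j : Fin (n + 1) => 1 ≤ j.val ∧ j.val ≤ m) ×ˢ
    (Finset.univ.filter fun l : Fin (n + 1) => m + 1 ≤ l.val ∧ l.val ≤ n)).image
    fun p => (dd (hE q p.2) (hE q p.1), hE q p.1)

theorem card_H2 (hn : 2 ≤ n) (hm : m ≤ n) : (H2 n q m hm).card = (n + q - 1).choose (n - 1) - 1 := by
  have h1 : single (v1 n) q ∈ (pos' n).finsuppAntidiag q := by
    rw [mem_anti]
    refine ⟨by simp [Finsupp.single_apply], single_eq_of_ne fun h => ?_⟩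
    have := congrArg Fin.val h; simp [val_v1 hn] at this
  rw [H2, Finset.card_image_of_injective _ fun P P' h => add_right_cancel (eq_of_dd (Prod.ext_iff.1 h).1),
    Finset.card_erase_of_mem h1, card_anti q (by omega)]

theorem card_H3 (hn : 2 ≤ n) (hmn : m + 1 ≤ n) : (H3 n q m).card = m * (n - m) := by
  rw [H3, Finset.card_image_of_injOn, Finset.card_product, card_range 1 m (by omega), card_range (m + 1) n le_rfl,
    show m + 1 - 1 = m by omega, show n + 1 - (m + 1) = n - m by omega]
  intro p _ p' _ h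
  obtain ⟨h1, h2⟩ := Prod.ext_iff.1 h
  have hj := hE_injective hn h2
  have hγ : hE q p.2 = hE q p'.2 := by
    have h1' : dd (hE q p.2) (hE q p.1) = dd (hE q p'.2) (hE q p.1) := h1.trans (by rw [hj])
    exact eq_of_dd h1'
  exact Prod.ext hj (hE_injective hn hγ)

theorem hE_notMem (hn : 2 ≤ n) (hm : 1 ≤ m) {l : Fin (n + 1)} (hl : m + 1 ≤ l.val) :
    hE q l ∉ exps (bI k n q m) := by
  rw [mem_exps hn hm]
  have hv := val_v1 hn
  have hl0 : hE q l 0 = 0 := hE_zero hn (by omega)
  rintro (h | ⟨h, -⟩ | h | ⟨-, i, hi1, hi2, hi⟩)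
  · omega
  · omega
  · simp [hE, single_eq_of_ne (show v1 n ≠ l from fun e => by rw [← e] at hl; omega)] at h
  · rw [hE_apply_of_ne (fun e => by rw [e] at hi1; omega) (fun e => by rw [e] at hi2; omega)] at hi
    omega

theorem H3_exists (hn : 2 ≤ n) (hm : 1 ≤ m) (hmn : m + 1 ≤ n) (hq : 1 ≤ q) {j l : Fin (n + 1)} (hj1 : 1 ≤ j.val)
    (hj2 : j.val ≤ m) (hl : m + 1 ≤ l.val) :
    ∃ c ∈ CSp (bI k n q m) (dd (hE q l) (hE q j)), c (hE q j) = 1 ∧
      ∀ β, c β ≠ 0 → hE q j ≤ β ∧ ∀ x ∉ {x : Fin (n + 1) | m + 1 ≤ x.val}, β x = hE q j x := by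
  have hv := val_v1 hn
  refine point_exists _ (hE_mem hj1 hj2) (pos_dd _ _) (by rw [shift_dd]; exact hE_notMem hn hm hl) ?_ ?_
  · intro x hx
    rw [shift_dd, mem_exps hn hm]
    simp only [Set.mem_setOf_eq, not_le] at hx
    rcases eq_or_ne x 0 with rfl | hx0
    · refine Or.inr (Or.inl ⟨by simp, v1 n, hv.ge, by omega, ?_⟩)
      simp [hE]; omega
    rcases eq_or_ne x (v1 n) with rfl | hx1
    · exact Or.inr (Or.inr (Or.inl (by simp [hE])))
    · have : x.val ≠ 1 := fun e => hx1 (Fin.ext (e.trans hv.symm))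
      have : x.val ≠ 0 := fun e => hx0 (Fin.ext e)
      exact Or.inr (Or.inr (Or.inr ⟨by simp [hE]; omega, x, by omega, by omega, by simp⟩))
  · intro β hβ hle
    have hle' : ∀ x : Fin (n + 1), x.val ≤ m → β x ≤ hE q j x := fun x hx =>
      hle x fun h => by simp only [Set.mem_setOf_eq] at h; omega
    have h0 : β 0 = 0 := by
      have h := hle' 0 (by simp)
      rw [hE_zero hn hj1] at h; omega
    rcases (mem_exps hn hm β).1 hβ with h | ⟨h, -⟩ | h | ⟨h, i, hi1, hi2, hi⟩
    · omega
    · omega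
    · have h1 := hle' (v1 n) (by omega)
      have hj : j = v1 n := by
        by_contra hne
        simp [hE, single_eq_of_ne (Ne.symm hne)] at h1
        omega
      subst hj
      intro x
      simp only [hE, Finsupp.add_apply, Finsupp.single_apply]
      split_ifs with hx <;> first | (subst hx; omega) | omega
    · have h1 := hle' i hi2
      have hij : i = j := by
        by_contra hne
        rw [hE_apply_of_ne (fun h => by rw [h] at hi1; omega) hne] at h1
        omega
      subst hij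
      intro x
      simp only [hE, Finsupp.add_apply, Finsupp.single_apply]
      split_ifs with hx hy hy
      · subst hx; subst hy; omega
      · subst hx; omega
      · subst hy; omega
      · omega

theorem hSpec_two (hn : 2 ≤ n) (hm : 2 ≤ m) (hmn : m + 1 ≤ n) (hq : 1 ≤ q) :
    HSpec k n q m (H1 n q m ∪ H2 n q m (by omega) ∪ H3 n q m) := by
  classical
  have hv := val_v1 hn
  let M : Fin (n + 1) := ⟨m, by omega⟩
  have hM : M ≠ v1 n := fun e => by have := congrArg Fin.val e; simp [M, hv] at this; omega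
  have hM0 : M ≠ 0 := fun e => by have := congrArg Fin.val e; simp [M] at this; omega
  have hP : ∀ {P : Fin (n + 1) →₀ ℕ}, P ∈ ((pos' n).finsuppAntidiag q).erase (single (v1 n) q) →
      ∑ x, P x = q ∧ P 0 = 0 ∧ P (v1 n) < q := by
    intro P hP
    obtain ⟨hne, hP⟩ := Finset.mem_erase.1 hP
    obtain ⟨h1, h2⟩ := mem_anti.1 hP
    refine ⟨h1, h2, ?_⟩
    by_contra h
    refine hne (Finsupp.ext fun x => ?_)
    rw [← Finset.add_sum_erase _ _ (Finset.mem_univ (v1 n))] at h1
    rcases eq_or_ne x (v1 n) with rfl | hx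
    · rw [single_eq_same]; omega
    · rw [single_eq_of_ne hx]
      have := Finset.single_le_sum (f := fun y => P y) (fun y _ => Nat.zero_le _)
        (Finset.mem_erase.2 ⟨hx, Finset.mem_univ x⟩)
      beta_reduce at this
      omega
  refine ⟨?_, ?_, ?_, ?_⟩
  · intro t ht
    simp only [Finset.mem_union, H1, H2, H3, Finset.mem_image] at ht
    rcases ht with (⟨j, -, rfl⟩ | ⟨P, hP', rfl⟩) | ⟨p, -, rfl⟩
    · exact sum_dd (by rw [sum_nE, sum_hE])
    · refine sum_dd ?_
      rw [sum_hE]
      simp [Finset.sum_add_distrib, (hP hP').1, Finsupp.single_apply]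
    · exact sum_dd (by rw [sum_hE, sum_hE])
  · intro t ht
    simp only [Finset.mem_union, H1, H2, H3, Finset.mem_image, Finset.mem_filter, Finset.mem_product] at ht
    rcases ht with (⟨j, ⟨-, hj, -⟩, rfl⟩ | ⟨P, -, rfl⟩) | ⟨p, ⟨⟨-, hj, -⟩, -⟩, rfl⟩
    · exact hE_zero hn hj
    · exact hE_zero hn (show 1 ≤ m by omega)
    · exact hE_zero hn hj
  · intro α hα c hc h0 j hj1 hj2
    by_contra hne
    obtain ⟨hmem, hp, hγ⟩ := CSp.supp hc hne
    have hαdd := eq_dd hp
    rcases h_classify hn (by omega) hmn hq hα hc hj1 hj2 hne with h | ⟨hγ0, -⟩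
    · refine hne (h0 _ (Finset.mem_union_left _ (Finset.mem_union_left _ ?_)))
      rw [H1, Finset.mem_image]
      exact ⟨j, by simp [hj1, hj2], by rw [← h, ← hαdd]⟩
    set γ := shift (hE q j) α with hγdef
    have hsum : ∑ x, γ x = q + 1 := (sum_shift hα hp).trans (sum_hE j)
    have hno : ∀ x : Fin (n + 1), 2 ≤ x.val → x.val ≤ m → q ≤ γ (v1 n) → γ x = 0 := fun x h1 h2 h3 => by
      by_contra h
      exact hγ ((mem_exps hn (by omega) _).2 (Or.inr (Or.inr (Or.inr ⟨h3, x, h1, h2, by omega⟩))))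
    rcases le_or_gt q (γ (v1 n)) with hq1 | hq1
    · have hle : γ (v1 n) ≤ q := by
        by_contra h
        exact hγ ((mem_exps hn (by omega) _).2 (Or.inr (Or.inr (Or.inl (by omega)))))
      rw [← Finset.add_sum_erase _ _ (Finset.mem_univ (v1 n))] at hsum
      obtain ⟨l, hl, hl0⟩ := Finset.exists_ne_zero_of_sum_ne_zero
        (show ∑ x ∈ Finset.univ.erase (v1 n), γ x ≠ 0 by omega)
      have hlv := Finset.ne_of_mem_erase hl
      rw [← Finset.add_sum_erase _ _ hl] at hsum
      have hlm : m + 1 ≤ l.val := by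
        by_contra h
        have h1 : l.val ≠ 1 := fun e => hlv (Fin.ext (e.trans hv.symm))
        have h2 : l.val ≠ 0 := fun e => hl0 (by rw [show l = 0 from Fin.ext e, hγ0])
        exact hl0 (hno l (by omega) (by omega) hq1)
      have hγe : γ = hE q l := by
        ext x
        rcases eq_or_ne x (v1 n) with rfl | hx1
        · simp [hE, single_eq_of_ne hlv.symm]; omega
        rcases eq_or_ne x l with rfl | hxl
        · simp [hE, single_eq_of_ne hx1]; omega
        · rw [hE_apply_of_ne hx1 hxl]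
          have := Finset.single_le_sum (f := fun y => γ y) (fun y _ => Nat.zero_le _)
            (show x ∈ (Finset.univ.erase (v1 n)).erase l by simp [hx1, hxl])
          beta_reduce at this
          omega
      refine hne (h0 _ (Finset.mem_union_right _ ?_))
      rw [H3, Finset.mem_image]
      exact ⟨(j, l), by simp [hj1, hj2, Nat.le_of_lt_succ l.isLt]; omega, by rw [← hγe, ← hαdd]⟩
    · have hlk : ∀ x : Fin (n + 1), 1 ≤ x.val → x.val ≤ m → (x = v1 n → γ (v1 n) + 1 < q ∨
          (γ (v1 n) + 1 = q ∧ ∀ y : Fin (n + 1), 2 ≤ y.val → y.val ≤ m → γ y = 0)) →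
          c (hE q x) = c (hE q j) := by
        intro x hx1 hx2 hxv
        refine link hc hmem (hE_mem hx1 hx2) hp x (fun y => ?_) ?_
        · simp only [hE, Finsupp.add_apply]; omega
        rw [mem_exps hn (by omega)]
        rintro (h | ⟨h, -⟩ | h | ⟨h, i, hi1, hi2, hi⟩)
        · simp [← hγdef, hγ0, single_eq_of_ne (show (0 : Fin (n + 1)) ≠ x from fun e => by rw [← e] at hx1; simp at hx1)] at h
        · simp [← hγdef, hγ0, single_eq_of_ne (show (0 : Fin (n + 1)) ≠ x from fun e => by rw [← e] at hx1; simp at hx1)] at h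
        · rw [← hγdef, Finsupp.add_apply] at h
          by_cases e : x = v1 n
          · have := hxv e; rw [e, single_eq_same] at h; omega
          · rw [single_eq_of_ne (Ne.symm e)] at h; omega
        · rw [← hγdef, Finsupp.add_apply] at h hi
          by_cases e : x = v1 n
          · rw [e, single_eq_same] at h
            rw [single_eq_of_ne (show i ≠ x from fun e' => by rw [e', e] at hi1; omega)] at hi
            rcases hxv e with h' | ⟨-, h'⟩
            · omega
            · rw [h' i hi1 hi2] at hi; omega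
          · rw [single_eq_of_ne (Ne.symm e)] at h; omega
      have hjM : c (hE q M) = c (hE q j) :=
        hlk M (show 1 ≤ m by omega) le_rfl (fun e => absurd e hM)
      have hγj : 1 ≤ γ j := by
        by_contra hlt
        have hj0 : γ j = 0 := by omega
        have h1j := cast_shift hp j
        rw [← hγdef, hj0] at h1j
        simp only [hE, Finsupp.add_apply, single_eq_same] at h1j
        have key : ∀ x : Fin (n + 1), c (hE q x) = c (hE q j) → x ≠ j → False := fun x hx hxj => by
          refine hne (hx.symm.trans (eq_zero_of_neg hc j ?_))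
          simp only [hE, Finsupp.add_apply, single_eq_of_ne (Ne.symm hxj)]
          omega
        rcases eq_or_ne j (v1 n) with hjv | hjv
        · exact key M hjM (by rw [hjv]; exact hM)
        · by_cases hex : ∃ y : Fin (n + 1), 2 ≤ y.val ∧ y.val ≤ m ∧ y ≠ j
          · obtain ⟨y, hy1, hy2, hyj⟩ := hex
            exact key y (hlk y (by omega) hy2 fun e => by rw [e] at hy1; omega) hyj
          · push Not at hex
            refine key (v1 n) (hlk (v1 n) hv.ge (by omega) fun _ => ?_) (Ne.symm hjv)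
            rcases lt_or_eq_of_le (Nat.succ_le_of_lt hq1) with h | h
            · exact Or.inl h
            · exact Or.inr ⟨h, fun y hy1 hy2 => by rw [hex y hy1 hy2, hj0]⟩
      refine hne (hjM.symm.trans (h0 _ (Finset.mem_union_left _ (Finset.mem_union_right _ ?_))))
      rw [H2, Finset.mem_image]
      have hle : single j 1 ≤ γ := by
        rw [Finsupp.single_le_iff]; exact hγj
      refine ⟨γ - single j 1, Finset.mem_erase.2 ⟨fun e => ?_, mem_anti.2 ⟨?_, ?_⟩⟩, ?_⟩
      · have := DFunLike.congr_fun e (v1 n)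
        simp only [Finsupp.tsub_apply, single_eq_same] at this
        omega
      · have : ∑ x, ((γ - single j 1 : Fin (n + 1) →₀ ℕ) x + single j 1 x) = q + 1 := by
          simp only [← Finsupp.add_apply, tsub_add_cancel_of_le hle, hsum]
        rw [Finset.sum_add_distrib] at this
        have h1 : ∑ x, (single j 1 : Fin (n + 1) →₀ ℕ) x = 1 := by simp [Finsupp.single_apply]
        omega
      · simp [hγ0]
      · refine Prod.ext (funext fun x => ?_) rfl
        have h1 : (γ x : ℤ) = _ := cast_shift hp x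
        have h2 := hle x
        simp only [dd, hE, M, Finsupp.add_apply, Finsupp.tsub_apply] at h1 h2 ⊢
        push_cast [h2]
        push_cast at h1
        omega
  · intro t ht
    simp only [Finset.mem_union, H1, H2, H3, Finset.mem_image, Finset.mem_filter, Finset.mem_product,
      Finset.mem_univ, true_and] at ht
    have hzero : ∀ {j : Fin (n + 1)} {F : Set (Fin (n + 1))} {c : (Fin (n + 1) →₀ ℕ) → k},
        (∀ β, c β ≠ 0 → hE q j ≤ β ∧ ∀ x ∉ F, β x = hE q j x) →
        ∀ {α : Fin (n + 1) → ℤ} {b}, b ≠ hE q j →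
          (α, b) ∈ H1 n q m ∪ H2 n q m (by omega) ∪ H3 n q m → c b = 0 := by
      intro j F c hs α b hb hT
      by_contra hn
      obtain ⟨hle, -⟩ := hs b hn
      simp only [Finset.mem_union, H1, H2, H3, Finset.mem_image, Prod.mk.injEq] at hT
      obtain ⟨i, rfl⟩ : ∃ i, b = hE q i := by
        rcases hT with (⟨i, -, -, rfl⟩ | ⟨P, -, -, rfl⟩) | ⟨p, -, -, rfl⟩ <;> exact ⟨_, rfl⟩
      refine hb (le_antisymm (fun x => ?_) hle)
      by_contra hx
      have h1 := Finset.sum_lt_sum (fun y (_ : y ∈ Finset.univ) => hle y) ⟨x, Finset.mem_univ x, by omega⟩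
      rw [sum_hE, sum_hE] at h1
      omega
    rcases ht with (⟨j, ⟨hj1, hj2⟩, rfl⟩ | ⟨P, hP', rfl⟩) | ⟨⟨j, l⟩, ⟨⟨hj1, hj2⟩, hl, -⟩, rfl⟩
    · obtain ⟨c, hc, h1, hs⟩ := nE_exists (k := k) hn (by omega) hmn hq hj1 hj2
      refine ⟨c, hc, h1, fun β hβ => ?_, fun b hb hT => hzero hs hb hT⟩
      rw [(hs β hβ).2 0 (fun e => by have := congrArg Fin.val e; simp at this; omega), hE_zero hn hj1]
    · obtain ⟨hPs, hP0, hP1⟩ := hP hP'
      set α := dd (P + single M 1) (hE q M) with hαdef
      have hαv : α (v1 n) = (P (v1 n) : ℤ) - q := by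
        simp [hαdef, dd, hE, single_eq_of_ne hM.symm]
      have hαne : ∀ x, x ≠ v1 n → α x = P x := fun x hx => by
        simp [hαdef, dd, hE, single_eq_of_ne hx]
      have hpos : ∀ β ∈ exps (bI k n q m), β 0 = 0 → Pos α β ∧
          ∃ x : Fin (n + 1), 1 ≤ x.val ∧ x.val + 1 ≤ n ∧ 1 ≤ shift β α x := by
        intro β hβ hβ0
        have hq' : q ≤ β (v1 n) := by
          rcases (mem_exps hn (by omega) β).1 hβ with h | ⟨h, -⟩ | h | ⟨h, -⟩ <;> omega
        have hp : Pos α β := fun x => by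
          rcases eq_or_ne x (v1 n) with rfl | hx
          · omega
          · have := hαne x hx; omega
        refine ⟨hp, ?_⟩
        rcases (mem_exps hn (by omega) β).1 hβ with h | ⟨h, -⟩ | h | ⟨h, x, hx1, hx2, hx⟩
        · omega
        · omega
        · refine ⟨v1 n, hv.ge, by omega, ?_⟩
          have := cast_shift hp (v1 n); omega
        · refine ⟨x, by omega, by omega, ?_⟩
          have := cast_shift hp x
          have := hαne x (fun e => by rw [e] at hx1; omega)
          omega
      have hns : shift (hE q M) α ∉ exps (bI k n q m) := by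
        rw [hαdef, shift_dd, mem_exps hn (by omega)]
        rintro (h | ⟨h, -⟩ | h | ⟨h, -⟩) <;>
          simp [hP0, single_eq_of_ne hM0.symm, single_eq_of_ne hM.symm] at h <;> omega
      have hm2 : (2 : ℕ) ≤ M.val := hm
      obtain ⟨c, hc, h1, hs⟩ := hmove_exists hn (show 1 ≤ m by omega) α M (show 1 ≤ m by omega) le_rfl
        (by rw [hαne 0 (fun e => by rw [← e] at hv; simp at hv), hP0]; rfl)
        (fun x hx => by rw [hαne x hx]; positivity) hns hpos (fun _ _ => hm2)
      refine ⟨c, hc, h1, fun β hβ => (hs β hβ).1, fun b hb hT => ?_⟩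
      by_contra hn0
      simp only [Finset.mem_union, H1, H2, H3, Finset.mem_image, Prod.mk.injEq, Finset.mem_filter,
        Finset.mem_product, Finset.mem_univ, true_and] at hT
      rcases hT with (⟨i, ⟨hi1, -⟩, he, rfl⟩ | ⟨P', -, -, rfl⟩) | ⟨⟨i, l⟩, ⟨⟨hi1, hi2⟩, hl, -⟩, he, rfl⟩
      · have := congrFun he 0
        rw [dd_nE_zero hn hi1, hαne 0 (fun e => by rw [← e] at hv; simp at hv), hP0] at this
        simp at this
      · exact hb rfl
      · simp only at hi1 hi2 hl
        have hli : l ≠ i := fun e => by rw [e] at hl; omega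
        have hi : i = v1 n := by
          by_contra hiv
          have := congrFun he i
          rw [hαne i hiv] at this
          simp [dd, hE, single_eq_of_ne hiv, single_eq_of_ne hli.symm] at this
        subst hi
        have h2 := congrFun he (v1 n)
        simp [dd, hE, single_eq_of_ne hli.symm] at h2
        have := (hs _ hn0).2 (by omega) hm
        simp [hE] at this
    · obtain ⟨c, hc, h1, hs⟩ := H3_exists (k := k) (q := q) hn (by omega) hmn hq hj1 hj2 hl
      refine ⟨c, hc, h1, fun β hβ => ?_, fun b hb hT => hzero hs hb hT⟩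
      rw [(hs β hβ).2 0 (fun e => by simp at e), hE_zero hn hj1]

theorem card_two (hn : 2 ≤ n) (hm : 2 ≤ m) (hmn : m + 1 ≤ n) (hq : 1 ≤ q) :
    (H1 n q m ∪ H2 n q m (by omega) ∪ H3 n q m).card = m + ((n + q - 1).choose (n - 1) - 1) + m * (n - m) := by
  classical
  have hv := val_v1 hn
  let M : Fin (n + 1) := ⟨m, by omega⟩
  have hM : M ≠ v1 n := fun e => by have := congrArg Fin.val e; simp [M, hv] at this; omega
  rw [Finset.card_union_of_disjoint, Finset.card_union_of_disjoint, card_H1 hn hmn, card_H2 hn (by omega),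
    card_H3 hn hmn]
  · rw [Finset.disjoint_left]
    rintro t h1 h2
    simp only [H1, H2, Finset.mem_image, Finset.mem_filter, Finset.mem_univ, true_and] at h1 h2
    obtain ⟨j, ⟨hj1, -⟩, rfl⟩ := h1
    obtain ⟨P, hP, he⟩ := h2
    have h := congrFun (Prod.ext_iff.1 he).1 0
    simp only at h
    rw [dd_nE_zero hn hj1] at h
    have hP0 := (mem_anti.1 (Finset.mem_erase.1 hP).2).2
    simp [dd, hE, hP0, single_eq_of_ne (show (0 : Fin (n + 1)) ≠ v1 n from fun e => by rw [← e] at hv; simp at hv)] at h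
  · rw [Finset.disjoint_left]
    rintro t h1 h3
    simp only [H1, H2, H3, Finset.mem_union, Finset.mem_image, Finset.mem_filter, Finset.mem_univ, true_and,
      Finset.mem_product] at h1 h3
    obtain ⟨⟨j, l⟩, ⟨⟨hj1, hj2⟩, hl, -⟩, rfl⟩ := h3
    rcases h1 with ⟨i, ⟨hi1, -⟩, he⟩ | ⟨P, hP, he⟩
    · have h := congrFun (Prod.ext_iff.1 he).1 0
      simp only at h hj1 hl
      rw [dd_nE_zero hn hi1] at h
      simp [dd, hE_zero hn hj1, hE_zero hn (show 1 ≤ l.val by omega)] at h
    · have hj : M = j := hE_injective hn (Prod.ext_iff.1 he).2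
      subst hj
      have h := DFunLike.congr_fun (eq_of_dd (Prod.ext_iff.1 he).1) M
      rw [hE_apply_of_ne hM (fun e => by rw [← e] at hl; simp [M] at hl)] at h
      simp [M] at h

/-- Classes `h₁ ↦ Γ` for `m = 1`. -/
noncomputable def H4 (n q : ℕ) : Finset (Pair n) :=
  ((((pos' n).finsuppAntidiag (q + 1)).erase (single (v1 n) (q + 1))).erase (single (Fin.last n) (q + 1))).image
    fun P => (dd P (hE q (v1 n)), hE q (v1 n))

theorem card_one (hn : 2 ≤ n) (hm : m = 1) :
    (H1 n q m ∪ H4 n q).card = 1 + ((n + q).choose (n - 1) - 2) := by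
  classical
  subst hm
  have hv := val_v1 hn
  have h10 : (0 : Fin (n + 1)) ≠ v1 n := fin_ne (by simp [hv])
  have hl0 : (0 : Fin (n + 1)) ≠ Fin.last n := fin_ne (by simp; omega)
  have hl1 : v1 n ≠ Fin.last n := fin_ne (by simp [hv]; omega)
  have ha : ∀ x : Fin (n + 1), x ≠ 0 → single x (q + 1) ∈ (pos' n).finsuppAntidiag (q + 1) := fun x hx => by
    rw [mem_anti]
    exact ⟨by simp [Finsupp.single_apply, Finset.sum_add_distrib], single_eq_of_ne hx.symm⟩
  rw [Finset.card_union_of_disjoint, card_H1 hn (by omega), H4,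
    Finset.card_image_of_injective _ fun P P' h => eq_of_dd (Prod.ext_iff.1 h).1,
    Finset.card_erase_of_mem, Finset.card_erase_of_mem (ha _ h10.symm), card_anti (q + 1) (by omega),
    show n + (q + 1) - 1 = n + q by omega]
  · omega
  · refine Finset.mem_erase.2 ⟨fun e => ?_, ha _ hl0.symm⟩
    have := DFunLike.congr_fun e (v1 n)
    simp [single_eq_of_ne hl1] at this
  · rw [Finset.disjoint_left]
    rintro t h1 h4
    simp only [H1, H4, Finset.mem_image, Finset.mem_filter, Finset.mem_univ, true_and, Finset.mem_erase] at h1 h4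
    obtain ⟨j, ⟨hj1, -⟩, rfl⟩ := h1
    obtain ⟨P, ⟨-, -, hP⟩, he⟩ := h4
    have h := congrFun (Prod.ext_iff.1 he).1 0
    simp only at h
    rw [dd_nE_zero hn hj1] at h
    simp [dd, hE, (mem_anti.1 hP).2, single_eq_of_ne h10] at h

theorem hSpec_one (hn : 3 ≤ n) (hm : m = 1) (hq : 1 ≤ q) : HSpec k n q m (H1 n q m ∪ H4 n q) := by
  classical
  subst hm
  have hn2 : 2 ≤ n := by omega
  have hv := val_v1 hn2
  have h10 : (0 : Fin (n + 1)) ≠ v1 n := fin_ne (by simp [hv])
  have hsame : ∀ t ∈ H1 n q 1 ∪ H4 n q, t.2 = hE q (v1 n) := by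
    intro t ht
    simp only [Finset.mem_union, H1, H4, Finset.mem_image, Finset.mem_filter, Finset.mem_univ, true_and] at ht
    rcases ht with ⟨j, ⟨hj1, hj2⟩, rfl⟩ | ⟨P, -, rfl⟩
    · rw [show j = v1 n from Fin.ext (by omega)]
    · rfl
  refine ⟨?_, fun t ht => by rw [hsame t ht, hE_zero hn2 hv.ge], ?_, ?_⟩
  · intro t ht
    simp only [Finset.mem_union, H1, H4, Finset.mem_image, Finset.mem_erase] at ht
    rcases ht with ⟨j, -, rfl⟩ | ⟨P, ⟨-, -, hP⟩, rfl⟩
    · exact sum_dd (by rw [sum_nE, sum_hE])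
    · exact sum_dd (by rw [(mem_anti.1 hP).1, sum_hE])
  · intro α hα c hc h0 j hj1 hj2
    obtain rfl : j = v1 n := Fin.ext (by omega)
    by_contra hne
    obtain ⟨hmem, hp, hγ⟩ := CSp.supp hc hne
    refine hne (h0 _ ?_)
    rcases h_classify hn2 le_rfl (by omega) hq hα hc hj1 hj2 hne with h | ⟨hγ0, hγn⟩
    · refine Finset.mem_union_left _ ?_
      rw [H1, Finset.mem_image]
      exact ⟨v1 n, by simp [hv], by rw [← h, ← eq_dd hp]⟩
    · refine Finset.mem_union_right _ ?_
      rw [H4, Finset.mem_image]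
      refine ⟨_, Finset.mem_erase.2 ⟨hγn, Finset.mem_erase.2 ⟨fun e => ?_,
        mem_anti.2 ⟨(sum_shift hα hp).trans (sum_hE _), hγ0⟩⟩⟩, by rw [← eq_dd hp]⟩
      exact hγ ((mem_exps hn2 le_rfl _).2 (Or.inr (Or.inr (Or.inl (by rw [e]; simp)))))
  · intro t ht
    have huniq : ∀ b, (t.1, b) ∈ H1 n q 1 ∪ H4 n q → b = t.2 := fun b hb => (hsame _ hb).trans (hsame t ht).symm
    simp only [Finset.mem_union, H1, H4, Finset.mem_image, Finset.mem_filter, Finset.mem_univ, true_and,
      Finset.mem_erase] at ht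
    rcases ht with ⟨j, ⟨hj1, hj2⟩, rfl⟩ | ⟨P, ⟨hPn, hP1, hP⟩, rfl⟩
    · obtain ⟨c, hc, h1, hs⟩ := nE_exists (k := k) hn2 le_rfl (by omega) hq hj1 hj2
      refine ⟨c, hc, h1, fun β hβ => ?_, fun b hb hT => absurd (huniq b hT) hb⟩
      rw [(hs β hβ).2 0 (fin_ne (by simp; omega)), hE_zero hn2 hj1]
    · obtain ⟨hPs, hP0⟩ := mem_anti.1 hP
      have hv1 : dd P (hE q (v1 n)) (v1 n) = (P (v1 n) : ℤ) - (q + 1) := by simp [dd, hE]
      have hvne : ∀ x, x ≠ v1 n → dd P (hE q (v1 n)) x = P x := fun x hx => by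
        simp [dd, hE, single_eq_of_ne hx]
      have hns : P ∉ exps (bI k n q 1) := by
        rw [mem_exps hn2 le_rfl]
        rintro (h | ⟨h, -⟩ | h | ⟨-, i, hi1, hi2, -⟩)
        · omega
        · omega
        · refine hP1 (Finsupp.ext fun x => ?_)
          rw [← Finset.add_sum_erase _ _ (Finset.mem_univ (v1 n))] at hPs
          rcases eq_or_ne x (v1 n) with rfl | hx
          · rw [single_eq_same]; omega
          · rw [single_eq_of_ne hx]
            have := Finset.single_le_sum (f := fun y => P y) (fun y _ => Nat.zero_le _)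
              (Finset.mem_erase.2 ⟨hx, Finset.mem_univ x⟩)
            beta_reduce at this
            omega
        · omega
      have hpos : ∀ β ∈ exps (bI k n q 1), β 0 = 0 → Pos (dd P (hE q (v1 n))) β ∧
          ∃ x : Fin (n + 1), 1 ≤ x.val ∧ x.val + 1 ≤ n ∧ 1 ≤ shift β (dd P (hE q (v1 n))) x := by
        intro β hβ hβ0
        have hq' : q + 1 ≤ β (v1 n) := by
          rcases (mem_exps hn2 le_rfl β).1 hβ with h | ⟨h, -⟩ | h | ⟨-, i, hi1, hi2, -⟩ <;> omega
        have hp : Pos (dd P (hE q (v1 n))) β := fun x => by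
          rcases eq_or_ne x (v1 n) with rfl | hx
          · omega
          · have := hvne x hx; omega
        refine ⟨hp, ?_⟩
        obtain ⟨x, hx1, hx2, hx⟩ : ∃ x : Fin (n + 1), 1 ≤ x.val ∧ x.val + 1 ≤ n ∧ 1 ≤ P x := by
          by_contra hex
          push Not at hex
          refine hPn (Finsupp.ext fun x => ?_)
          have hz : ∀ y : Fin (n + 1), y ≠ Fin.last n → P y = 0 := fun y hy => by
            rcases eq_or_ne y 0 with rfl | hy0
            · exact hP0
            · have hyn : y.val ≠ n := fun e => hy (Fin.ext (by simpa using e))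
              have := hex y (Nat.one_le_iff_ne_zero.2 fun e => hy0 (Fin.ext e)) (by omega)
              omega
          rw [Finset.sum_eq_single (Fin.last n) (fun y _ hy => hz y hy) (by simp)] at hPs
          rcases eq_or_ne x (Fin.last n) with rfl | hx
          · rw [single_eq_same, hPs]
          · rw [single_eq_of_ne hx, hz x hx]
        refine ⟨x, hx1, hx2, ?_⟩
        have := cast_shift hp x
        rcases eq_or_ne x (v1 n) with rfl | hxv
        · omega
        · have := hvne x hxv; omega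
      obtain ⟨c, hc, h1, hs⟩ := hmove_exists hn2 le_rfl (dd P (hE q (v1 n))) (v1 n) hv.ge hv.le
        (by rw [hvne 0 h10, hP0]; rfl) (fun x hx => by rw [hvne x hx]; positivity)
        (by rw [shift_dd]; exact hns) hpos (fun _ h => absurd h (by omega))
      exact ⟨c, hc, h1, fun β hβ => (hs β hβ).1, fun b hb hT => absurd (huniq b hT) hb⟩

end Groth.Agent.Hilb6.Borel
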