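import Groth.Agent.Hilb6.Stair

/-!
# Bounding pieces by staircase numbers
-/

namespace Groth.Agent.Hilb6

open MvPolynomial W4c1hilbpn

variable {k : Type*} [Field k] {I : Ideal (MvPolynomial (Fin 3) k)}
variable (hI : IsMonomial I) [Module.Finite k (MvPolynomial (Fin 3) k ⧸ I)]
include hI

/-- Every nonzero family takes a nonzero value on the bottom of an outer column. -/
theorem exists_bottom {α : Fin 3 → ℤ} {c : (Fin 3 →₀ ℕ) → k} (hc : c ∈ CSp I α) (hne : c ≠ 0) :
    ∃ u v : ℕ, c (e3 u v (stairZ I u v)) ≠ 0 ∧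
      shift (e3 u v (stairZ I u v)) α + Finsupp.single 0 1 ∈ exps I ∧
      shift (e3 u v (stairZ I u v)) α + Finsupp.single 1 1 ∈ exps I := by
  classical
  obtain ⟨β₀, hβ₀⟩ := Function.ne_iff.mp hne
  obtain ⟨β, hβ, hmax⟩ := (supp_finite hI hc).exists_maximalFor (fun β : Fin 3 →₀ ℕ => β 0 + β 1) _ ⟨β₀, hβ₀⟩
  obtain ⟨h1, -, h3⟩ := CSp.supp hc (hβ : c β ≠ 0)
  set b := e3 (β 0) (β 1) (stairZ I (β 0) (β 1)) with hb
  have hz : stairZ I (β 0) (β 1) ≤ β 2 := (e3_mem_iff_stairZ_le hI _ _ _).mp (by rwa [e3_eta])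
  have hle : b ≤ β := by rw [hb]; conv_rhs => rw [← e3_eta β]
                         exact e3_le le_rfl le_rfl hz
  have hcb : c b = c β := (CSp.eq_of_le hc (e3_stairZ_mem hI _ _) hle h3).symm
  have hne' : c b ≠ 0 := hcb ▸ hβ
  obtain ⟨g1, g2, -⟩ := CSp.supp hc hne'
  have hup : ∀ i : Fin 3, i ≠ 2 → shift b α + Finsupp.single i 1 ∈ exps I := fun i hi => by
    by_contra hn
    have he : c (b + Finsupp.single i 1) = c b := hc.2 b g1 i (by rwa [shift_add g2])
    have hlt : β 0 + β 1 < (b + Finsupp.single i 1 : Fin 3 →₀ ℕ) 0 + (b + Finsupp.single i 1 : Fin 3 →₀ ℕ) 1 := by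
      fin_cases i <;> simp [hb, e3_apply0, e3_apply1] at hi ⊢ <;> omega
    exact absurd (hmax (show c (b + Finsupp.single i 1) ≠ 0 by rw [he]; exact hne') hlt.le) (not_le.mpr hlt)
  exact ⟨β 0, β 1, hne', hup 0 (by decide), hup 1 (by decide)⟩

open scoped Classical in
theorem finrank_ppn_le (a1 a2 : ℕ) :
    Module.finrank k ↥(⨆ α : {α : Fin 3 → ℤ // α 0 = (a1 : ℤ) ∧ α 1 = (a2 : ℤ) ∧ α 2 < 0}, tPiece I α.1) ≤
      ∑ᶠ p : ℕ × ℕ, (if a1 ≤ p.1 ∧ a2 ≤ p.2
        then stairZ I p.1 p.2 - max (stairZ I (p.1 + 1) p.2) (stairZ I p.1 (p.2 + 1)) else 0) := by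
  set Pf : Finset (ℕ × ℕ) := (stairZ_finite_support hI).toFinset.filter (fun p => a1 ≤ p.1 ∧ a2 ≤ p.2) with hPf
  have hsupp : (Function.support fun p : ℕ × ℕ => if a1 ≤ p.1 ∧ a2 ≤ p.2
      then stairZ I p.1 p.2 - max (stairZ I (p.1 + 1) p.2) (stairZ I p.1 (p.2 + 1)) else 0) ⊆ Pf := by
    intro p hp
    simp only [Function.mem_support, ne_eq, ite_eq_right_iff, Classical.not_imp] at hp
    simp only [hPf, Finset.coe_filter, Set.Finite.mem_toFinset, Set.mem_setOf_eq]
    exact ⟨Nat.pos_of_ne_zero fun h => hp.2 (by rw [h, Nat.zero_sub]), hp.1⟩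
  rw [finsum_eq_sum_of_support_subset _ hsupp,
    finrank_iSup hI _ (finite_CSp_ne_bot hI).toFinset fun α _ h => (Set.Finite.mem_toFinset _).mpr h]
  set s := (finite_CSp_ne_bot (I := I) hI).toFinset.filter
    (fun α : Fin 3 → ℤ => α 0 = (a1 : ℤ) ∧ α 1 = (a2 : ℤ) ∧ α 2 < 0)
  let g : (Fin 3 → ℤ) → ℕ × ℕ → ℤ := fun α p => (stairZ I (p.1 - a1) (p.2 - a2) : ℤ) + α 2
  let cond : (Fin 3 → ℤ) → ℕ × ℕ → Prop := fun α p =>
    ((max (stairZ I (p.1 + 1) p.2) (stairZ I p.1 (p.2 + 1)) : ℕ) : ℤ) ≤ g α p ∧ g α p < stairZ I p.1 p.2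
  have hle : ∀ α ∈ s, Module.finrank k (CSp I α) ≤ (Pf.filter (cond α)).card := by
    intro α hα
    obtain ⟨-, h0, h1, -⟩ := Finset.mem_filter.mp hα
    let T := Pf.filter (cond α)
    let F : CSp I α →ₗ[k] (T → k) := LinearMap.pi fun p =>
      (LinearMap.proj (e3 (p.1.1 - a1) (p.1.2 - a2) (stairZ I (p.1.1 - a1) (p.1.2 - a2)))).comp (CSp I α).subtype
    have hinj : Function.Injective F := by
      rw [injective_iff_map_eq_zero]
      intro c hc
      by_contra hne
      obtain ⟨u, v, hn, hx, hy⟩ := exists_bottom hI c.2 fun h => hne (Subtype.ext h)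
      obtain ⟨-, hp, hs⟩ := CSp.supp c.2 hn
      have p2 := hp 2
      have e0 := cast_shift hp 0
      have e1 := cast_shift hp 1
      have e2 := cast_shift hp 2
      simp only [e3_apply0, e3_apply1, e3_apply2] at p2 e0 e1 e2
      set t := shift (e3 u v (stairZ I u v)) α with ht
      have ht0 : t 0 = u + a1 := by omega
      have ht1 : t 1 = v + a2 := by omega
      rw [← e3_eta t, e3_add_single0, e3_mem_iff_stairZ_le hI, ht0, ht1] at hx
      rw [← e3_eta t, e3_add_single1, e3_mem_iff_stairZ_le hI, ht0, ht1] at hy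
      rw [← e3_eta t, e3_mem_iff_stairZ_le hI, ht0, ht1, not_le] at hs
      have hmem : ((u + a1, v + a2) : ℕ × ℕ) ∈ T := by
        simp only [T, hPf, Finset.mem_filter, Set.Finite.mem_toFinset, Set.mem_setOf_eq, cond, g,
          Nat.add_sub_cancel]
        exact ⟨⟨lt_of_le_of_lt (Nat.zero_le _) hs, by omega, by omega⟩, by omega, by omega⟩
      refine hn ?_
      have := congrFun hc ⟨_, hmem⟩
      simpa [F] using this
    have := LinearMap.finrank_le_finrank_of_injective hinj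
    rwa [Module.finrank_pi, Fintype.card_coe] at this
  refine (Finset.sum_le_sum hle).trans ?_
  simp only [Finset.card_filter]
  rw [Finset.sum_comm]
  refine Finset.sum_le_sum fun p hp => ?_
  rw [← Finset.card_filter, if_pos (Finset.mem_filter.mp hp).2]
  calc (s.filter fun α => cond α p).card
      ≤ (Finset.Ico (max (stairZ I (p.1 + 1) p.2) (stairZ I p.1 (p.2 + 1))) (stairZ I p.1 p.2)).card := by
        refine Finset.card_le_card_of_injOn (fun α => (g α p).toNat) (fun α hα => ?_) ?_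
        · obtain ⟨-, h1, h2⟩ := Finset.mem_filter.mp hα
          simp only [Finset.coe_Ico, Set.mem_Ico]
          omega
        · intro α hα α' hα' he
          simp only [Finset.coe_filter, Set.mem_setOf_eq, s, Finset.mem_filter, cond, g] at hα hα' he
          funext l
          fin_cases l <;> simp <;> omega
    _ = _ := Nat.card_Ico _ _

end Groth.Agent.Hilb6
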