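import Groth.Agent.Hilb6.Core

/-!
# Graded pieces as bounded components
-/

namespace Groth.Agent.Hilb6

open MvPolynomial W4c1hilbpn

variable {σ : Type*} {k : Type*} [Field k] {I : Ideal (MvPolynomial σ k)}

theorem compl_exps_finite (hI : IsMonomial I) [Module.Finite k (MvPolynomial σ k ⧸ I)] :
    (exps I)ᶜ.Finite := by
  classical
  have h : LinearIndependent k
      (fun γ : ((exps I)ᶜ : Set (σ →₀ ℕ)) => Ideal.Quotient.mk I (monomial γ.1 (1 : k))) := by
    rw [linearIndependent_iff']
    intro s g hg γ hγ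
    have h1 := congrFun (congrArg (nf hI) hg) γ.1
    simp only [map_sum, map_smul, Finset.sum_apply, Pi.smul_apply, map_zero, Pi.zero_apply,
      nf_mk_apply hI _ γ.2, coeff_monomial] at h1
    rw [Finset.sum_eq_single γ (fun b _ hb => by
        rw [if_neg fun he => hb (Subtype.ext he), smul_zero]) (fun hn => absurd hγ hn), if_pos rfl,
      smul_eq_mul, mul_one] at h1
    exact h1
  haveI := h.finite
  exact Set.toFinite _

/-- Finitely many multidegrees carry a nonzero piece. -/
theorem finite_CSp_ne_bot [Finite σ] (hI : IsMonomial I) [Module.Finite k (MvPolynomial σ k ⧸ I)] :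
    {α : σ → ℤ | CSp I α ≠ ⊥}.Finite := by
  refine (((mins_finite (I := I)).prod (compl_exps_finite hI)).image
    (fun p : (σ →₀ ℕ) × (σ →₀ ℕ) => fun i => (p.2 i : ℤ) - p.1 i)).subset fun α hα => ?_
  obtain ⟨c, hc, hne⟩ := Submodule.exists_mem_ne_zero_of_ne_bot hα
  obtain ⟨β, hβ⟩ := Function.ne_iff.mp hne
  obtain ⟨b, hb, -, he⟩ := CSp.exists_min hc hβ
  obtain ⟨-, hp, hs⟩ := CSp.supp hc (fun h => hβ (he ▸ h) : c b ≠ 0)
  exact ⟨(b, shift b α), ⟨hb, hs⟩, funext fun i => by
    have := cast_shift hp i; show (shift b α i : ℤ) - b i = α i; omega⟩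

theorem CSp_eq_bot_of_nonneg [Finite σ] {α : σ → ℤ} (h : ∀ i, 0 ≤ α i) : CSp I α = ⊥ := by
  refine (Submodule.eq_bot_iff _).mpr fun c hc => funext fun β => by_contra fun hn => ?_
  obtain ⟨h1, h2, h3⟩ := CSp.supp hc hn
  exact h3 (exps_upper h1 fun i => by have := cast_shift h2 i; have := h i; omega)

theorem supp_finite [Finite σ] (hI : IsMonomial I) [Module.Finite k (MvPolynomial σ k ⧸ I)]
    {α : σ → ℤ} {c : (σ →₀ ℕ) → k} (hc : c ∈ CSp I α) : {β | c β ≠ 0}.Finite := by
  refine Set.Finite.of_finite_image (f := fun β => shift β α) ((compl_exps_finite hI).subset ?_) fun β hβ γ hγ he => ?_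
  · rintro _ ⟨β, hβ, rfl⟩; exact (CSp.supp hc hβ).2.2
  · exact shift_injective (CSp.supp hc hβ).2.1 (CSp.supp hc hγ).2.1 he

theorem CSp_eq_bot_of_neg [Fintype σ] [Nontrivial σ] (hI : IsMonomial I)
    [Module.Finite k (MvPolynomial σ k ⧸ I)] {α : σ → ℤ} (h : ∀ i, α i < 0) : CSp I α = ⊥ := by
  classical
  refine (Submodule.eq_bot_iff _).mpr fun c hc => by_contra fun hne => ?_
  obtain ⟨β₀, hβ₀⟩ := Function.ne_iff.mp hne
  obtain ⟨j⟩ := (inferInstance : Nonempty σ)
  set S := {β | c β ≠ 0} with hS
  have hfin : S.Finite := supp_finite hI hc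
  obtain ⟨β₁, hβ₁, hmin⟩ := hfin.exists_minimalFor (fun β : σ →₀ ℕ => β j) S ⟨β₀, hβ₀⟩
  obtain ⟨β, ⟨hβ, hβj⟩, hmax⟩ := (hfin.inter_of_left {β | β j = β₁ j}).exists_maximalFor
    (fun β : σ →₀ ℕ => ∑ i, β i) _ ⟨β₁, hβ₁, rfl⟩
  obtain ⟨h1, h2, h3⟩ := CSp.supp hc (hβ : c β ≠ 0)
  have hup : ∀ i, i ≠ j → shift β α + Finsupp.single i 1 ∈ exps I := by
    intro i hi
    by_contra hn
    have he : c (β + Finsupp.single i 1) = c β := hc.2 β h1 i (by rwa [shift_add h2])
    have hmem : β + Finsupp.single i 1 ∈ S ∩ {β | β j = β₁ j} := by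
      refine ⟨show c (β + Finsupp.single i 1) ≠ 0 by rw [he]; exact hβ, ?_⟩
      show (β + Finsupp.single i 1 : σ →₀ ℕ) j = β₁ j
      rw [Finsupp.add_apply, Finsupp.single_eq_of_ne (Ne.symm hi), add_zero]
      exact hβj
    have hlt : ∑ l, β l < ∑ l, (β + Finsupp.single i 1 : σ →₀ ℕ) l := by
      simp only [Finsupp.add_apply, Finset.sum_add_distrib, Finsupp.sum_single_index, Finsupp.single_apply,
        Finset.sum_ite_eq, Finset.mem_univ, if_true]
      omega
    exact absurd (hmax hmem hlt.le) (not_le.mpr hlt)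
  obtain ⟨i, hi⟩ := exists_ne j
  have hj1 : 1 ≤ β j := by have := h2 j; have := h j; omega
  set β' := β - Finsupp.single j 1
  have hβ' : β = β' + Finsupp.single j 1 :=
    (tsub_add_cancel_of_le (Finsupp.single_le_iff.mpr hj1)).symm
  have hmem' : β' ∈ exps I := exps_upper (hup i hi) fun l => by
    have := cast_shift h2 l
    have := h l
    rw [Finsupp.add_apply, Finsupp.tsub_apply]
    rcases eq_or_ne l j with rfl | hl
    · rw [Finsupp.single_eq_same, Finsupp.single_eq_of_ne (Ne.symm hi)]; omega
    · rw [Finsupp.single_eq_of_ne hl]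
      rcases eq_or_ne l i with rfl | hli
      · rw [Finsupp.single_eq_same]; omega
      · rw [Finsupp.single_eq_of_ne hli]; omega
  have he : c β' ≠ 0 := by
    have := hc.2 β' hmem' j (by rwa [← hβ'])
    rw [← hβ'] at this
    exact this ▸ hβ
  have hlt : β' j < β₁ j := by
    rw [← (hβj : β j = β₁ j), hβ', Finsupp.add_apply, Finsupp.single_eq_same]
    omega
  exact absurd (hmin he hlt.le) (not_le.mpr hlt)

section Components

variable [Fintype σ] [DecidableEq σ] (α : σ → ℤ)

/-- The lattice point of an exponent. -/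
def pt (β : σ →₀ ℕ) : σ → ℤ := fun i => (β i : ℤ) + α i

theorem pt_injective : Function.Injective (pt α) := fun β γ h => by
  ext i
  have := congrFun h i
  simp [pt] at this
  omega

theorem mem_region_iff (β : σ →₀ ℕ) :
    pt α β ∈ region I α ↔ β ∈ exps I ∧ ¬ (Pos α β ∧ shift β α ∈ exps I) := by
  constructor
  · rintro ⟨⟨β', h1, h2⟩, h3⟩
    exact ⟨pt_injective α h2 ▸ h1, h3⟩
  · rintro ⟨h1, h2⟩
    exact ⟨⟨β, h1, rfl⟩, h2⟩

/-- The exponent of a point of the region. -/
noncomputable def toB (u : region I α) : σ →₀ ℕ := u.2.1.choose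

theorem pt_toB (u : region I α) : pt α (toB α u) = u.1 := u.2.1.choose_spec.2.symm

theorem toB_mk {β : σ →₀ ℕ} (h : pt α β ∈ region I α) : toB α (⟨pt α β, h⟩ : region I α) = β :=
  pt_injective α (pt_toB α _)

theorem step_adj {a b : σ → ℤ} (h : (stepGraph σ).Adj a b) :
    ∃ i, b = a + Pi.single i 1 ∨ a = b + Pi.single i 1 := by
  classical
  rw [stepGraph, SimpleGraph.fromRel_adj] at h
  have hsum : ∑ i, |a i - b i| = 1 := by
    rcases h.2 with h | h
    · exact h
    · rw [← h]; exact Finset.sum_congr rfl fun i _ => abs_sub_comm _ _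
  obtain ⟨i, hi⟩ : ∃ i, a i ≠ b i := Function.ne_iff.mp h.1
  rw [← Finset.add_sum_erase _ _ (Finset.mem_univ i)] at hsum
  have h1 : 1 ≤ |a i - b i| := Int.one_le_abs (sub_ne_zero.mpr hi)
  have h0 : 0 ≤ ∑ l ∈ Finset.univ.erase i, |a l - b l| := Finset.sum_nonneg fun l _ => abs_nonneg _
  have hz := (Finset.sum_eq_zero_iff_of_nonneg (fun l _ => abs_nonneg (a l - b l))).mp
    (show ∑ l ∈ Finset.univ.erase i, |a l - b l| = 0 by omega)
  have hrest : ∀ l, l ≠ i → a l = b l := fun l hl =>
    sub_eq_zero.mp (abs_eq_zero.mp (hz l (Finset.mem_erase.mpr ⟨hl, Finset.mem_univ l⟩)))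
  refine ⟨i, ?_⟩
  rcases (abs_eq (zero_le_one' ℤ)).mp (show |a i - b i| = 1 by omega) with h | h
  · right
    funext l
    rcases eq_or_ne l i with rfl | hl
    · simp; omega
    · simp [Pi.single_eq_of_ne hl, hrest l hl]
  · left
    funext l
    rcases eq_or_ne l i with rfl | hl
    · simp; omega
    · simp [Pi.single_eq_of_ne hl, hrest l hl]

theorem pt_add_single [DecidableEq σ] (β : σ →₀ ℕ) (i : σ) (t : ℕ) :
    pt α (β + Finsupp.single i t) = pt α β + Pi.single i (t : ℤ) := by
  funext l
  rcases eq_or_ne l i with rfl | hl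
  · simp [pt]; ring
  · simp [pt, Pi.single_eq_of_ne hl, hl]

/-- The induced graph on the region. -/
noncomputable abbrev G (I : Ideal (MvPolynomial σ k)) : SimpleGraph (region I α) :=
  (stepGraph σ).induce (region I α)

theorem adj_step {β : σ →₀ ℕ} (i : σ) (h : pt α β ∈ region I α)
    (h' : pt α (β + Finsupp.single i 1) ∈ region I α) :
    (G α I).Adj ⟨_, h⟩ ⟨_, h'⟩ := by
  classical
  show (stepGraph σ).Adj (pt α β) (pt α (β + Finsupp.single i 1))
  rw [stepGraph, SimpleGraph.fromRel_adj]
  refine ⟨fun he => by simpa using congrArg (fun β : σ →₀ ℕ => β i) (pt_injective α he), Or.inl ?_⟩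
  rw [pt_add_single]
  rw [Finset.sum_eq_single i (fun l _ hl => by simp [Pi.single_eq_of_ne hl]) (fun hn => absurd (Finset.mem_univ i) hn)]
  simp

theorem val_adj {c : (σ →₀ ℕ) → k} (hc : c ∈ CSp I α) {u v : region I α} (h : (G α I).Adj u v) :
    c (toB α u) = c (toB α v) := by
  classical
  have key : ∀ u v : region I α, ∀ i, v.1 = u.1 + Pi.single i 1 → c (toB α v) = c (toB α u) := by
    intro u v i he
    have hb : toB α v = toB α u + Finsupp.single i 1 := pt_injective α (by
      rw [pt_toB, pt_add_single, pt_toB, he]; norm_cast)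
    obtain ⟨hu, -⟩ := (mem_region_iff α _).mp (pt_toB α u ▸ u.2)
    have hv := (mem_region_iff α _).mp (pt_toB α v ▸ v.2)
    rw [hb] at hv ⊢
    by_cases he' : shift (toB α u + Finsupp.single i 1) α ∈ exps I
    · have hp : ¬ Pos α (toB α u + Finsupp.single i 1) := fun hp => hv.2 ⟨hp, he'⟩
      rw [hc.1 _ fun hh => hp hh.2.1,
        hc.1 _ fun hh => hp (hh.2.1.mono (le_add_of_nonneg_right (zero_le (α := σ →₀ ℕ))))]
    · exact hc.2 _ hu i he'
  obtain ⟨i, hi | hi⟩ := step_adj h
  · exact (key u v i hi).symm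
  · exact key v u i hi

theorem val_reachable {c : (σ →₀ ℕ) → k} (hc : c ∈ CSp I α) {u v : region I α}
    (h : (G α I).Reachable u v) : c (toB α u) = c (toB α v) := by
  obtain ⟨w⟩ := h
  induction w with
  | nil => rfl
  | cons h _ ih => exact (val_adj α hc h).trans ih

theorem not_finite_of_neg [Nontrivial σ] {u : region I α} {j : σ} (hj : u.1 j < 0) :
    ¬ ((G α I).connectedComponentMk u).supp.Finite := by
  classical
  obtain ⟨i, hi⟩ := exists_ne j
  have hu := (mem_region_iff α _).mp (pt_toB α u ▸ u.2)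
  have hmem : ∀ t : ℕ, pt α (toB α u + Finsupp.single i t) ∈ region I α := fun t => by
    refine (mem_region_iff α _).mpr ⟨exps_upper hu.1 (le_add_of_nonneg_right (zero_le (α := σ →₀ ℕ))), fun h => ?_⟩
    have h1 := h.1 j
    rw [← pt_toB α u] at hj
    simp [pt, Finsupp.single_eq_of_ne (Ne.symm hi)] at h1 hj
    omega
  refine Set.infinite_of_injective_forall_mem (f := fun t => (⟨_, hmem t⟩ : region I α)) ?_ fun t => ?_
  · intro s t h
    simpa using congrArg (fun β : σ →₀ ℕ => β i) (pt_injective α (congrArg Subtype.val h))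
  · rw [SimpleGraph.ConnectedComponent.mem_supp_iff]
    induction t with
    | zero =>
      refine congrArg _ (Subtype.ext ?_)
      show pt α (toB α u + Finsupp.single i 0) = u.1
      rw [Finsupp.single_zero, add_zero, pt_toB]
    | succ t ih =>
      rw [← ih]
      refine (SimpleGraph.ConnectedComponent.connectedComponentMk_eq_of_adj ?_).symm
      have h' : pt α (toB α u + Finsupp.single i t + Finsupp.single i 1) ∈ region I α := by
        rw [add_assoc, ← Finsupp.single_add]; exact hmem (t + 1)
      convert adj_step α i (hmem t) h' using 2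
      rw [add_assoc, ← Finsupp.single_add]

variable [Nontrivial σ] (hI : IsMonomial I) [Module.Finite k (MvPolynomial σ k ⧸ I)]

theorem pos_of_finite {u : region I α} (h : ((G α I).connectedComponentMk u).supp.Finite) :
    Pos α (toB α u) ∧ shift (toB α u) α ∉ exps I := by
  have hp : Pos α (toB α u) := fun i => by
    by_contra hn
    refine not_finite_of_neg α (j := i) ?_ h
    rw [← pt_toB α u]
    exact not_le.mp hn
  exact ⟨hp, fun he => ((mem_region_iff α _).mp (pt_toB α u ▸ u.2)).2 ⟨hp, he⟩⟩

include hI in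
omit [Nontrivial σ] in
theorem finite_of_forall_pos (C : (G α I).ConnectedComponent)
    (h : ∀ u ∈ C.supp, Pos α (toB α u)) : C.supp.Finite := by
  refine Set.Finite.of_finite_image (f := fun u => shift (toB α u) α)
    ((compl_exps_finite hI).subset ?_) fun u hu v hv he => ?_
  · rintro _ ⟨u, hu, rfl⟩
    exact fun he => ((mem_region_iff α _).mp (pt_toB α u ▸ u.2)).2 ⟨h u hu, he⟩
  · refine Subtype.ext ?_
    rw [← pt_toB α u, ← pt_toB α v, shift_injective (h u hu) (h v hv) he]

/-- The bounded components. -/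
abbrev Bd (I : Ideal (MvPolynomial σ k)) := {C : (G α I).ConnectedComponent // C.supp.Finite}

/-- The value of a family on a component. -/
noncomputable def evalC (c : CSp I α) : (G α I).ConnectedComponent → k :=
  SimpleGraph.ConnectedComponent.lift (fun u => c.1 (toB α u)) fun _ _ p _ => val_reachable α c.2 ⟨p⟩

theorem evalC_mk (c : CSp I α) (u : region I α) :
    evalC α c ((G α I).connectedComponentMk u) = c.1 (toB α u) := rfl

open Classical in
/-- The family attached to values on bounded components. -/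
noncomputable def ofVal (f : Bd α I → k) : CSp I α :=
  ⟨fun β => if h : pt α β ∈ region I α then
      (if hf : ((G α I).connectedComponentMk ⟨_, h⟩).supp.Finite then f ⟨_, hf⟩ else 0) else 0, by
    refine ⟨fun β hβ => ?_, fun β hβ i hi => ?_⟩
    · dsimp only
      split_ifs with h hf
      · obtain ⟨hp, hs⟩ := pos_of_finite α hf
        rw [toB_mk] at hp hs
        exact absurd ⟨((mem_region_iff α _).mp h).1, hp, hs⟩ hβ
      · rfl
      · rfl
    · dsimp only
      have hle : β ≤ β + Finsupp.single i 1 := le_add_of_nonneg_right (zero_le (α := σ →₀ ℕ))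
      have h' : pt α (β + Finsupp.single i 1) ∈ region I α :=
        (mem_region_iff α _).mpr ⟨exps_upper hβ hle, fun hh => hi hh.2⟩
      have h : pt α β ∈ region I α :=
        (mem_region_iff α _).mpr ⟨hβ, fun hh => hi (exps_upper hh.2 fun l => by
          have := cast_shift hh.1 l; have := cast_shift (hh.1.mono hle) l
          have := hle l; omega)⟩
      rw [dif_pos h', dif_pos h]
      have he : (G α I).connectedComponentMk ⟨_, h'⟩ = (G α I).connectedComponentMk ⟨_, h⟩ :=
        (SimpleGraph.ConnectedComponent.connectedComponentMk_eq_of_adj (adj_step α i h h')).symm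
      by_cases hf : ((G α I).connectedComponentMk ⟨_, h⟩).supp.Finite
      · rw [dif_pos hf, dif_pos (show ((G α I).connectedComponentMk ⟨_, h'⟩).supp.Finite by rw [he]; exact hf)]
        exact congrArg f (Subtype.ext he)
      · rw [dif_neg hf, dif_neg (show ¬ ((G α I).connectedComponentMk ⟨_, h'⟩).supp.Finite by rw [he]; exact hf)]⟩

/-- Families are functions on bounded components. -/
noncomputable def compEquiv : CSp I α ≃ₗ[k] (Bd α I → k) where
  toFun c C := evalC α c C.1
  map_add' c d := by
    funext C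
    obtain ⟨C, hC⟩ := C
    induction C using SimpleGraph.ConnectedComponent.ind with | _ u => rfl
  map_smul' a c := by
    funext C
    obtain ⟨C, hC⟩ := C
    induction C using SimpleGraph.ConnectedComponent.ind with | _ u => rfl
  invFun := ofVal α
  left_inv c := by
    classical
    refine Subtype.ext (funext fun β => ?_)
    show dite _ _ _ = c.1 β
    split_ifs with h hf
    · show c.1 (toB α ⟨_, h⟩) = c.1 β
      rw [toB_mk]
    · obtain ⟨u, hu, hup⟩ : ∃ u ∈ ((G α I).connectedComponentMk ⟨_, h⟩).supp, ¬ Pos α (toB α u) := by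
        by_contra hn
        push Not at hn
        exact hf (finite_of_forall_pos α hI _ hn)
      have hr := val_reachable α c.2 (SimpleGraph.ConnectedComponent.exact hu)
      rw [toB_mk] at hr
      rw [← hr, c.2.1 _ fun hh => hup hh.2.1]
    · exact (c.2.1 β fun hh => h ((mem_region_iff α β).mpr ⟨hh.1, fun h2 => hh.2.2 h2.2⟩)).symm
  right_inv f := by
    classical
    funext C
    obtain ⟨C, hC⟩ := C
    induction C using SimpleGraph.ConnectedComponent.ind with
    | _ u =>
      show dite _ _ _ = _
      have h : pt α (toB α u) ∈ region I α := by rw [pt_toB]; exact u.2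
      have he : (⟨_, h⟩ : region I α) = u := Subtype.ext (pt_toB α u)
      rw [dif_pos h, dif_pos (show ((G α I).connectedComponentMk ⟨_, h⟩).supp.Finite by rw [he]; exact hC)]
      exact congrArg f (Subtype.ext (congrArg (G α I).connectedComponentMk he))

include hI in
theorem finite_Bd : Finite (Bd α I) := by
  haveI := (compl_exps_finite hI).to_subtype
  let g : Bd α I → ((exps I)ᶜ : Set (σ →₀ ℕ)) := fun C =>
    ⟨shift (toB α C.1.exists_rep.choose) α, (pos_of_finite α (by
      rw [show (G α I).connectedComponentMk C.1.exists_rep.choose = C.1 from C.1.exists_rep.choose_spec]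
      exact C.2)).2⟩
  refine Finite.of_injective g fun C D h => ?_
  have hC : ((G α I).connectedComponentMk C.1.exists_rep.choose).supp.Finite := by
    rw [show (G α I).connectedComponentMk C.1.exists_rep.choose = C.1 from C.1.exists_rep.choose_spec]
    exact C.2
  have hD : ((G α I).connectedComponentMk D.1.exists_rep.choose).supp.Finite := by
    rw [show (G α I).connectedComponentMk D.1.exists_rep.choose = D.1 from D.1.exists_rep.choose_spec]
    exact D.2
  have he := shift_injective (pos_of_finite α hC).1 (pos_of_finite α hD).1 (congrArg Subtype.val h)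
  have h1 : C.1.exists_rep.choose = D.1.exists_rep.choose := Subtype.ext (by rw [← pt_toB α C.1.exists_rep.choose, ← pt_toB α D.1.exists_rep.choose, he])
  refine Subtype.ext ?_
  rw [← C.1.exists_rep.choose_spec, ← D.1.exists_rep.choose_spec, h1]

include hI in
theorem finrank_tPiece_eq_nBddComp :
    Module.finrank k (tPiece I α) = nBddComp I α := by
  haveI := finite_Bd α hI
  haveI := Fintype.ofFinite (Bd α I)
  rw [finrank_tPiece hI, (compEquiv α hI).finrank_eq, Module.finrank_fintype_fun_eq_card, nBddComp,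
    Nat.card_eq_fintype_card]

end Components

end Groth.Agent.Hilb6
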