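import Groth.Prelude.Def_W4c1hilbpnTgt
import Mathlib.Data.Finsupp.PWO
import Mathlib.Data.Finsupp.WellFounded
import Mathlib.LinearAlgebra.Dimension.Constructions
import Mathlib.LinearAlgebra.Pi
import Mathlib.Tactic

/-!
# Multigraded pieces of `Hom(I, S/I)` for monomial ideals
-/

namespace Groth.Agent.Hilb6

open MvPolynomial W4c1hilbpn

variable {σ : Type*} {k : Type*} [Field k] {I : Ideal (MvPolynomial σ k)}

theorem exps_upper {β γ : σ →₀ ℕ} (h : β ∈ exps I) (hle : β ≤ γ) : γ ∈ exps I := by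
  show monomial γ (1 : k) ∈ I
  rw [show γ = (γ - β) + β from (tsub_add_cancel_of_le hle).symm, ← one_mul (1 : k), ← monomial_mul]
  exact Ideal.mul_mem_left _ _ h

theorem mem_of_support (p : MvPolynomial σ k) (h : ∀ β ∈ p.support, β ∈ exps I) : p ∈ I := by
  rw [as_sum p]
  refine Ideal.sum_mem _ fun β hβ => ?_
  rw [show monomial β (coeff β p) = C (coeff β p) * monomial β 1 by rw [C_mul_monomial, mul_one]]
  exact Ideal.mul_mem_left _ _ (h β hβ)

theorem coeff_eq_zero (hI : IsMonomial I) {p : MvPolynomial σ k} (hp : p ∈ I) {γ : σ →₀ ℕ}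
    (hγ : γ ∉ exps I) : coeff γ p = 0 :=
  notMem_support_iff.mp fun h => hγ (hI p hp γ h)

/-- Normal form of a class modulo a monomial ideal. -/
noncomputable def nf (hI : IsMonomial I) : (MvPolynomial σ k ⧸ I) →ₗ[k] ((σ →₀ ℕ) → k) := by
  classical
  exact
  { toFun := fun x γ => if hγ : γ ∈ exps I then 0 else
      Quotient.liftOn' x (fun p => coeff γ p) fun p q hpq => by
        have h := coeff_eq_zero hI ((Submodule.quotientRel_def I).mp hpq) hγ
        rwa [coeff_sub, sub_eq_zero] at h
    map_add' := fun x y => by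
      obtain ⟨p, rfl⟩ := Ideal.Quotient.mk_surjective x
      obtain ⟨q, rfl⟩ := Ideal.Quotient.mk_surjective y
      funext γ
      rw [← map_add, Pi.add_apply]
      split_ifs
      · rw [add_zero]
      · exact coeff_add γ p q
    map_smul' := fun c x => by
      obtain ⟨p, rfl⟩ := Ideal.Quotient.mk_surjective x
      funext γ
      rw [← Ideal.Quotient.mkₐ_eq_mk k, ← map_smul, Ideal.Quotient.mkₐ_eq_mk, RingHom.id_apply, Pi.smul_apply]
      split_ifs
      · rw [smul_zero]
      · exact coeff_smul γ c p }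

theorem nf_mk_apply (hI : IsMonomial I) (p : MvPolynomial σ k) {γ : σ →₀ ℕ} (hγ : γ ∉ exps I) :
    nf hI (Ideal.Quotient.mk I p) γ = coeff γ p := by
  simp only [nf, LinearMap.coe_mk, AddHom.coe_mk, dif_neg hγ]
  rfl

theorem nf_apply_exps (hI : IsMonomial I) (x : MvPolynomial σ k ⧸ I) {γ : σ →₀ ℕ} (hγ : γ ∈ exps I) :
    nf hI x γ = 0 := by
  simp only [nf, LinearMap.coe_mk, AddHom.coe_mk, dif_pos hγ]

theorem nf_injective (hI : IsMonomial I) : Function.Injective (nf hI) := by
  rw [injective_iff_map_eq_zero]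
  intro x hx
  obtain ⟨p, rfl⟩ := Ideal.Quotient.mk_surjective x
  rw [Ideal.Quotient.eq_zero_iff_mem]
  refine mem_of_support p fun β hβ => ?_
  by_contra hn
  exact mem_support_iff.mp hβ ((nf_mk_apply hI p hn).symm.trans (congrFun hx β))

theorem nf_monomial_smul (hI : IsMonomial I) (δ : σ →₀ ℕ) (x : MvPolynomial σ k ⧸ I) {γ : σ →₀ ℕ}
    (hγ : γ ∉ exps I) :
    nf hI ((monomial δ (1 : k)) • x) γ = open Classical in if δ ≤ γ then nf hI x (γ - δ) else 0 := by
  classical
  obtain ⟨p, rfl⟩ := Ideal.Quotient.mk_surjective x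
  show nf hI (Ideal.Quotient.mk I (monomial δ (1 : k) * p)) γ = _
  rw [nf_mk_apply hI _ hγ, coeff_monomial_mul']
  split_ifs with h
  · rw [one_mul, nf_mk_apply hI _ fun h' => hγ (exps_upper h' tsub_le_self)]
  · rfl

theorem monomial_smul_mk (δ γ : σ →₀ ℕ) :
    (monomial δ (1 : k)) • Ideal.Quotient.mk I (monomial γ (1 : k)) =
      Ideal.Quotient.mk I (monomial (δ + γ) 1) := by
  show Ideal.Quotient.mk I (monomial δ (1 : k) * monomial γ (1 : k)) = _
  rw [monomial_mul, one_mul]

/-- The monomial of an exponent in `I`, as an element of `I`. -/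
noncomputable def monI {β : σ →₀ ℕ} (hβ : β ∈ exps I) : I := ⟨monomial β 1, hβ⟩

theorem monI_add {β : σ →₀ ℕ} (hβ : β ∈ exps I) (δ : σ →₀ ℕ) (h : β + δ ∈ exps I) :
    monI h = (monomial δ (1 : k)) • monI hβ := by
  refine Subtype.ext ?_
  show monomial (β + δ) (1 : k) = monomial δ (1 : k) * monomial β (1 : k)
  rw [monomial_mul, one_mul, add_comm]

theorem tgt_ext (hI : IsMonomial I) {φ ψ : Tgt I}
    (h : ∀ (β : σ →₀ ℕ) (hβ : β ∈ exps I), φ (monI hβ) = ψ (monI hβ)) : φ = ψ := by
  refine LinearMap.ext fun p => ?_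
  have hp : p = ∑ β ∈ (p.1.support).attach,
      (C (coeff β.1 p.1) : MvPolynomial σ k) • monI (I := I) (hI p.1 p.2 β.1 β.2) := by
    refine Subtype.ext ?_
    rw [AddSubmonoidClass.coe_finsetSum]
    conv_lhs => rw [as_sum p.1, ← Finset.sum_attach]
    refine Finset.sum_congr rfl fun β _ => ?_
    show _ = C (coeff β.1 p.1) * monomial β.1 (1 : k)
    rw [C_mul_monomial, mul_one]
  rw [hp, map_sum, map_sum]
  refine Finset.sum_congr rfl fun x _ => ?_
  rw [map_smul, map_smul]
  exact congrArg _ (h _ _)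

section Fin

variable [Finite σ]

/-- `β + α` is nonnegative. -/
def Pos (α : σ → ℤ) (β : σ →₀ ℕ) : Prop := ∀ i, 0 ≤ (β i : ℤ) + α i

theorem shift_apply (β : σ →₀ ℕ) (α : σ → ℤ) (i : σ) : shift β α i = ((β i : ℤ) + α i).toNat := rfl

theorem cast_shift {β : σ →₀ ℕ} {α : σ → ℤ} (h : Pos α β) (i : σ) :
    (shift β α i : ℤ) = (β i : ℤ) + α i := Int.toNat_of_nonneg (h i)

omit [Finite σ] in
theorem Pos.mono {α : σ → ℤ} {β γ : σ →₀ ℕ} (h : Pos α β) (hle : β ≤ γ) : Pos α γ := fun i => by
  have := h i; have := hle i; omega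

theorem shift_add {β : σ →₀ ℕ} {α : σ → ℤ} (h : Pos α β) (δ : σ →₀ ℕ) :
    shift (β + δ) α = shift β α + δ := by
  ext i
  have := cast_shift h i
  have := cast_shift (h.mono (le_add_of_nonneg_right (zero_le (α := σ →₀ ℕ)) : β ≤ β + δ)) i
  rw [Finsupp.add_apply] at *
  push_cast at *
  omega

theorem shift_injective {α : σ → ℤ} {β γ : σ →₀ ℕ} (h : Pos α β) (h' : Pos α γ)
    (he : shift β α = shift γ α) : β = γ := by
  ext i
  have := cast_shift h i
  have := cast_shift h' i
  rw [he] at *
  omega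

/-- Compatible coefficient families of multidegree `α`. -/
noncomputable def CSp (I : Ideal (MvPolynomial σ k)) (α : σ → ℤ) : Submodule k ((σ →₀ ℕ) → k) where
  carrier := {c | (∀ β, ¬ (β ∈ exps I ∧ Pos α β ∧ shift β α ∉ exps I) → c β = 0) ∧
    ∀ β ∈ exps I, ∀ i, shift (β + Finsupp.single i 1) α ∉ exps I → c (β + Finsupp.single i 1) = c β}
  zero_mem' := ⟨fun _ _ => rfl, fun _ _ _ _ => rfl⟩
  add_mem' {c d} hc hd := ⟨fun β h => by simp [hc.1 β h, hd.1 β h],
    fun β hβ i h => by simp [hc.2 β hβ i h, hd.2 β hβ i h]⟩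
  smul_mem' a c hc := ⟨fun β h => by simp [hc.1 β h], fun β hβ i h => by simp [hc.2 β hβ i h]⟩

theorem CSp.supp {α : σ → ℤ} {c : (σ →₀ ℕ) → k} (hc : c ∈ CSp I α) {β : σ →₀ ℕ} (h : c β ≠ 0) :
    β ∈ exps I ∧ Pos α β ∧ shift β α ∉ exps I :=
  by_contra fun hn => h (hc.1 β hn)

/-- The component of multidegree `α` of a homomorphism, as a coefficient family. -/
noncomputable def proj (hI : IsMonomial I) (α : σ → ℤ) : Tgt I →ₗ[k] CSp I α := by
  classical
  exact LinearMap.codRestrict (CSp I α)
    { toFun := fun φ β => if h : β ∈ exps I ∧ Pos α β then nf hI (φ (monI h.1)) (shift β α) else 0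
      map_add' := fun φ ψ => by funext β; by_cases h : β ∈ exps I ∧ Pos α β <;> simp [h]
      map_smul' := fun a φ => by funext β; by_cases h : β ∈ exps I ∧ Pos α β <;> simp [h] }
    fun φ => by
      refine ⟨fun β hβ => ?_, fun β hβ i hi => ?_⟩
      · simp only [LinearMap.coe_mk, AddHom.coe_mk]
        split_ifs with h
        · exact nf_apply_exps hI _ (by_contra fun hn => hβ ⟨h.1, h.2, hn⟩)
        · rfl
      · simp only [LinearMap.coe_mk, AddHom.coe_mk]
        have hle : β ≤ β + Finsupp.single i 1 := le_add_of_nonneg_right (zero_le (α := σ →₀ ℕ))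
        by_cases hp : Pos α (β + Finsupp.single i 1)
        swap
        · rw [dif_neg (fun h => hp h.2), dif_neg (fun h => hp (h.2.mono hle))]
        rw [dif_pos ⟨exps_upper hβ hle, hp⟩, monI_add hβ _ (exps_upper hβ hle), map_smul,
          nf_monomial_smul hI _ _ hi]
        by_cases hp0 : Pos α β
        · rw [dif_pos ⟨hβ, hp0⟩, shift_add hp0, if_pos (le_add_self), add_tsub_cancel_right]
        · rw [dif_neg (fun h => hp0 h.2), if_neg]
          intro hh
          have h1 := hh i
          rw [Finsupp.single_eq_same] at h1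
          apply hp0
          intro j
          have h2 := hp j
          have h3 := cast_shift hp j
          rw [Finsupp.add_apply] at h2 h3
          by_cases hji : j = i
          · subst hji; rw [Finsupp.single_eq_same] at h2 h3; push_cast at h2 h3; omega
          · rw [Finsupp.single_eq_of_ne hji] at h2; simpa using h2

theorem proj_zero_of_not (hI : IsMonomial I) (α : σ → ℤ) (φ : Tgt I) {β : σ →₀ ℕ}
    (h : ¬ (β ∈ exps I ∧ Pos α β)) : (proj hI α φ : (σ →₀ ℕ) → k) β = 0 :=
  (proj hI α φ).2.1 β fun hh => h ⟨hh.1, hh.2.1⟩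

theorem proj_apply (hI : IsMonomial I) (α : σ → ℤ) (φ : Tgt I) {β : σ →₀ ℕ} (h : β ∈ exps I)
    (hp : Pos α β) : (proj hI α φ : (σ →₀ ℕ) → k) β = nf hI (φ (monI h)) (shift β α) := by
  classical
  exact dif_pos (show β ∈ exps I ∧ Pos α β from ⟨h, hp⟩)

theorem proj_jointly_injective (hI : IsMonomial I) {φ ψ : Tgt I}
    (h : ∀ α, proj hI α φ = proj hI α ψ) : φ = ψ := by
  refine tgt_ext hI fun β hβ => nf_injective hI (funext fun γ => ?_)
  let α : σ → ℤ := fun i => (γ i : ℤ) - β i
  have hp : Pos α β := fun i => by simp [α]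
  have hs : shift β α = γ := by ext i; rw [shift_apply]; simp [α]
  have := congrArg (fun c : CSp I α => (c : (σ →₀ ℕ) → k) β) (h α)
  simpa only [proj_apply hI α _ hβ hp, hs] using this

/-- The linear map on the whole ring attached to a family. -/
noncomputable def lift (α : σ → ℤ) (c : (σ →₀ ℕ) → k) : MvPolynomial σ k →ₗ[k] MvPolynomial σ k ⧸ I :=
  (basisMonomials σ k).constr k fun β => c β • Ideal.Quotient.mk I (monomial (shift β α) 1)

theorem lift_monomial (α : σ → ℤ) (c : (σ →₀ ℕ) → k) (β : σ →₀ ℕ) :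
    lift (I := I) α c (monomial β 1) = c β • Ideal.Quotient.mk I (monomial (shift β α) 1) := by
  have h := (basisMonomials σ k).constr_basis k
    (fun β => c β • Ideal.Quotient.mk I (monomial (shift β α) (1 : k))) β
  rwa [coe_basisMonomials] at h

theorem lift_monomial_add {α : σ → ℤ} {c : (σ →₀ ℕ) → k} (hc : c ∈ CSp I α) {β : σ →₀ ℕ}
    (hβ : β ∈ exps I) (δ : σ →₀ ℕ) :
    lift (I := I) α c (monomial (β + δ) 1) = (monomial δ (1 : k)) • lift (I := I) α c (monomial β 1) := by
  induction δ using Finsupp.induction with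
  | zero => simp
  | single_add i n f hf hn ih =>
    clear hf hn
    induction n with
    | zero => simpa using ih
    | succ n ihn =>
      have hb : β + (Finsupp.single i n + f) ∈ exps I := exps_upper hβ (le_add_of_nonneg_right (zero_le (α := σ →₀ ℕ)))
      have e1 : β + (Finsupp.single i (n + 1) + f) = β + (Finsupp.single i n + f) + Finsupp.single i 1 := by
        rw [Finsupp.single_add]; abel
      have e2 : monomial (Finsupp.single i (n + 1) + f) (1 : k) =
          monomial (Finsupp.single i 1) (1 : k) * monomial (Finsupp.single i n + f) (1 : k) := by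
        rw [monomial_mul, one_mul, Finsupp.single_add]; congr 1; abel
      rw [e1, e2, mul_smul, ← ihn, lift_monomial, lift_monomial]
      set b := β + (Finsupp.single i n + f)
      rw [smul_comm, monomial_smul_mk]
      by_cases h0 : c b = 0
      · rw [h0, zero_smul]
        by_cases he : shift (b + Finsupp.single i 1) α ∈ exps I
        · rw [hc.1 _ (fun h => h.2.2 he), zero_smul]
        · rw [hc.2 b hb i he, h0, zero_smul]
      · have hp := (CSp.supp hc h0).2.1
        rw [shift_add hp, add_comm (Finsupp.single i 1)]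
        by_cases he : shift b α + Finsupp.single i 1 ∈ exps I
        · rw [Ideal.Quotient.eq_zero_iff_mem.mpr he, smul_zero, smul_zero]
        · rw [hc.2 b hb i (by rwa [shift_add hp])]

/-- The homomorphism attached to a compatible family. -/
noncomputable def ofC (hI : IsMonomial I) (α : σ → ℤ) : CSp I α →ₗ[k] Tgt I where
  toFun c :=
    { toFun := fun p => lift α c.1 p.1
      map_add' := fun p q => by simp
      map_smul' := fun s p => by
        rw [RingHom.id_apply]
        show lift (I := I) α c.1 (s * p.1) = s • lift (I := I) α c.1 p.1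
        conv_lhs => rw [as_sum p.1, Finset.mul_sum]
        conv_rhs => rw [as_sum p.1, map_sum, Finset.smul_sum]
        rw [map_sum]
        refine Finset.sum_congr rfl fun β hβ => ?_
        have hβ' : β ∈ exps I := hI p.1 p.2 β hβ
        have hsc : monomial β (coeff β p.1) = coeff β p.1 • monomial β (1 : k) := by
          rw [smul_monomial, smul_eq_mul, mul_one]
        rw [hsc, map_smul, mul_smul_comm, map_smul, smul_comm s]
        congr 1
        conv_lhs => rw [as_sum s, Finset.sum_mul]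
        conv_rhs => rw [as_sum s, Finset.sum_smul]
        rw [map_sum]
        refine Finset.sum_congr rfl fun δ _ => ?_
        have hsd : monomial δ (coeff δ s) = coeff δ s • monomial δ (1 : k) := by
          rw [smul_monomial, smul_eq_mul, mul_one]
        rw [hsd, smul_mul_assoc, map_smul, monomial_mul, one_mul, add_comm, lift_monomial_add c.2 hβ' δ,
          smul_assoc] }
  map_add' c d := by
    refine tgt_ext hI fun β hβ => ?_
    show lift (I := I) α (c.1 + d.1) (monomial β 1) =
      lift (I := I) α c.1 (monomial β 1) + lift (I := I) α d.1 (monomial β 1)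
    simp only [lift_monomial, Pi.add_apply, add_smul]
  map_smul' a c := by
    refine tgt_ext hI fun β hβ => ?_
    show lift (I := I) α (a • c.1) (monomial β 1) = a • lift (I := I) α c.1 (monomial β 1)
    simp only [lift_monomial, Pi.smul_apply, smul_eq_mul, mul_smul]

theorem ofC_monI (hI : IsMonomial I) {α : σ → ℤ} (c : CSp I α) {β : σ →₀ ℕ} (hβ : β ∈ exps I) :
    ofC hI α c (monI hβ) = c.1 β • Ideal.Quotient.mk I (monomial (shift β α) 1) :=
  lift_monomial _ _ _

theorem proj_ofC (hI : IsMonomial I) {α : σ → ℤ} (c : CSp I α) : proj hI α (ofC hI α c) = c := by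
  classical
  refine Subtype.ext (funext fun β => ?_)
  by_cases h : β ∈ exps I ∧ Pos α β
  · rw [proj_apply hI α _ h.1 h.2, ofC_monI, map_smul, Pi.smul_apply, smul_eq_mul]
    by_cases he : shift β α ∈ exps I
    · rw [nf_apply_exps hI _ he, mul_zero, c.2.1 β fun hh => hh.2.2 he]
    · rw [nf_mk_apply hI _ he, coeff_monomial, if_pos rfl, mul_one]
  · rw [c.2.1 β fun hh => h ⟨hh.1, hh.2.1⟩]
    exact proj_zero_of_not hI α _ h

theorem proj_ofC_ne (hI : IsMonomial I) {α α' : σ → ℤ} (hne : α' ≠ α) (c : CSp I α) :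
    proj hI α' (ofC hI α c) = 0 := by
  classical
  refine Subtype.ext (funext fun β => ?_)
  by_cases h : β ∈ exps I ∧ Pos α' β
  · rw [proj_apply hI α' _ h.1 h.2, ofC_monI, map_smul, Pi.smul_apply, smul_eq_mul]
    by_cases hc : c.1 β = 0
    · rw [hc, zero_mul]; rfl
    have hp := (CSp.supp c.2 hc).2.1
    have hs : shift β α ≠ shift β α' := fun he => hne (funext fun i => by
      have := cast_shift hp i
      have := cast_shift h.2 i
      rw [he] at *; omega)
    by_cases he : shift β α' ∈ exps I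
    · rw [nf_apply_exps hI _ he, mul_zero]; rfl
    · rw [nf_mk_apply hI _ he, coeff_monomial, if_neg hs, mul_zero]; rfl
  · exact proj_zero_of_not hI α' _ h

theorem ofC_mem_tPiece (hI : IsMonomial I) {α : σ → ℤ} (c : CSp I α) : ofC hI α c ∈ tPiece I α := by
  intro β hβ
  refine ⟨fun _ => ?_, fun ⟨i, hi⟩ => ?_⟩
  · exact Submodule.mem_span_singleton.mpr ⟨c.1 β, (ofC_monI hI c hβ).symm⟩
  · have : c.1 β = 0 := c.2.1 β fun h => absurd (h.2.1 i) (not_le.mpr hi)
    exact (ofC_monI hI c hβ).trans (by rw [this, zero_smul])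

theorem proj_eq_zero_of_mem (hI : IsMonomial I) {α α' : σ → ℤ} (hne : α' ≠ α) {φ : Tgt I}
    (hφ : φ ∈ tPiece I α) : proj hI α' φ = 0 := by
  classical
  refine Subtype.ext (funext fun β => ?_)
  by_cases h : β ∈ exps I ∧ Pos α' β
  · rw [proj_apply hI α' _ h.1 h.2]
    by_cases hp : Pos α β
    · obtain ⟨a, ha⟩ := Submodule.mem_span_singleton.mp ((hφ β h.1).1 hp)
      have hs : shift β α ≠ shift β α' := fun he => hne (funext fun i => by
        have := cast_shift hp i
        have := cast_shift h.2 i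
        rw [he] at *; omega)
      rw [show φ (monI h.1) = a • Ideal.Quotient.mk I (monomial (shift β α) (1 : k)) from ha.symm, map_smul,
        Pi.smul_apply, smul_eq_mul]
      by_cases he : shift β α' ∈ exps I
      · rw [nf_apply_exps hI _ he, mul_zero]; rfl
      · rw [nf_mk_apply hI _ he, coeff_monomial, if_neg hs, mul_zero]; rfl
    · simp only [Pos, not_forall, not_le] at hp
      rw [show φ (monI h.1) = 0 from (hφ β h.1).2 hp, map_zero]
      rfl
  · exact proj_zero_of_not hI α' _ h

theorem ofC_proj_of_mem (hI : IsMonomial I) {α : σ → ℤ} {φ : Tgt I} (hφ : φ ∈ tPiece I α) :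
    ofC hI α (proj hI α φ) = φ :=
  proj_jointly_injective hI fun α' => by
    rcases eq_or_ne α' α with rfl | hne
    · rw [proj_ofC]
    · rw [proj_ofC_ne hI hne, proj_eq_zero_of_mem hI hne hφ]

/-- A graded piece is its space of coefficient families. -/
noncomputable def pieceEquiv (hI : IsMonomial I) (α : σ → ℤ) : tPiece I α ≃ₗ[k] CSp I α :=
  LinearEquiv.ofLinearMap ((proj hI α).comp (tPiece I α).subtype)
    (LinearMap.codRestrict _ (ofC hI α) (ofC_mem_tPiece hI))
    (LinearMap.ext fun c => proj_ofC hI c)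
    (LinearMap.ext fun φ => Subtype.ext (ofC_proj_of_mem hI φ.2))

theorem finrank_tPiece (hI : IsMonomial I) (α : σ → ℤ) :
    Module.finrank k (tPiece I α) = Module.finrank k (CSp I α) :=
  (pieceEquiv hI α).finrank_eq

theorem tPiece_eq_bot_iff (hI : IsMonomial I) (α : σ → ℤ) : tPiece I α = ⊥ ↔ CSp I α = ⊥ := by
  rw [← Submodule.subsingleton_iff_eq_bot, ← Submodule.subsingleton_iff_eq_bot]
  exact (pieceEquiv hI α).toEquiv.subsingleton_congr

/-- Minimal exponents. -/
def mins (I : Ideal (MvPolynomial σ k)) : Set (σ →₀ ℕ) := {β | Minimal (· ∈ exps I) β}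

theorem mins_finite : (mins I).Finite :=
  WellQuasiOrderedLE.finite_of_isAntichain (s := mins I) (setOfPred_minimal_antichain _)

omit [Finite σ] in
theorem exists_min_le {β : σ →₀ ℕ} (hβ : β ∈ exps I) : ∃ b ∈ mins I, b ≤ β := by
  obtain ⟨b, hb, hmin⟩ := exists_minimal_le_of_wellFoundedLT (· ∈ exps I) β hβ
  exact ⟨b, hmin, hb⟩

theorem CSp.eq_of_le {α : σ → ℤ} {c : (σ →₀ ℕ) → k} (hc : c ∈ CSp I α) {β γ : σ →₀ ℕ}
    (hβ : β ∈ exps I) (hle : β ≤ γ) (hγ : shift γ α ∉ exps I) : c γ = c β := by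
  obtain ⟨δ, rfl⟩ : ∃ δ, γ = β + δ := ⟨γ - β, (add_tsub_cancel_of_le hle).symm⟩
  clear hle
  induction δ using Finsupp.induction with
  | zero => rw [add_zero]
  | single_add i n f hf hn ih =>
    clear hf hn
    induction n with
    | zero => simp only [Finsupp.single_zero, zero_add] at hγ ⊢; exact ih hγ
    | succ n ihn =>
      have hstep : β + (Finsupp.single i (n + 1) + f) = β + (Finsupp.single i n + f) + Finsupp.single i 1 := by
        rw [Finsupp.single_add]; abel
      rw [hstep] at hγ ⊢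
      have hb : β + (Finsupp.single i n + f) ∈ exps I := exps_upper hβ (le_add_of_nonneg_right (zero_le (α := σ →₀ ℕ)))
      rw [hc.2 _ hb i hγ]
      by_cases hp : Pos α (β + (Finsupp.single i n + f))
      · refine ihn fun hh => hγ (exps_upper hh ?_)
        rw [shift_add hp]
        exact le_add_of_nonneg_right (zero_le (α := σ →₀ ℕ))
      · rw [hc.1 _ fun h => hp h.2.1, hc.1 β fun h => hp (h.2.1.mono (le_add_of_nonneg_right (zero_le (α := σ →₀ ℕ))))]

theorem CSp.exists_min {α : σ → ℤ} {c : (σ →₀ ℕ) → k} (hc : c ∈ CSp I α) {β : σ →₀ ℕ} (h : c β ≠ 0) :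
    ∃ b ∈ mins I, b ≤ β ∧ c b = c β := by
  obtain ⟨h1, -, h3⟩ := CSp.supp hc h
  obtain ⟨b, hb, hle⟩ := exists_min_le h1
  exact ⟨b, hb, hle, (CSp.eq_of_le hc hb.1 hle h3).symm⟩

theorem CSp.eq_zero_of_mins {α : σ → ℤ} {c : (σ →₀ ℕ) → k} (hc : c ∈ CSp I α)
    (h : ∀ b ∈ mins I, c b = 0) : c = 0 := funext fun β => by
  by_contra hn
  obtain ⟨b, hb, -, he⟩ := CSp.exists_min hc hn
  exact hn (he ▸ h b hb)

instance finite_CSp (α : σ → ℤ) : Module.Finite k (CSp I α) := by
  haveI := (mins_finite (I := I)).to_subtype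
  refine Module.Finite.of_injective
    (LinearMap.pi fun b : mins I => (LinearMap.proj b.1).comp (CSp I α).subtype) ?_
  rw [injective_iff_map_eq_zero]
  intro c hc
  exact Subtype.ext (CSp.eq_zero_of_mins c.2 fun b hb => congrFun hc ⟨b, hb⟩)

theorem finite_proj_ne_zero (hI : IsMonomial I) (φ : Tgt I) : {α | proj hI α φ ≠ 0}.Finite := by
  classical
  have hsupp : ∀ x : MvPolynomial σ k ⧸ I, {γ | nf hI x γ ≠ 0}.Finite := fun x => by
    obtain ⟨p, rfl⟩ := Ideal.Quotient.mk_surjective x
    refine p.support.finite_toSet.subset fun γ hγ => ?_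
    by_cases he : γ ∈ exps I
    · exact absurd (nf_apply_exps hI _ he) hγ
    · exact mem_support_iff.mpr fun h => hγ ((nf_mk_apply hI p he).trans h)
  haveI := (mins_finite (I := I)).to_subtype
  let T : Set (σ → ℤ) := ⋃ b : mins I,
    (fun γ : σ →₀ ℕ => fun i => (γ i : ℤ) - b.1 i) '' {γ | nf hI (φ (monI b.2.1)) γ ≠ 0}
  refine (Set.finite_iUnion fun b => (hsupp _).image _).subset (show _ ⊆ T from fun α hα => ?_)
  obtain ⟨β, hβ⟩ : ∃ β, (proj hI α φ : (σ →₀ ℕ) → k) β ≠ 0 := by
    by_contra hn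
    push Not at hn
    exact hα (Subtype.ext (funext hn))
  obtain ⟨b, hb, -, he⟩ := CSp.exists_min (proj hI α φ).2 hβ
  rw [← he] at hβ
  have hp := (CSp.supp (proj hI α φ).2 hβ).2.1
  rw [proj_apply hI α φ hb.1 hp] at hβ
  exact Set.mem_iUnion.mpr ⟨⟨b, hb⟩, shift b α, hβ, funext fun i => by
    have := cast_shift hp i; show (shift b α i : ℤ) - b i = α i; omega⟩

theorem eq_sum_ofC (hI : IsMonomial I) (φ : Tgt I) {s : Finset (σ → ℤ)}
    (hs : ∀ α, proj hI α φ ≠ 0 → α ∈ s) : φ = ∑ α ∈ s, ofC hI α (proj hI α φ) := by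
  classical
  refine proj_jointly_injective hI fun α' => ?_
  rw [map_sum]
  by_cases h : α' ∈ s
  · rw [Finset.sum_eq_single α' (fun α _ hne => proj_ofC_ne hI hne.symm _) (fun hn => absurd h hn),
      proj_ofC]
  · rw [Finset.sum_eq_zero fun α hα => proj_ofC_ne hI (α := α) (α' := α') (fun he => h (by rw [he]; exact hα)) _]
    exact by_contra fun hn => h (hs α' hn)

theorem mem_iSup_iff (hI : IsMonomial I) (P : (σ → ℤ) → Prop) (φ : Tgt I) :
    φ ∈ (⨆ α : {α // P α}, tPiece I α.1) ↔ ∀ α, ¬ P α → proj hI α φ = 0 := by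
  classical
  constructor
  · intro h α hα
    have : (⨆ α : {α // P α}, tPiece I α.1) ≤ LinearMap.ker (proj hI α) :=
      iSup_le fun α' x hx => proj_eq_zero_of_mem hI (fun he => hα (by rw [he]; exact α'.2)) hx
    exact this h
  · intro h
    rw [eq_sum_ofC hI φ (s := (finite_proj_ne_zero hI φ).toFinset) fun α hα => by simpa using hα]
    refine Submodule.sum_mem _ fun α hα => ?_
    have hP : P α := by
      by_contra hn
      exact ((Set.Finite.mem_toFinset _).mp hα) (h α hn)
    exact Submodule.mem_iSup_of_mem ⟨α, hP⟩ (ofC_mem_tPiece hI _)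

theorem iSup_tPiece_eq_top (hI : IsMonomial I) (P : (σ → ℤ) → Prop)
    (h : ∀ α, ¬ P α → CSp I α = ⊥) : (⨆ α : {α // P α}, tPiece I α.1) = ⊤ :=
  eq_top_iff.mpr fun φ _ => (mem_iSup_iff hI P φ).mpr fun α hα =>
    Subtype.ext ((Submodule.eq_bot_iff _).mp (h α hα) _ (proj hI α φ).2)

/-- Dimension of a sum of graded pieces. -/
theorem finrank_iSup (hI : IsMonomial I) (P : (σ → ℤ) → Prop) [DecidablePred P] (s : Finset (σ → ℤ))
    (hs : ∀ α, P α → CSp I α ≠ ⊥ → α ∈ s) :
    Module.finrank k ↥(⨆ α : {α // P α}, tPiece I α.1) =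
      ∑ α ∈ s.filter P, Module.finrank k (CSp I α) := by
  classical
  set t := s.filter P with ht
  let F : (⨆ α : {α // P α}, tPiece I α.1 : Submodule k (Tgt I)) →ₗ[k] ((α : t) → CSp I α.1) :=
    (LinearMap.pi fun α : t => proj hI α.1).comp (Submodule.subtype _)
  have hbij : Function.Bijective F := by
    constructor
    · rw [injective_iff_map_eq_zero]
      intro φ hφ
      refine Subtype.ext (proj_jointly_injective hI fun α => ?_)
      rw [Submodule.coe_zero, map_zero]
      by_cases hα : α ∈ t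
      · exact congrFun hφ ⟨α, hα⟩
      · by_cases hP : P α
        · refine Subtype.ext ((Submodule.eq_bot_iff _).mp ?_ _ (proj hI α φ.1).2)
          by_contra hne
          exact hα (Finset.mem_filter.mpr ⟨hs α hP hne, hP⟩)
        · exact (mem_iSup_iff hI P φ.1).mp φ.2 α hP
    · intro c
      refine ⟨⟨∑ α : t, ofC hI α.1 (c α), Submodule.sum_mem _ fun α _ =>
        Submodule.mem_iSup_of_mem ⟨α.1, (Finset.mem_filter.mp α.2).2⟩ (ofC_mem_tPiece hI _)⟩, ?_⟩
      funext α
      show proj hI α.1 (∑ α : t, ofC hI α.1 (c α)) = c α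
      rw [map_sum, Finset.sum_eq_single α (fun b _ hb => proj_ofC_ne hI (fun he => hb (Subtype.ext he.symm)) _)
        (fun hn => absurd (Finset.mem_univ α) hn), proj_ofC]
  rw [(LinearEquiv.ofBijective F hbij).finrank_eq, Module.finrank_pi_fintype]
  exact Finset.sum_coe_sort t fun α => Module.finrank k (CSp I α)

theorem finrank_tgt (hI : IsMonomial I) (s : Finset (σ → ℤ))
    (hs : ∀ α, CSp I α ≠ ⊥ → α ∈ s) :
    Module.finrank k (Tgt I) = ∑ α ∈ s, Module.finrank k (CSp I α) := by
  classical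
  have h := finrank_iSup hI (fun _ => True) s fun α _ => hs α
  rw [iSup_tPiece_eq_top hI _ fun α h => absurd trivial h, finrank_top, Finset.filter_true_of_mem fun α _ => trivial] at h
  exact h

end Fin

end Groth.Agent.Hilb6
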