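import Groth.Agent.Hilb6.Koszul
import Mathlib.Algebra.BigOperators.Finprod

/-!
# Duality between graded pieces of `Hom(I, S/I)` in three variables
-/

namespace Groth.Agent.Hilb6

open MvPolynomial W4c1hilbpn Matrix

variable {k : Type*} [Field k] {I : Ideal (MvPolynomial (Fin 3) k)}

/-- The number of staircase pairs with a given difference. -/
noncomputable def cnt (I : Ideal (MvPolynomial (Fin 3) k)) (γ : Vec) : ℤ := Nat.card (Pairs I γ)

/-- The dimension of a graded piece. -/
noncomputable def td (I : Ideal (MvPolynomial (Fin 3) k)) (α : Vec) : ℤ := Module.finrank k (CSp I α)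

open scoped Classical in
/-- The Hilbert function of the quotient. -/
noncomputable def hf (I : Ideal (MvPolynomial (Fin 3) k)) (α : Vec) : ℤ := if InC I α then 1 else 0

section

variable (hI : IsMonomial I) [Module.Finite k (MvPolynomial (Fin 3) k ⧸ I)]
include hI

theorem card_S1 (α : Vec) : (Nat.card (S1 I α) : ℤ) = ∑ l : Fin 3, cnt I (α + ev l) := by
  haveI := finite_pairs hI
  let e : S1 I α ≃ (Σ l : Fin 3, Pairs I (α + ev l)) :=
    { toFun := fun p => ⟨p.1.1, p.1.2, p.2⟩
      invFun := fun p => ⟨(p.1, p.2.1), p.2.2⟩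
      left_inv := fun p => rfl
      right_inv := fun p => rfl }
  rw [Nat.card_congr e, Nat.card_sigma]
  simp [cnt]

theorem card_S2 (α : Vec) : (Nat.card (S2 I α) : ℤ) = ∑ l : Fin 3, cnt I (α + 1 - ev l) := by
  haveI := finite_pairs hI
  let e : S2 I α ≃ (Σ l : Fin 3, Pairs I (α + 1 - ev l)) :=
    { toFun := fun p => ⟨p.1.1, p.1.2, p.2⟩
      invFun := fun p => ⟨(p.1, p.2.1), p.2.2⟩
      left_inv := fun p => rfl
      right_inv := fun p => rfl }
  rw [Nat.card_congr e, Nat.card_sigma]
  simp [cnt]

omit hI [Module.Finite k (MvPolynomial (Fin 3) k ⧸ I)] in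
theorem cnt_neg (γ : Vec) : cnt I (-γ) = cnt I γ := by
  unfold cnt
  congr 1
  refine Nat.card_congr
    { toFun := fun a => ⟨a.1 + -γ, a.2.2, by simpa using a.2.1⟩
      invFun := fun a => ⟨a.1 + γ, a.2.2, by simpa using a.2.1⟩
      left_inv := fun a => Subtype.ext (by simp)
      right_inv := fun a => Subtype.ext (by simp) }

/-- The Euler characteristic identity in a single multidegree. -/
theorem td_sub_td (α : Vec) :
    td I α - td I (-α - 1) = hf I α - hf I (-α - 1) +
      ((∑ l : Fin 3, cnt I (α + ev l)) - (∑ l : Fin 3, cnt I (α + 1 - ev l)) + cnt I (α + 1) - cnt I α) := by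
  classical
  haveI := finite_S1 hI α
  haveI := finite_S1 hI (-α - 1)
  haveI := finite_S2 hI α
  haveI := finite_S2 hI (-α - 1)
  haveI := Fintype.ofFinite (S1 I α)
  haveI := Fintype.ofFinite (S1 I (-α - 1))
  haveI := Fintype.ofFinite (S2 I α)
  haveI := Fintype.ofFinite (S2 I (-α - 1))
  have hr : (M1 I (-α - 1)).rank = (M1 I α).rank := by
    have e : M1 I α = ((M1 I (-α - 1)).submatrix (e12 I α) (e21 I α))ᵀ := by
      ext r s; rw [transpose_apply, submatrix_apply, M1_transpose]
    rw [e, rank_transpose, rank_submatrix]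
  have h1 := finrank_CSp_add (α := α) hI
  have h2 := finrank_CSp_add (α := -α - 1) hI
  rw [hr, ← Nat.card_congr (e21 I α)] at h2
  have h1' := congrArg (fun n : ℕ => (n : ℤ)) h1
  have h2' := congrArg (fun n : ℕ => (n : ℤ)) h2
  push_cast at h1' h2'
  rw [card_S1 hI] at h1'
  rw [card_S2 hI] at h2'
  have hc : cnt I (-α - 1) = cnt I (α + 1) := by rw [← cnt_neg (α + 1)]; congr 1; abel
  unfold td hf cnt at *
  rw [hc] at h2'
  linarith

theorem cnt_support_finite : (Function.support (cnt I)).Finite := by
  refine (((InC.finite hI).prod (InC.finite hI)).image fun p : Vec × Vec => p.2 - p.1).subset fun γ hγ => ?_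
  have hne : Nonempty (Pairs I γ) := by
    by_contra hn
    rw [not_nonempty_iff] at hn
    exact hγ (by simp [cnt])
  obtain ⟨a⟩ := hne
  exact ⟨(a.1, a.1 + γ), ⟨a.2.1, a.2.2⟩, add_sub_cancel_left _ _⟩

theorem hf_support_finite : (Function.support (hf I)).Finite :=
  (InC.finite hI).subset fun γ hγ => by
    by_contra hn
    exact hγ (if_neg hn)

theorem td_support_finite : (Function.support (td I)).Finite :=
  (finite_CSp_ne_bot hI).subset fun α hα he => hα (by rw [td, he, finrank_bot, Nat.cast_zero])

end

open scoped Classical in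
/-- A sum over all multidegrees satisfying a condition. -/
noncomputable def psum (Q : Vec → Prop) (g : Vec → ℤ) : ℤ := ∑ᶠ α, if Q α then g α else 0

theorem support_ite_finite {Q : Vec → Prop} [DecidablePred Q] {g : Vec → ℤ} (h : (Function.support g).Finite) :
    (Function.support fun α => if Q α then g α else 0).Finite :=
  h.subset fun α hα => by
    intro h0
    exact hα (by simp [h0])

theorem psum_add {Q : Vec → Prop} {g g' : Vec → ℤ} (h : (Function.support g).Finite)
    (h' : (Function.support g').Finite) : psum Q (g + g') = psum Q g + psum Q g' := by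
  classical
  unfold psum
  rw [← finsum_add_distrib (support_ite_finite h) (support_ite_finite h')]
  exact finsum_congr fun α => by split_ifs <;> simp

theorem psum_sub {Q : Vec → Prop} {g g' : Vec → ℤ} (h : (Function.support g).Finite)
    (h' : (Function.support g').Finite) : psum Q (g - g') = psum Q g - psum Q g' := by
  classical
  unfold psum
  rw [← finsum_sub_distrib (support_ite_finite h) (support_ite_finite h')]
  exact finsum_congr fun α => by split_ifs <;> simp

theorem psum_congr {Q : Vec → Prop} {g g' : Vec → ℤ} (h : ∀ α, Q α → g α = g' α) : psum Q g = psum Q g' := by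
  classical
  exact finsum_congr fun α => by split_ifs with hα; · exact h α hα
                                 rfl

theorem psum_true_eq_add {Q R : Vec → Prop} {g : Vec → ℤ} (h : (Function.support g).Finite)
    (hR : ∀ α, R α ↔ ¬ Q α) : psum (fun _ => True) g = psum Q g + psum R g := by
  classical
  unfold psum
  rw [← finsum_add_distrib (support_ite_finite h) (support_ite_finite h)]
  refine finsum_congr fun α => ?_
  by_cases hα : Q α <;> simp [hR, hα]

theorem psum_comp_add {Q : Vec → Prop} {δ : Vec} (hQ : ∀ α, Q (α + δ) ↔ Q α) (g : Vec → ℤ) :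
    psum Q (fun α => g (α + δ)) = psum Q g := by
  classical
  unfold psum
  rw [← finsum_comp_equiv (Equiv.addRight δ) (f := fun α => if Q α then g α else 0)]
  exact finsum_congr fun α => by
    simp only [Equiv.coe_addRight, hQ]

theorem psum_comp_neg (Q : Vec → Prop) (g : Vec → ℤ) :
    psum Q (fun α => g (-α - 1)) = psum (fun α => Q (-α - 1)) g := by
  classical
  unfold psum
  rw [← finsum_comp_equiv (Equiv.subLeft (-1 : Vec)) (f := fun α => if Q α then g (-α - 1) else 0)]
  refine finsum_congr fun α => ?_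
  simp only [Equiv.subLeft_apply, show (-1 : Vec) - α = -α - 1 by abel,
    show -(-α - 1) - 1 = α by abel]

theorem support_comp_add {g : Vec → ℤ} (h : (Function.support g).Finite) (δ : Vec) :
    (Function.support fun α => g (α + δ)).Finite :=
  (h.preimage (f := fun α => α + δ) (add_left_injective δ).injOn).subset fun _ hα => hα

section

variable (hI : IsMonomial I) [Module.Finite k (MvPolynomial (Fin 3) k ⧸ I)]
include hI

/-- Summed over lines parallel to a coordinate axis, the two pieces differ by the Hilbert function. -/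
theorem psum_td_sub (Q : Vec → Prop) (n : Fin 3) (hQ : ∀ α, Q (α + ev n) ↔ Q α) :
    psum Q (td I) - psum (fun α => Q (-α - 1)) (td I) =
      psum Q (hf I) - psum (fun α => Q (-α - 1)) (hf I) := by
  classical
  have hcnt := cnt_support_finite hI
  have hneg : ∀ {g : Vec → ℤ}, (Function.support g).Finite →
      (Function.support fun α => g (-α - 1)).Finite := fun {g} h =>
    (h.preimage (f := fun α => -α - 1) (fun a _ b _ he => by simpa using he)).subset fun _ hα => hα
  let F : Vec → Vec → ℤ := fun δ α => cnt I (α + δ)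
  have hF : ∀ δ, (Function.support (F δ)).Finite := support_comp_add hcnt
  have hD : ∀ δ, psum Q (F (δ + ev n) - F δ) = 0 := fun δ => by
    rw [psum_sub (hF _) (hF _), sub_eq_zero]
    rw [← psum_comp_add hQ (F δ)]
    exact psum_congr fun α _ => by simp only [F]; congr 1; abel
  have hpt : ∀ α, (td I - fun α => td I (-α - 1)) α =
      ((hf I - fun α => hf I (-α - 1)) +
        ((F (0 + ev n) - F 0) - (F (ev (n + 1) + ev n) - F (ev (n + 1))) -
          (F (ev (n + 2) + ev n) - F (ev (n + 2))) +
          (F (ev (n + 1) + ev (n + 2) + ev n) - F (ev (n + 1) + ev (n + 2))))) α := fun α => by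
    simp only [Pi.sub_apply, Pi.add_apply, F, zero_add, add_zero]
    rw [td_sub_td hI α]
    have e : ∀ g : Fin 3 → ℤ, ∑ l, g l = g n + g (n + 1) + g (n + 2) := fun g => by
      fin_cases n <;> simp [Fin.sum_univ_three] <;> ring
    rw [e, e]
    have i0 : α + 1 - ev n = α + (ev (n + 1) + ev (n + 2)) := by rw [one_eq_ev n]; abel
    have i1 : α + 1 - ev (n + 1) = α + (ev (n + 2) + ev n) := by rw [one_eq_ev n]; abel
    have i2 : α + 1 - ev (n + 2) = α + (ev (n + 1) + ev n) := by rw [one_eq_ev n]; abel
    have i3 : α + 1 = α + (ev (n + 1) + ev (n + 2) + ev n) := by rw [one_eq_ev n]; abel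
    rw [i0, i1, i2, i3]
    ring
  have hs : ∀ a b, (Function.support (F a - F b)).Finite := fun a b =>
    ((hF a).union (hF b)).subset fun α hα => by
      by_contra hn
      simp only [Set.mem_union, Function.mem_support, not_or, not_not] at hn
      exact hα (by simp [hn])
  have hs' : ∀ {g g' : Vec → ℤ}, (Function.support g).Finite → (Function.support g').Finite →
      (Function.support (g - g')).Finite := fun {g g'} h h' =>
    (h.union h').subset fun α hα => by
      by_contra hn
      simp only [Set.mem_union, Function.mem_support, not_or, not_not] at hn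
      exact hα (by simp [hn])
  have h := psum_congr (Q := Q) fun α _ => hpt α
  rw [psum_sub (td_support_finite hI) (hneg (td_support_finite hI)),
    psum_add (hs' (hf_support_finite hI) (hneg (hf_support_finite hI))),
    psum_add (hs' (hs' (hs _ _) (hs _ _)) (hs _ _)) (hs _ _),
    psum_sub (hs' (hs _ _) (hs _ _)) (hs _ _), psum_sub (hs _ _) (hs _ _),
    psum_sub (hf_support_finite hI) (hneg (hf_support_finite hI)), hD, hD, hD, hD,
    psum_comp_neg, psum_comp_neg] at h
  · linarith
  · exact ((hs' (hs' (hs _ _) (hs _ _)) (hs _ _)).union (hs _ _)).subset (Function.support_add _ _)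

theorem finrank_iSup_eq_psum (P : Vec → Prop) :
    (Module.finrank k ↥(⨆ α : {α // P α}, tPiece I α.1) : ℤ) = psum P (td I) := by
  classical
  rw [finrank_iSup hI P (finite_CSp_ne_bot hI).toFinset fun α _ h => (Set.Finite.mem_toFinset _).mpr h]
  push_cast
  rw [Finset.sum_filter, psum, finsum_eq_sum_of_support_subset]
  · rfl
  · intro α hα
    refine Finset.mem_coe.mpr ((Set.Finite.mem_toFinset _).mpr fun he => hα ?_)
    simp [td, he]

theorem finrank_tgt_eq_psum : (Module.finrank k (Tgt I) : ℤ) = psum (fun _ => True) (td I) := by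
  have h := finrank_iSup_eq_psum hI fun _ => True
  rwa [iSup_tPiece_eq_top hI _ fun α h => absurd trivial h, finrank_top] at h

omit hI [Module.Finite k (MvPolynomial (Fin 3) k ⧸ I)] in
theorem psum_hf_eq_zero (P : Vec → Prop) (hP : ∀ α, P α → ∃ i, α i < 0) : psum P (hf I) = 0 := by
  classical
  refine finsum_eq_zero_of_forall_eq_zero fun α => ?_
  split_ifs with h
  · obtain ⟨i, hi⟩ := hP α h
    exact if_neg fun hC => absurd (hC.1 i) (not_le.mpr hi)
  · rfl

theorem psum_hf_eq_card (P : Vec → Prop) : psum P (hf I) = Nat.card {v : Vec // InC I v ∧ P v} := by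
  classical
  have hfin : {v : Vec | InC I v ∧ P v}.Finite := (InC.finite hI).subset fun v hv => hv.1
  rw [psum, finsum_eq_sum_of_support_subset (s := hfin.toFinset)]
  · rw [Finset.sum_congr rfl (g := fun _ => (1 : ℤ))]
    · rw [Finset.sum_const, nsmul_eq_mul, mul_one, ← Set.ncard_eq_toFinset_card _ hfin,
        ← Nat.card_coe_set_eq]
      rfl
    · intro v hv
      obtain ⟨h1, h2⟩ := (Set.Finite.mem_toFinset _).mp hv
      rw [if_pos h2]; exact if_pos h1
  · intro v hv
    refine Finset.mem_coe.mpr ((Set.Finite.mem_toFinset _).mpr ?_)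
    by_contra hn
    refine hv ?_
    show (if P v then hf I v else 0) = 0
    split_ifs with h
    · exact if_neg fun hC => hn ⟨hC, h⟩
    · rfl

theorem colength : Module.finrank k (MvPolynomial (Fin 3) k ⧸ I) = Nat.card {v : Vec // InC I v} := by
  classical
  haveI := (compl_exps_finite hI).to_subtype
  haveI := Fintype.ofFinite ((exps I)ᶜ : Set (Fin 3 →₀ ℕ))
  let F : (MvPolynomial (Fin 3) k ⧸ I) →ₗ[k] (((exps I)ᶜ : Set (Fin 3 →₀ ℕ)) → k) :=
    LinearMap.pi fun γ => (LinearMap.proj γ.1).comp (nf hI)
  have hbij : Function.Bijective F := by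
    constructor
    · rw [injective_iff_map_eq_zero]
      intro x hx
      refine nf_injective hI (funext fun γ => ?_)
      rw [map_zero, Pi.zero_apply]
      by_cases h : γ ∈ exps I
      · exact nf_apply_exps hI _ h
      · exact congrFun hx ⟨γ, h⟩
    · intro g
      refine ⟨Ideal.Quotient.mk I (∑ γ, monomial γ.1 (g γ)), funext fun γ => ?_⟩
      show nf hI _ γ.1 = g γ
      rw [nf_mk_apply hI _ γ.2, coeff_sum, Finset.sum_eq_single γ
        (fun b _ hb => by rw [coeff_monomial, if_neg fun he => hb (Subtype.ext he)])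
        (fun hn => absurd (Finset.mem_univ _) hn), coeff_monomial, if_pos rfl]
  rw [(LinearEquiv.ofBijective F hbij).finrank_eq, Module.finrank_pi, ← Nat.card_eq_fintype_card]
  exact Nat.card_congr
    { toFun := fun γ => ⟨ofF γ.1, ofF_nonneg _, by rw [toF_ofF]; exact γ.2⟩
      invFun := fun v => ⟨toF v.1, v.2.2⟩
      left_inv := fun γ => Subtype.ext (toF_ofF _)
      right_inv := fun v => Subtype.ext (ofF_toF v.2.1) }

theorem psum_hf_eq_colength (P : Vec → Prop) (hP : ∀ α, 0 ≤ α → P α) :
    psum P (hf I) = Module.finrank k (MvPolynomial (Fin 3) k ⧸ I) := by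
  rw [psum_hf_eq_card hI, colength hI]
  exact congrArg _ (Nat.card_congr (Equiv.subtypeEquivRight fun v => ⟨And.left, fun h => ⟨h, hP v h.1⟩⟩))

theorem td_eq_zero_of_signs {α : Vec} (h : (∀ i, 0 ≤ α i) ∨ ∀ i, α i < 0) : td I α = 0 := by
  rcases h with h | h
  · rw [td, CSp_eq_bot_of_nonneg h, finrank_bot, Nat.cast_zero]
  · rw [td, CSp_eq_bot_of_neg hI h, finrank_bot, Nat.cast_zero]

/-- The duality between sign patterns. -/
theorem finrank_sigPiece_singleton (n : Fin 3) :
    (Module.finrank k ↥(sigPiece I {n}) : ℤ) =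
      Module.finrank k ↥(sigPiece I ({n}ᶜ : Set (Fin 3))) + Module.finrank k (MvPolynomial (Fin 3) k ⧸ I) := by
  classical
  set Q : Vec → Prop := fun α => ∀ i, i ≠ n → 0 ≤ α i with hQ
  have h := psum_td_sub hI Q n fun α => by
    refine forall₂_congr fun i hi => ?_
    simp [ev_apply, hi]
  rw [psum_hf_eq_colength hI Q fun α hα i _ => hα i,
    psum_hf_eq_zero (fun α => Q (-α - 1)) fun α hα => by
      obtain ⟨i, hi⟩ := exists_ne n
      have := hα i hi
      exact ⟨i, by simp at this; omega⟩] at h
  have e1 : psum Q (td I) = psum (fun α => ∀ i, α i < 0 ↔ i ∈ ({n} : Set (Fin 3))) (td I) := by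
    refine finsum_congr fun α => ?_
    by_cases hn : α n < 0
    · have hiff : Q α ↔ ∀ i, α i < 0 ↔ i ∈ ({n} : Set (Fin 3)) := by
        refine ⟨fun h i => ?_, fun h i hi => ?_⟩
        · rcases eq_or_ne i n with rfl | hi
          · simp [hn]
          · simpa [hi] using h i hi
        · have := h i; simp [hi] at this; exact this
      by_cases hQα : Q α
      · rw [if_pos hQα, if_pos (hiff.mp hQα)]
      · rw [if_neg hQα, if_neg fun h => hQα (hiff.mpr h)]
    · by_cases hQα : Q α
      · rw [if_pos hQα, td_eq_zero_of_signs hI (Or.inl fun i => ?_)]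
        · split_ifs <;> rfl
        · rcases eq_or_ne i n with rfl | hi
          · exact not_lt.mp hn
          · exact hQα i hi
      · rw [if_neg hQα, if_neg fun h => hn ((h n).mpr rfl)]
  have e2 : psum (fun α => Q (-α - 1)) (td I) =
      psum (fun α => ∀ i, α i < 0 ↔ i ∈ ({n}ᶜ : Set (Fin 3))) (td I) := by
    refine finsum_congr fun α => ?_
    by_cases hn : 0 ≤ α n
    · have hiff : Q (-α - 1) ↔ ∀ i, α i < 0 ↔ i ∈ ({n}ᶜ : Set (Fin 3)) := by
        refine ⟨fun h i => ?_, fun h i hi => ?_⟩
        · rcases eq_or_ne i n with rfl | hi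
          · simp [hn]
          · have := h i hi; simp at this; simp [hi]; omega
        · have := h i; simp [hi] at this; simp; omega
      by_cases hQα : Q (-α - 1)
      · rw [if_pos hQα, if_pos (hiff.mp hQα)]
      · rw [if_neg hQα, if_neg fun h => hQα (hiff.mpr h)]
    · by_cases hQα : Q (-α - 1)
      · rw [if_pos hQα, td_eq_zero_of_signs hI (Or.inr fun i => ?_)]
        · split_ifs <;> rfl
        · rcases eq_or_ne i n with rfl | hi
          · exact not_le.mp hn
          · have := hQα i hi; simp at this; omega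
      · rw [if_neg hQα, if_neg fun h => (h n).mp (not_le.mp hn) rfl]
  rw [e1, e2] at h
  unfold sigPiece
  rw [finrank_iSup_eq_psum hI, finrank_iSup_eq_psum hI]
  linarith

theorem finrank_fix_pair (i j : ℕ) :
    (Module.finrank k ↥(⨆ α : {α : Fin 3 → ℤ // α 0 = (i : ℤ) ∧ α 1 = (j : ℤ)}, tPiece I α.1) : ℤ) =
      stairZ I i j +
        Module.finrank k ↥(⨆ α : {α : Fin 3 → ℤ // α 0 = -(i : ℤ) - 1 ∧ α 1 = -(j : ℤ) - 1}, tPiece I α.1) := by
  classical
  set Q : Vec → Prop := fun α => α 0 = (i : ℤ) ∧ α 1 = (j : ℤ) with hQ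
  have h := psum_td_sub hI Q 2 fun α => by simp [hQ, ev_apply]
  have e : (fun α : Vec => Q (-α - 1)) = fun α => α 0 = -(i : ℤ) - 1 ∧ α 1 = -(j : ℤ) - 1 := by
    funext α
    simp only [hQ, Pi.sub_apply, Pi.neg_apply, Pi.one_apply, eq_iff_iff]
    constructor <;> intro h <;> omega
  rw [psum_hf_eq_zero (fun α => Q (-α - 1)) fun α hα => ⟨0, by have h0 := hα.1; simp at h0; omega⟩, psum_hf_eq_card hI,
    e] at h
  rw [finrank_iSup_eq_psum hI, finrank_iSup_eq_psum hI]
  have hc : Nat.card {v : Vec // InC I v ∧ Q v} = stairZ I i j := by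
    refine Nat.card_congr
      { toFun := fun v => ⟨(v.1 2).toNat, ?_⟩
        invFun := fun c => ⟨ofF (e3 i j c.1), ⟨ofF_nonneg _, by rw [toF_ofF]; exact c.2⟩,
          by simp [hQ, ofF, e3]⟩
        left_inv := fun v => ?_
        right_inv := fun c => Subtype.ext (by simp [ofF, e3]) }
    · have hv : e3 i j (v.1 2).toNat = toF v.1 := by
        ext l; have h1 := v.2.2.1; have h2 := v.2.2.2
        fin_cases l <;> simp [e3, toF_apply, h1, h2]
      rw [hv]; exact v.2.1.2
    · refine Subtype.ext (funext fun l => ?_)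
      have h1 := v.2.2.1; have h2 := v.2.2.2; have h3 := v.2.1.1 2
      simp only [Pi.zero_apply] at h3
      fin_cases l <;> simp [ofF, e3, h1, h2] <;> omega
  rw [hc] at h
  linarith

theorem finrank_tgt_mod_two :
    Module.finrank k (Tgt I) % 2 = Module.finrank k (MvPolynomial (Fin 3) k ⧸ I) % 2 := by
  classical
  set Q : Vec → Prop := fun α => 0 ≤ α 0 with hQ
  have h := psum_td_sub hI Q 1 fun α => by simp [hQ, ev_apply]
  rw [psum_hf_eq_colength hI Q fun α hα => hα 0,
    psum_hf_eq_zero (fun α => Q (-α - 1)) fun α hα => ⟨0, by simp [hQ] at hα; omega⟩] at h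
  have hfin := td_support_finite hI
  have hsum := psum_true_eq_add (Q := Q) (R := fun α => Q (-α - 1)) hfin fun α => by simp [hQ]; omega
  rw [← finrank_tgt_eq_psum hI] at hsum
  omega

end

end Groth.Agent.Hilb6
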