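import Groth.Agent.Hilb6.Core
import Mathlib.RingTheory.MvPolynomial.Ideal

/-!
# Counting graded homomorphisms by a basis of pairs (multidegree, generator)
-/

namespace Groth.Agent.Hilb6

open MvPolynomial W4c1hilbpn

variable {σ : Type*} {k : Type*} [Field k] [Finite σ]

omit [Finite σ] in
theorem isMonomial_span_monomial (s : Set (σ →₀ ℕ)) :
    IsMonomial (Ideal.span ((fun b => monomial b (1 : k)) '' s)) := by
  classical
  intro p hp β hβ
  rw [mem_ideal_span_monomial_image] at hp ⊢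
  intro γ hγ
  rw [support_monomial, if_neg one_ne_zero, Finset.mem_singleton] at hγ
  exact hγ ▸ hp β hβ

omit [Finite σ] in
theorem mem_exps_span_monomial (s : Set (σ →₀ ℕ)) (β : σ →₀ ℕ) :
    β ∈ exps (Ideal.span ((fun b => monomial b (1 : k)) '' s)) ↔ ∃ b ∈ s, b ≤ β := by
  classical
  show monomial β (1 : k) ∈ Ideal.span ((fun b => monomial b (1 : k)) '' s) ↔ _
  simp [mem_ideal_span_monomial_image, support_monomial]

variable {I : Ideal (MvPolynomial σ k)}

open scoped Classical in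
/-- An indicator family. -/
theorem indicator_mem_CSp (α : σ → ℤ) (U : (σ →₀ ℕ) → Prop)
    (h : ∀ β ∈ exps I, ∀ i, shift (β + Finsupp.single i 1) α ∉ exps I →
      ((U (β + Finsupp.single i 1) ∧ Pos α (β + Finsupp.single i 1)) ↔ (U β ∧ Pos α β))) :
    (fun β => if β ∈ exps I ∧ Pos α β ∧ shift β α ∉ exps I ∧ U β then (1 : k) else 0) ∈ CSp I α := by
  refine ⟨fun β hβ => if_neg fun hh => hβ ⟨hh.1, hh.2.1, hh.2.2.1⟩, fun β hβ i hi => ?_⟩
  have hle : β ≤ β + Finsupp.single i 1 := le_add_of_nonneg_right (zero_le (α := σ →₀ ℕ))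
  have h' := h β hβ i hi
  beta_reduce
  by_cases hu : U β ∧ Pos α β
  · have hs : shift β α ∉ exps I := fun hh => hi (exps_upper hh (by
      rw [shift_add hu.2]; exact le_add_of_nonneg_right (zero_le (α := σ →₀ ℕ))))
    rw [if_pos ⟨exps_upper hβ hle, (h'.2 hu).2, hi, (h'.2 hu).1⟩, if_pos ⟨hβ, hu.2, hs, hu.1⟩]
  · rw [if_neg fun hh => hu (h'.1 ⟨hh.2.2.2, hh.2.1⟩), if_neg fun hh => hu ⟨hh.2.2.2, hh.2.1⟩]

/-- Dimension count by separated pairs. -/
theorem finrank_iSup_eq_card (hI : IsMonomial I) (P : (σ → ℤ) → Prop) [DecidablePred P]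
    (T : Finset ((σ → ℤ) × (σ →₀ ℕ))) (hT : ∀ t ∈ T, P t.1)
    (inj : ∀ α, P α → ∀ c ∈ CSp I α, (∀ b, (α, b) ∈ T → c b = 0) → c = 0)
    (surj : ∀ t ∈ T, ∃ c ∈ CSp I t.1, c t.2 = 1 ∧ ∀ b, b ≠ t.2 → (t.1, b) ∈ T → c b = 0) :
    Module.finrank k ↥(⨆ α : {α // P α}, tPiece I α.1) = T.card := by
  classical
  have hs : ∀ α, P α → CSp I α ≠ ⊥ → α ∈ T.image Prod.fst := by
    intro α hP hne
    obtain ⟨c, hc, hc0⟩ := Submodule.exists_mem_ne_zero_of_ne_bot hne
    by_contra hn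
    exact hc0 (inj α hP c hc fun b hb => absurd (Finset.mem_image_of_mem Prod.fst hb) hn)
  rw [finrank_iSup hI P _ hs, Finset.filter_true_of_mem fun α hα => ?_,
    Finset.card_eq_sum_card_image Prod.fst T]
  swap
  · obtain ⟨t, ht, rfl⟩ := Finset.mem_image.1 hα
    exact hT t ht
  refine Finset.sum_congr rfl fun α hα => ?_
  obtain ⟨t, ht, rfl⟩ := Finset.mem_image.1 hα
  let B := T.filter fun s => s.1 = t.1
  let F : CSp I t.1 →ₗ[k] (B → k) :=
    LinearMap.pi fun s : B => (LinearMap.proj s.1.2).comp (CSp I t.1).subtype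
  have hinj : Function.Injective F := by
    rw [injective_iff_map_eq_zero]
    intro c hc
    refine Subtype.ext (inj t.1 (hT t ht) c.1 c.2 fun b hb => ?_)
    exact congrFun hc ⟨(t.1, b), Finset.mem_filter.2 ⟨hb, rfl⟩⟩
  have hsurj : Function.Surjective F := by
    intro v
    have h : ∀ s : B, ∃ c ∈ CSp I t.1, c s.1.2 = 1 ∧ ∀ b, b ≠ s.1.2 → (t.1, b) ∈ T → c b = 0 := fun s => by
      obtain ⟨hsT, hs1⟩ := Finset.mem_filter.1 s.2
      rw [← hs1]
      exact surj s.1 hsT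
    choose c hc hc1 hc0 using h
    refine ⟨∑ s : B, v s • (⟨c s, hc s⟩ : CSp I t.1), funext fun s => ?_⟩
    show (((∑ r : B, v r • (⟨c r, hc r⟩ : CSp I t.1) : CSp I t.1)) : (σ →₀ ℕ) → k) s.1.2 = v s
    rw [Submodule.coe_sum, Finset.sum_apply, Finset.sum_eq_single s]
    · simp [hc1]
    · intro r _ hr
      have hs' := Finset.mem_filter.1 s.2
      have hr' := Finset.mem_filter.1 r.2
      have : c r s.1.2 = 0 := hc0 r _ (fun he => hr (Subtype.ext (Prod.ext (hr'.2.trans hs'.2.symm) he.symm)))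
        (hs'.2 ▸ hs'.1)
      simp [this]
    · exact fun hn => absurd (Finset.mem_univ s) hn
  rw [(LinearEquiv.ofBijective F ⟨hinj, hsurj⟩).finrank_eq, Module.finrank_fintype_fun_eq_card,
    Fintype.card_coe]

end Groth.Agent.Hilb6
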