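import Groth.Agent.Hilb6.Comp
import Mathlib.LinearAlgebra.Matrix.Rank
import Mathlib.Tactic

/-!
# A Koszul complex on the staircase of a monomial ideal in three variables

For `M = S/I` of finite length, the complex `Hom_k(M, M)` with the Koszul differential computes
`Ext(M, M)`. In multidegree `α` its middle differential is the transpose of the one in multidegree
`-α-1`, which gives the numerical duality between the pieces of `Hom(I, S/I)`.
-/

namespace Groth.Agent.Hilb6

open MvPolynomial W4c1hilbpn Matrix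

/-- Integer vectors. -/
abbrev Vec := Fin 3 → ℤ

variable {k : Type*} [Field k] {I : Ideal (MvPolynomial (Fin 3) k)} {α : Vec}

/-- A unit vector. -/
def ev (i : Fin 3) : Vec := Pi.single i 1

theorem ev_apply (i j : Fin 3) : ev i j = if j = i then 1 else 0 := Pi.single_apply i 1 j

theorem one_eq_ev (n : Fin 3) : (1 : Vec) = ev n + ev (n + 1) + ev (n + 2) := by
  funext j
  fin_cases n <;> fin_cases j <;> simp [ev_apply]

/-- Exponent of a vector. -/
noncomputable def toF (v : Vec) : Fin 3 →₀ ℕ := Finsupp.equivFunOnFinite.symm fun i => (v i).toNat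

/-- Vector of an exponent. -/
def ofF (β : Fin 3 →₀ ℕ) : Vec := fun i => (β i : ℤ)

theorem toF_apply (v : Vec) (i : Fin 3) : toF v i = (v i).toNat := rfl

theorem toF_ofF (β : Fin 3 →₀ ℕ) : toF (ofF β) = β := by
  ext i; simp [toF_apply, ofF]

theorem ofF_toF {v : Vec} (h : 0 ≤ v) : ofF (toF v) = v := funext fun i => Int.toNat_of_nonneg (h i)

theorem ofF_nonneg (β : Fin 3 →₀ ℕ) : 0 ≤ ofF β := fun _ => Int.natCast_nonneg _

theorem shift_eq_toF (β : Fin 3 →₀ ℕ) (α : Vec) : shift β α = toF (ofF β + α) := rfl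

theorem toF_mono {u v : Vec} (h : u ≤ v) : toF u ≤ toF v := fun i => Int.toNat_le_toNat (h i)

theorem ev_nonneg (i : Fin 3) : 0 ≤ ev i := fun j => by
  rw [ev_apply]; split_ifs <;> simp

theorem le_add_ev (u : Vec) (i : Fin 3) : u ≤ u + ev i := le_add_of_nonneg_right (ev_nonneg i)

theorem toF_add_ev {u : Vec} (h : 0 ≤ u) (i : Fin 3) : toF (u + ev i) = toF u + Finsupp.single i 1 := by
  ext j
  have := h j
  simp only [Pi.zero_apply] at this
  rcases eq_or_ne j i with rfl | hj
  · simp [toF_apply, ev_apply]; omega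
  · simp [toF_apply, ev_apply, hj]

/-- The staircase: exponents outside the ideal. -/
def InC (I : Ideal (MvPolynomial (Fin 3) k)) (v : Vec) : Prop := 0 ≤ v ∧ toF v ∉ exps I

theorem InC.nonneg {v : Vec} (h : InC I v) : 0 ≤ v := h.1

theorem InC.mono {u v : Vec} (h : InC I v) (hu : 0 ≤ u) (hle : u ≤ v) : InC I u :=
  ⟨hu, fun h' => h.2 (exps_upper h' (toF_mono hle))⟩

theorem InC.finite (hI : IsMonomial I) [Module.Finite k (MvPolynomial (Fin 3) k ⧸ I)] :
    {v | InC I v}.Finite :=
  ((compl_exps_finite hI).image ofF).subset fun v hv => ⟨toF v, hv.2, ofF_toF hv.1⟩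

/-- Pairs of staircase points with difference `γ`. -/
abbrev Pairs (I : Ideal (MvPolynomial (Fin 3) k)) (γ : Vec) : Type := {a : Vec // InC I a ∧ InC I (a + γ)}

/-- Index set of `1`-cochains. -/
abbrev S1 (I : Ideal (MvPolynomial (Fin 3) k)) (α : Vec) : Type :=
  {p : Fin 3 × Vec // InC I p.2 ∧ InC I (p.2 + (α + ev p.1))}

/-- Index set of `2`-cochains. -/
abbrev S2 (I : Ideal (MvPolynomial (Fin 3) k)) (α : Vec) : Type :=
  {p : Fin 3 × Vec // InC I p.2 ∧ InC I (p.2 + (α + 1 - ev p.1))}

section Finiteness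

variable (hI : IsMonomial I) [Module.Finite k (MvPolynomial (Fin 3) k ⧸ I)]
include hI

theorem finite_pairs (γ : Vec) : Finite (Pairs I γ) := by
  haveI := (InC.finite hI).to_subtype
  exact Finite.of_injective (β := {v | InC I v}) (fun a => ⟨a.1, a.2.1⟩) fun a b h =>
    Subtype.ext (congrArg (fun x : {v | InC I v} => x.1) h)

theorem finite_S1 (α : Vec) : Finite (S1 I α) := by
  haveI := (InC.finite hI).to_subtype
  exact Finite.of_injective (β := Fin 3 × {v | InC I v}) (fun p => (p.1.1, ⟨p.1.2, p.2.1⟩)) fun a b h =>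
    Subtype.ext (Prod.ext (congrArg (fun x => x.1) h) (congrArg (fun x => x.2.1) h))

theorem finite_S2 (α : Vec) : Finite (S2 I α) := by
  haveI := (InC.finite hI).to_subtype
  exact Finite.of_injective (β := Fin 3 × {v | InC I v}) (fun p => (p.1.1, ⟨p.1.2, p.2.1⟩)) fun a b h =>
    Subtype.ext (Prod.ext (congrArg (fun x => x.1) h) (congrArg (fun x => x.2.1) h))

end Finiteness

open scoped Classical in
/-- Indicator of a point. -/
noncomputable def ind (k : Type*) [Field k] {X : Type*} (x y : X) : k := if x = y then 1 else 0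

open scoped Classical in
/-- Middle Koszul differential. -/
noncomputable def M1 (I : Ideal (MvPolynomial (Fin 3) k)) (α : Vec) : Matrix (S2 I α) (S1 I α) k :=
  Matrix.of fun r s =>
    (ind k s.1 (r.1.1 + 2, r.1.2 + ev (r.1.1 + 1)) - ind k s.1 (r.1.1 + 2, r.1.2)) -
      (ind k s.1 (r.1.1 + 1, r.1.2 + ev (r.1.1 + 2)) - ind k s.1 (r.1.1 + 1, r.1.2))

open scoped Classical in
/-- Extension by zero of a `1`-cochain. -/
noncomputable def ext1 (f : S1 I α → k) (l : Fin 3) (b : Vec) : k :=
  if h : InC I b ∧ InC I (b + (α + ev l)) then f ⟨(l, b), h⟩ else 0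

theorem sum_ind_mul [Fintype (S1 I α)] (f : S1 I α → k) (l : Fin 3) (b : Vec) :
    ∑ s : S1 I α, ind k s.1 (l, b) * f s = ext1 f l b := by
  classical
  unfold ext1 ind
  split_ifs with h
  · rw [Finset.sum_eq_single ⟨(l, b), h⟩ (fun s _ hs => by
      rw [if_neg fun he => hs (Subtype.ext he), zero_mul]) (fun hn => absurd (Finset.mem_univ _) hn)]
    simp
  · refine Finset.sum_eq_zero fun s _ => ?_
    rw [if_neg, zero_mul]
    intro he
    have := s.2
    rw [he] at this
    exact h this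

theorem M1_mulVec [Fintype (S1 I α)] (f : S1 I α → k) (r : S2 I α) :
    (M1 I α *ᵥ f) r =
      (ext1 f (r.1.1 + 2) (r.1.2 + ev (r.1.1 + 1)) - ext1 f (r.1.1 + 2) r.1.2) -
        (ext1 f (r.1.1 + 1) (r.1.2 + ev (r.1.1 + 2)) - ext1 f (r.1.1 + 1) r.1.2) := by
  simp only [Matrix.mulVec, dotProduct, M1, Matrix.of_apply, sub_mul, Finset.sum_sub_distrib, sum_ind_mul]

/-! ### Potentials -/

/-- The space of potentials of multidegree `α`. -/
abbrev Potentials (I : Ideal (MvPolynomial (Fin 3) k)) (α : Vec) : Type _ :=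
  CSp I α × (Pairs I α → k)

open scoped Classical in
/-- Potential attached to a pair. -/
noncomputable def pot (α : Vec) (x : Potentials I α) (v : Vec) : k :=
  if h : InC I v ∧ InC I (v + α) then x.2 ⟨v, h⟩ else
    if 0 ≤ v ∧ 0 ≤ v + α then x.1.1 (toF v) else 0

theorem pot_add (x y : Potentials I α) (v : Vec) : pot α (x + y) v = pot α x v + pot α y v := by
  unfold pot
  split_ifs <;> simp

theorem pot_smul (a : k) (x : Potentials I α) (v : Vec) : pot α (a • x) v = a * pot α x v := by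
  unfold pot
  split_ifs <;> simp

theorem pot_supp (x : Potentials I α) {v : Vec} (h : pot α x v ≠ 0) : 0 ≤ v ∧ InC I (v + α) := by
  unfold pot at h
  split_ifs at h with h1 h2
  · exact ⟨h1.1.1, h1.2⟩
  · obtain ⟨-, -, h3⟩ := CSp.supp x.1.2 h
    rw [shift_eq_toF, ofF_toF h2.1] at h3
    exact ⟨h2.1, h2.2, h3⟩
  · exact absurd rfl h

theorem pot_eq_zero (x : Potentials I α) {v : Vec} (h : ¬ 0 ≤ v + α) : pot α x v = 0 :=
  by_contra fun hn => h (pot_supp x hn).2.1

theorem pot_step_exps (x : Potentials I α) {b : Vec} (l : Fin 3) (hb : 0 ≤ b) (hC : ¬ InC I b)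
    (ht : InC I (b + ev l + α)) : pot α x (b + ev l) = pot α x b := by
  have hbe : toF b ∈ exps I := by_contra fun hn => hC ⟨hb, hn⟩
  have hC' : ¬ InC I (b + ev l) := fun h => hC (h.mono hb (le_add_ev b l))
  have hnn : 0 ≤ b + ev l := hb.trans (le_add_ev b l)
  unfold pot
  rw [dif_neg fun h => hC' h.1, dif_neg fun h => hC h.1, if_pos ⟨hnn, ht.1⟩]
  have hsh : shift (toF b + Finsupp.single l 1) α ∉ exps I := by
    rw [shift_eq_toF, ← toF_add_ev hb, ofF_toF hnn]; exact ht.2
  have hstep : x.1.1 (toF (b + ev l)) = x.1.1 (toF b) := by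
    rw [toF_add_ev hb]; exact x.1.2.2 _ hbe l hsh
  rw [hstep]
  split_ifs with h
  · rfl
  · refine x.1.2.1 _ fun hh => h ⟨hb, fun i => ?_⟩
    have := hh.2.1 i
    rw [toF_apply, Int.toNat_of_nonneg (hb i)] at this
    exact this

open scoped Classical in
/-- Coboundary of a potential. -/
noncomputable def cob (I : Ideal (MvPolynomial (Fin 3) k)) (α : Vec) :
    Potentials I α →ₗ[k] (S1 I α → k) where
  toFun x s := pot α x (s.1.2 + ev s.1.1) - pot α x s.1.2
  map_add' x y := by funext s; simp [pot_add]; ring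
  map_smul' a x := by funext s; simp [pot_smul]; ring

theorem ext1_cob (x : Potentials I α) {l : Fin 3} {b v : Vec} (hb : 0 ≤ b) (hle : b + ev l ≤ v)
    (hv : InC I (v + α)) : ext1 (cob I α x) l b = pot α x (b + ev l) - pot α x b := by
  unfold ext1
  by_cases hnn : 0 ≤ b + ev l + α
  · have ht : InC I (b + ev l + α) := hv.mono hnn (add_le_add hle le_rfl)
    have ht' : InC I (b + (α + ev l)) := by rwa [← add_assoc, add_right_comm]
    by_cases hC : InC I b
    · rw [dif_pos ⟨hC, ht'⟩]; rfl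
    · rw [dif_neg fun h => hC h.1, pot_step_exps x l hb hC ht, sub_self]
  · have hnn' : ¬ 0 ≤ b + α := fun h => hnn (h.trans (add_le_add (le_add_ev b l) le_rfl))
    rw [dif_neg fun h => hnn (by rw [add_right_comm, add_assoc]; exact h.2.1), pot_eq_zero x hnn, pot_eq_zero x hnn', sub_self]

theorem M1_cob [Fintype (S1 I α)] (x : Potentials I α) : M1 I α *ᵥ cob I α x = 0 := by
  funext r
  obtain ⟨⟨n, a⟩, ha, ht⟩ := r
  have hv : InC I (a + (ev (n + 1) + ev (n + 2)) + α) := by
    have e : a + (α + 1 - ev n) = a + (ev (n + 1) + ev (n + 2)) + α := by rw [one_eq_ev n]; abel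
    exact e ▸ ht
  have h1 : a + ev (n + 1) + ev (n + 2) ≤ a + (ev (n + 1) + ev (n + 2)) := (add_assoc _ _ _).le
  have h2 : a + ev (n + 2) + ev (n + 1) ≤ a + (ev (n + 1) + ev (n + 2)) := by rw [add_right_comm, add_assoc]
  have h3 : a + ev (n + 2) ≤ a + (ev (n + 1) + ev (n + 2)) :=
    add_le_add le_rfl (le_add_of_nonneg_left (ev_nonneg _))
  have h4 : a + ev (n + 1) ≤ a + (ev (n + 1) + ev (n + 2)) :=
    add_le_add le_rfl (le_add_of_nonneg_right (ev_nonneg _))
  have ha0 := ha.nonneg
  rw [M1_mulVec]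
  simp only [Pi.zero_apply]
  rw [ext1_cob x (ha0.trans (le_add_ev a _)) h1 hv, ext1_cob x ha0 h3 hv,
    ext1_cob x (ha0.trans (le_add_ev a _)) h2 hv, ext1_cob x ha0 h4 hv]
  rw [add_right_comm a (ev (n + 2))]
  ring

/-! ### Integration of cocycles -/

/-- A point with natural coordinates. -/
def pt3 (x y z : ℕ) : Vec := ![(x : ℤ), y, z]

theorem pt3_nonneg (x y z : ℕ) : 0 ≤ pt3 x y z := fun i => by fin_cases i <;> simp [pt3]

theorem pt3_toNat {v : Vec} (h : 0 ≤ v) : pt3 (v 0).toNat (v 1).toNat (v 2).toNat = v := by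
  funext i
  have := h i
  fin_cases i <;> simp [pt3] at this ⊢ <;> exact this

theorem pt3_ev0 (x y z : ℕ) : pt3 x y z + ev 0 = pt3 (x + 1) y z := by
  funext i; fin_cases i <;> simp [pt3, ev_apply]

theorem pt3_ev1 (x y z : ℕ) : pt3 x y z + ev 1 = pt3 x (y + 1) z := by
  funext i; fin_cases i <;> simp [pt3, ev_apply]

theorem pt3_ev2 (x y z : ℕ) : pt3 x y z + ev 2 = pt3 x y (z + 1) := by
  funext i; fin_cases i <;> simp [pt3, ev_apply]

theorem pt3_le {x y z x' y' z' : ℕ} (hx : x ≤ x') (hy : y ≤ y') (hz : z ≤ z') :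
    pt3 x y z ≤ pt3 x' y' z' := fun i => by fin_cases i <;> simpa [pt3]

/-- Path integral of a cochain. -/
noncomputable def path (f : S1 I α → k) (x y z : ℕ) : k :=
  (∑ t ∈ Finset.range z, ext1 f 2 (pt3 0 0 t)) + (∑ t ∈ Finset.range y, ext1 f 1 (pt3 0 t z)) +
    ∑ t ∈ Finset.range x, ext1 f 0 (pt3 t y z)

theorem ext1_eq_zero {f : S1 I α → k} {l : Fin 3} {b : Vec} (h : ¬ (InC I b ∧ InC I (b + (α + ev l)))) :
    ext1 f l b = 0 := by
  classical exact dif_neg h

theorem path_eq_zero (f : S1 I α → k) {x y z : ℕ} (h : ¬ 0 ≤ pt3 x y z + α) : path f x y z = 0 := by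
  have key : ∀ l b, b + ev l ≤ pt3 x y z → ext1 f l b = 0 := fun l b hb =>
    ext1_eq_zero fun hh => h (hh.2.1.trans (by rw [add_comm α, ← add_assoc]; exact add_le_add hb le_rfl))
  unfold path
  rw [Finset.sum_eq_zero, Finset.sum_eq_zero, Finset.sum_eq_zero, add_zero, add_zero]
  · intro t ht
    exact key _ _ (by rw [pt3_ev0]; exact pt3_le (Finset.mem_range.mp ht) le_rfl le_rfl)
  · intro t ht
    exact key _ _ (by rw [pt3_ev1]; exact pt3_le (Nat.zero_le _) (Finset.mem_range.mp ht) le_rfl)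
  · intro t ht
    exact key _ _ (by rw [pt3_ev2]; exact pt3_le (Nat.zero_le _) (Nat.zero_le _) (Finset.mem_range.mp ht))

theorem curl_eq_zero [Fintype (S1 I α)] {f : S1 I α → k} (hf : M1 I α *ᵥ f = 0) {v : Vec}
    (hv : InC I (v + α)) (n : Fin 3) {a : Vec} (ha : 0 ≤ a) (hle : a + ev (n + 1) + ev (n + 2) ≤ v) :
    ext1 f (n + 2) (a + ev (n + 1)) - ext1 f (n + 2) a =
      ext1 f (n + 1) (a + ev (n + 2)) - ext1 f (n + 1) a := by
  have e : a + (α + 1 - ev n) = a + ev (n + 1) + ev (n + 2) + α := by rw [one_eq_ev n]; abel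
  by_cases hC : InC I a
  · by_cases hnn : 0 ≤ a + ev (n + 1) + ev (n + 2) + α
    · have ht : InC I (a + ev (n + 1) + ev (n + 2) + α) := hv.mono hnn (add_le_add hle le_rfl)
      have := congrFun hf ⟨(n, a), hC, e ▸ ht⟩
      rw [M1_mulVec] at this
      simp only [Pi.zero_apply] at this
      exact sub_eq_zero.mp this
    · have key : ∀ l b, b + ev l ≤ a + ev (n + 1) + ev (n + 2) → ext1 f l b = 0 := fun l b hb =>
        ext1_eq_zero fun hh => hnn (hh.2.1.trans (by rw [add_comm α, ← add_assoc]; exact add_le_add hb le_rfl))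
      have k1 : a + ev (n + 2) ≤ a + ev (n + 1) + ev (n + 2) := add_le_add (le_add_ev _ _) le_rfl
      rw [key _ _ le_rfl, key _ _ k1, key _ _ (add_right_comm a _ _).le, key _ _ (le_add_ev _ _)]
  · have key : ∀ l b, a ≤ b → ext1 f l b = 0 := fun l b hb =>
      ext1_eq_zero fun hh => hC (hh.1.mono ha hb)
    rw [key _ _ (le_add_ev _ _), key _ _ le_rfl, key _ _ (le_add_ev _ _), key _ _ le_rfl]

theorem path_step [Fintype (S1 I α)] {f : S1 I α → k} (hf : M1 I α *ᵥ f = 0) (l : Fin 3) {x y z : ℕ}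
    (hv : InC I (pt3 x y z + ev l + α)) :
    ext1 f l (pt3 x y z) =
      (match l with | 0 => path f (x + 1) y z | 1 => path f x (y + 1) z | 2 => path f x y (z + 1)) -
        path f x y z := by
  match l with
  | 0 => simp only [path, Finset.sum_range_succ]; ring
  | 1 =>
    rw [pt3_ev1] at hv
    have hc : ∀ t ∈ Finset.range x, ext1 f 0 (pt3 t (y + 1) z) - ext1 f 0 (pt3 t y z) =
        ext1 f 1 (pt3 (t + 1) y z) - ext1 f 1 (pt3 t y z) := fun t ht => by
      have hle : pt3 t y z + ev (2 + 1) + ev (2 + 2) ≤ pt3 x (y + 1) z := by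
        rw [show (2 : Fin 3) + 1 = 0 from rfl, show (2 : Fin 3) + 2 = 1 from rfl, pt3_ev0, pt3_ev1]
        exact pt3_le (Finset.mem_range.mp ht) le_rfl le_rfl
      have := curl_eq_zero hf hv 2 (pt3_nonneg t y z) hle
      rw [show (2 : Fin 3) + 1 = 0 from rfl, show (2 : Fin 3) + 2 = 1 from rfl, pt3_ev0, pt3_ev1] at this
      exact this.symm
    have := Finset.sum_congr rfl hc
    rw [Finset.sum_sub_distrib, Finset.sum_range_sub (fun t => ext1 f 1 (pt3 t y z))] at this
    simp only [path, Finset.sum_range_succ]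
    linear_combination -this
  | 2 =>
    rw [pt3_ev2] at hv
    have hc : ∀ t ∈ Finset.range x, ext1 f 0 (pt3 t y (z + 1)) - ext1 f 0 (pt3 t y z) =
        ext1 f 2 (pt3 (t + 1) y z) - ext1 f 2 (pt3 t y z) := fun t ht => by
      have hle : pt3 t y z + ev (1 + 1) + ev (1 + 2) ≤ pt3 x y (z + 1) := by
        rw [show (1 : Fin 3) + 1 = 2 from rfl, show (1 : Fin 3) + 2 = 0 from rfl, pt3_ev2, pt3_ev0]
        exact pt3_le (Finset.mem_range.mp ht) le_rfl le_rfl
      have := curl_eq_zero hf hv 1 (pt3_nonneg t y z) hle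
      rw [show (1 : Fin 3) + 1 = 2 from rfl, show (1 : Fin 3) + 2 = 0 from rfl, pt3_ev2, pt3_ev0] at this
      exact this
    have hd : ∀ t ∈ Finset.range y, ext1 f 1 (pt3 0 t (z + 1)) - ext1 f 1 (pt3 0 t z) =
        ext1 f 2 (pt3 0 (t + 1) z) - ext1 f 2 (pt3 0 t z) := fun t ht => by
      have hle : pt3 0 t z + ev (0 + 1) + ev (0 + 2) ≤ pt3 x y (z + 1) := by
        rw [show (0 : Fin 3) + 1 = 1 from rfl, show (0 : Fin 3) + 2 = 2 from rfl, pt3_ev1, pt3_ev2]
        exact pt3_le (Nat.zero_le _) (Finset.mem_range.mp ht) le_rfl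
      have := curl_eq_zero hf hv 0 (pt3_nonneg 0 t z) hle
      rw [show (0 : Fin 3) + 1 = 1 from rfl, show (0 : Fin 3) + 2 = 2 from rfl, pt3_ev1, pt3_ev2] at this
      exact this.symm
    have h1 := Finset.sum_congr rfl hc
    have h2 := Finset.sum_congr rfl hd
    rw [Finset.sum_sub_distrib, Finset.sum_range_sub (fun t => ext1 f 2 (pt3 t y z))] at h1
    rw [Finset.sum_sub_distrib, Finset.sum_range_sub (fun t => ext1 f 2 (pt3 0 t z))] at h2
    simp only [path, Finset.sum_range_succ]
    linear_combination -h1 - h2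

/-- Path integral at a vector. -/
noncomputable def primitive (f : S1 I α → k) (v : Vec) : k := path f (v 0).toNat (v 1).toNat (v 2).toNat

theorem primitive_eq_zero (f : S1 I α → k) {v : Vec} (hv : 0 ≤ v) (h : ¬ 0 ≤ v + α) : primitive f v = 0 :=
  path_eq_zero f (by rwa [pt3_toNat hv])

theorem primitive_step [Fintype (S1 I α)] {f : S1 I α → k} (hf : M1 I α *ᵥ f = 0) (l : Fin 3) {u : Vec}
    (hu : 0 ≤ u) (hv : InC I (u + ev l + α)) :
    ext1 f l u = primitive f (u + ev l) - primitive f u := by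
  rw [← pt3_toNat hu] at hv
  have h := path_step hf l hv
  conv_lhs => rw [← pt3_toNat hu]
  rw [h]
  have := hu 0
  have := hu 1
  have := hu 2
  simp only [Pi.zero_apply] at *
  congr 1
  unfold primitive
  fin_cases l <;> simp [ev_apply] <;> congr 1 <;> omega

theorem exists_pot_eq [Fintype (S1 I α)] {f : S1 I α → k} (hf : M1 I α *ᵥ f = 0) :
    ∃ x : Potentials I α, cob I α x = f := by
  classical
  let c : (Fin 3 →₀ ℕ) → k := fun β =>
    if β ∈ exps I ∧ Pos α β ∧ shift β α ∉ exps I then primitive f (ofF β) else 0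
  have hc : c ∈ CSp I α := by
    refine ⟨fun β h => if_neg h, fun β hβ i hi => ?_⟩
    have hnn : 0 ≤ ofF β := ofF_nonneg β
    have htop : ofF (β + Finsupp.single i 1) = ofF β + ev i := by
      conv_lhs => rw [← toF_ofF β, ← toF_add_ev hnn]
      exact ofF_toF (hnn.trans (le_add_ev _ _))
    have hnot : ¬ InC I (ofF β) := fun h => h.2 (by rwa [toF_ofF])
    have hβ' : β + Finsupp.single i 1 ∈ exps I :=
      exps_upper hβ (le_add_of_nonneg_right (zero_le (α := Fin 3 →₀ ℕ)))
    simp only [c]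
    by_cases hp : Pos α (β + Finsupp.single i 1)
    · rw [if_pos ⟨hβ', hp, hi⟩, htop]
      have ht : InC I (ofF β + ev i + α) := by
        rw [← htop]; exact ⟨hp, hi⟩
      have he := primitive_step hf i hnn ht
      rw [ext1_eq_zero fun h => hnot h.1, eq_comm, sub_eq_zero] at he
      rw [he]
      by_cases hp0 : Pos α β
      · rw [if_pos]
        refine ⟨hβ, hp0, fun h => hi (exps_upper h ?_)⟩
        rw [shift_add hp0]; exact le_add_of_nonneg_right (zero_le (α := Fin 3 →₀ ℕ))
      · rw [if_neg fun h => hp0 h.2.1]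
        exact primitive_eq_zero f hnn hp0
    · rw [if_neg fun h => hp h.2.1, if_neg fun h =>
        hp (h.2.1.mono (le_add_of_nonneg_right (zero_le (α := Fin 3 →₀ ℕ))))]
  let x : Potentials I α := (⟨c, hc⟩, fun a => primitive f a.1)
  have hG : ∀ v, 0 ≤ v → InC I (v + α) → pot α x v = primitive f v := fun v hv ht => by
    unfold pot
    split_ifs with h1 h2
    · rfl
    · show c (toF v) = _
      have he : toF v ∈ exps I := by_contra fun hn => h1 ⟨⟨hv, hn⟩, ht⟩
      simp only [c]
      rw [if_pos, ofF_toF hv]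
      refine ⟨he, fun i => ?_, ?_⟩
      · rw [toF_apply, Int.toNat_of_nonneg (hv i)]; exact ht.1 i
      · rw [shift_eq_toF, ofF_toF hv]; exact ht.2
    · exact absurd ⟨hv, ht.1⟩ h2
  refine ⟨x, funext fun s => ?_⟩
  obtain ⟨⟨l, a⟩, ha, ht⟩ := s
  have ht' : InC I (a + ev l + α) := by rwa [add_right_comm, add_assoc]
  show pot α x (a + ev l) - pot α x a = _
  have hs := primitive_step hf l ha.1 ht'
  rw [show ext1 f l a = f ⟨(l, a), ha, ht⟩ from dif_pos (c := InC I a ∧ InC I (a + (α + ev l))) ⟨ha, ht⟩] at hs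
  rw [hs, hG _ (ha.1.trans (le_add_ev a l)) ht']
  congr 1
  by_cases hn : 0 ≤ a + α
  · exact hG a ha.1 (ht'.mono hn (add_le_add (le_add_ev a l) le_rfl))
  · rw [pot_eq_zero x hn, primitive_eq_zero f ha.1 hn]

theorem pot_eq_pot_zero (x : Potentials I α) (hx : cob I α x = 0) {v : Vec} (hv : 0 ≤ v)
    (ht : InC I (v + α)) : pot α x v = pot α x 0 := by
  classical
  induction hn : (v 0 + v 1 + v 2).toNat using Nat.strong_induction_on generalizing v with
  | _ n ih =>
    by_cases h0 : v = 0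
    · rw [h0]
    obtain ⟨l, hl⟩ : ∃ l, 1 ≤ v l := by
      by_contra hh
      push Not at hh
      exact h0 (funext fun i => le_antisymm (by have := hh i; simp only [Pi.zero_apply]; omega) (hv i))
    have hu : 0 ≤ v - ev l := fun i => by
      have := hv i
      rcases eq_or_ne i l with rfl | hi
      · simp [ev_apply]; omega
      · simpa [ev_apply, hi] using this
    have hstep : pot α x v = pot α x (v - ev l) := by
      have hvu : v - ev l + ev l = v := sub_add_cancel _ _
      have h := congrArg (fun g => ext1 g l (v - ev l)) hx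
      beta_reduce at h
      rw [ext1_cob x hu hvu.le ht, hvu] at h
      have hz : ext1 (0 : S1 I α → k) l (v - ev l) = 0 := by
        unfold ext1; split_ifs <;> rfl
      rw [hz, sub_eq_zero] at h
      exact h
    rw [hstep]
    by_cases hn0 : 0 ≤ v - ev l + α
    · have hlt : ((v - ev l) 0 + (v - ev l) 1 + (v - ev l) 2).toNat < n := by
        have := hv 0
        have := hv 1
        have := hv 2
        fin_cases l <;> simp [ev_apply] at * <;> omega
      exact ih _ hlt hu (ht.mono hn0 (add_le_add (sub_le_self v (ev_nonneg l)) le_rfl)) rfl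
    · rw [pot_eq_zero x hn0]
      refine (pot_eq_zero x fun h => hn0 (h.trans ?_)).symm
      exact add_le_add hu le_rfl

theorem finrank_ker_cob [DecidablePred (InC I)] (α : Vec) :
    Module.finrank k (LinearMap.ker (cob I α)) = if InC I α then 1 else 0 := by
  classical
  let φ : LinearMap.ker (cob I α) →ₗ[k] k :=
    { toFun := fun x => pot α x.1 0
      map_add' := fun x y => pot_add _ _ _
      map_smul' := fun a x => pot_smul _ _ _ }
  have hinj : Function.Injective φ := by
    rw [injective_iff_map_eq_zero]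
    intro x hx
    have hG : ∀ v, pot α x.1 v = 0 := fun v => by_contra fun hn => by
      obtain ⟨h1, h2⟩ := pot_supp x.1 hn
      exact hn ((pot_eq_pot_zero x.1 x.2 h1 h2).trans hx)
    refine Subtype.ext (Prod.ext (Subtype.ext (funext fun β => by_contra fun hn => ?_)) (funext fun a => ?_))
    · obtain ⟨h1, h2, -⟩ := CSp.supp x.1.1.2 hn
      have := hG (ofF β)
      unfold pot at this
      rw [dif_neg fun h => h.1.2 (by rwa [toF_ofF]), if_pos ⟨ofF_nonneg β, h2⟩, toF_ofF] at this
      exact hn this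
    · have := hG a.1
      unfold pot at this
      rwa [dif_pos a.2] at this
  split_ifs with h
  · let x : Potentials I α := (0, fun _ => 1)
    have h0 : InC I 0 ∧ InC I (0 + α) := ⟨h.mono le_rfl h.1, by rwa [zero_add]⟩
    have hG : ∀ v, 0 ≤ v → InC I (v + α) → pot α x v = 1 := fun v hv ht => by
      unfold pot
      rw [dif_pos ⟨ht.mono hv (le_add_of_nonneg_right h.1), ht⟩]
    have hx : x ∈ LinearMap.ker (cob I α) := funext fun s => by
      show pot α x (s.1.2 + ev s.1.1) - pot α x s.1.2 = 0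
      have ht : InC I (s.1.2 + ev s.1.1 + α) := by rw [add_right_comm, add_assoc]; exact s.2.2
      rw [hG _ (s.2.1.1.trans (le_add_ev _ _)) ht,
        hG _ s.2.1.1 (ht.mono (add_nonneg s.2.1.1 h.1) (add_le_add (le_add_ev _ _) le_rfl)), sub_self]
    have hsurj : Function.Surjective φ := fun a => ⟨a • ⟨x, hx⟩, by
      rw [map_smul]; show a * pot α x 0 = a; rw [hG 0 le_rfl h0.2, mul_one]⟩
    rw [(LinearEquiv.ofBijective φ ⟨hinj, hsurj⟩).finrank_eq, Module.finrank_self]
  · have : Subsingleton (LinearMap.ker (cob I α)) := by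
      refine ⟨fun x y => hinj ?_⟩
      have hz : ∀ x : LinearMap.ker (cob I α), pot α x.1 0 = 0 := fun x =>
        by_contra fun hn => h (by simpa using (pot_supp x.1 hn).2)
      show pot α x.1 0 = pot α y.1 0
      rw [hz, hz]
    exact Module.finrank_zero_of_subsingleton

/-- Rank–nullity in the Koszul complex. -/
theorem finrank_CSp_add (hI : IsMonomial I) [Module.Finite k (MvPolynomial (Fin 3) k ⧸ I)]
    [Fintype (S1 I α)] [DecidablePred (InC I)] :
    Module.finrank k (CSp I α) + Nat.card (Pairs I α) + (M1 I α).rank =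
      Nat.card (S1 I α) + if InC I α then 1 else 0 := by
  classical
  haveI := finite_pairs hI α
  haveI := Fintype.ofFinite (Pairs I α)
  have hrange : LinearMap.range (cob I α) = LinearMap.ker (M1 I α).mulVecLin := by
    ext f
    rw [LinearMap.mem_ker, Matrix.mulVecLin_apply, LinearMap.mem_range]
    exact ⟨fun ⟨x, hx⟩ => hx ▸ M1_cob x, exists_pot_eq⟩
  have h1 := LinearMap.finrank_range_add_finrank_ker (cob I α)
  rw [finrank_ker_cob, hrange, Module.finrank_prod, Module.finrank_pi] at h1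
  have h2 := LinearMap.finrank_range_add_finrank_ker (M1 I α).mulVecLin
  rw [Module.finrank_pi] at h2
  rw [Nat.card_eq_fintype_card, Nat.card_eq_fintype_card]
  unfold Matrix.rank
  omega

/-- Reindexing between the middle terms in multidegrees `α` and `-α-1`. -/
noncomputable def e21 (I : Ideal (MvPolynomial (Fin 3) k)) (α : Vec) : S2 I α ≃ S1 I (-α - 1) where
  toFun r := ⟨(r.1.1, r.1.2 + (α + 1 - ev r.1.1)), r.2.2, by
    rw [show r.1.2 + (α + 1 - ev r.1.1) + (-α - 1 + ev r.1.1) = r.1.2 by abel]; exact r.2.1⟩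
  invFun s := ⟨(s.1.1, s.1.2 + (-α - 1 + ev s.1.1)), s.2.2, by
    rw [show s.1.2 + (-α - 1 + ev s.1.1) + (α + 1 - ev s.1.1) = s.1.2 by abel]; exact s.2.1⟩
  left_inv r := Subtype.ext (Prod.ext rfl (by simp only; abel))
  right_inv s := Subtype.ext (Prod.ext rfl (by simp only; abel))

/-- Reindexing between the middle terms in multidegrees `α` and `-α-1`. -/
noncomputable def e12 (I : Ideal (MvPolynomial (Fin 3) k)) (α : Vec) : S1 I α ≃ S2 I (-α - 1) where
  toFun s := ⟨(s.1.1, s.1.2 + (α + ev s.1.1)), s.2.2, by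
    rw [show s.1.2 + (α + ev s.1.1) + (-α - 1 + 1 - ev s.1.1) = s.1.2 by abel]; exact s.2.1⟩
  invFun r := ⟨(r.1.1, r.1.2 + (-α - 1 + 1 - ev r.1.1)), r.2.2, by
    rw [show r.1.2 + (-α - 1 + 1 - ev r.1.1) + (α + ev r.1.1) = r.1.2 by abel]; exact r.2.1⟩
  left_inv r := Subtype.ext (Prod.ext rfl (by simp only; abel))
  right_inv s := Subtype.ext (Prod.ext rfl (by simp only; abel))

theorem ind_comm_iff {X Y : Type*} {x y : X} {x' y' : Y} (h : x = y ↔ x' = y') :
    ind k x y = ind k x' y' := by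
  classical
  unfold ind
  simp only [h]

theorem ind_zero {X : Type*} {x y : X} (h : x ≠ y) : ind k x y = 0 := by
  classical exact if_neg h

/-- The middle differential is self-dual. -/
theorem M1_transpose (I : Ideal (MvPolynomial (Fin 3) k)) (α : Vec) (r : S2 I α) (s : S1 I α) :
    M1 I (-α - 1) (e12 I α s) (e21 I α r) = M1 I α r s := by
  obtain ⟨⟨n, a⟩, hr⟩ := r
  obtain ⟨⟨l, b⟩, hs⟩ := s
  simp only [M1, Matrix.of_apply, e12, e21, Equiv.coe_fn_mk]
  rcases (show l = n ∨ l = n + 1 ∨ l = n + 2 by fin_cases n <;> fin_cases l <;> decide) with rfl | rfl | rfl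
  · have h1 : l ≠ l + 1 := by fin_cases l <;> decide
    have h2 : l ≠ l + 2 := by fin_cases l <;> decide
    simp [ind_zero, h1, h2]
  · have h1 : n + 1 ≠ n + 2 := by fin_cases n <;> decide
    have h2 : n + 1 + 1 ≠ n := by fin_cases n <;> decide
    have h3 : n + 1 + 2 = n := by fin_cases n <;> decide
    have h4 : n + 1 + 1 = n + 2 := by fin_cases n <;> decide
    rw [ind_zero (fun he : ((n + 1, b) : Fin 3 × Vec) = (n + 2, _) => h1 (Prod.ext_iff.mp he).1),
      ind_zero (fun he : ((n + 1, b) : Fin 3 × Vec) = (n + 2, _) => h1 (Prod.ext_iff.mp he).1),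
      ind_zero (fun he : ((n, _) : Fin 3 × Vec) = (n + 1 + 1, _) => h2 (Prod.ext_iff.mp he).1.symm),
      ind_zero (fun he : ((n, _) : Fin 3 × Vec) = (n + 1 + 1, _) => h2 (Prod.ext_iff.mp he).1.symm)]
    rw [ind_comm_iff (k := k) (x := ((n, a + (α + 1 - ev n)) : Fin 3 × Vec))
        (y := (n + 1 + 2, b + (α + ev (n + 1)) + ev (n + 1 + 1))) (x' := ((n + 1, b) : Fin 3 × Vec))
        (y' := (n + 1, a)) (by
          simp only [Prod.mk.injEq, h3, h4, true_and, one_eq_ev n]
          constructor <;> intro h <;> linear_combination -h),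
      ind_comm_iff (k := k) (x := ((n, a + (α + 1 - ev n)) : Fin 3 × Vec))
        (y := (n + 1 + 2, b + (α + ev (n + 1)))) (x' := ((n + 1, b) : Fin 3 × Vec))
        (y' := (n + 1, a + ev (n + 2))) (by
          simp only [Prod.mk.injEq, h3, true_and, one_eq_ev n]
          constructor <;> intro h <;> linear_combination -h)]
    ring
  · have h1 : n + 2 ≠ n + 1 := by fin_cases n <;> decide
    have h2 : n + 2 + 2 ≠ n := by fin_cases n <;> decide
    have h3 : n + 2 + 1 = n := by fin_cases n <;> decide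
    have h4 : n + 2 + 2 = n + 1 := by fin_cases n <;> decide
    rw [ind_zero (fun he : ((n + 2, b) : Fin 3 × Vec) = (n + 1, _) => h1 (Prod.ext_iff.mp he).1),
      ind_zero (fun he : ((n + 2, b) : Fin 3 × Vec) = (n + 1, _) => h1 (Prod.ext_iff.mp he).1),
      ind_zero (fun he : ((n, _) : Fin 3 × Vec) = (n + 2 + 2, _) => h2 (Prod.ext_iff.mp he).1.symm),
      ind_zero (fun he : ((n, _) : Fin 3 × Vec) = (n + 2 + 2, _) => h2 (Prod.ext_iff.mp he).1.symm)]
    rw [ind_comm_iff (k := k) (x := ((n, a + (α + 1 - ev n)) : Fin 3 × Vec))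
        (y := (n + 2 + 1, b + (α + ev (n + 2)) + ev (n + 2 + 2))) (x' := ((n + 2, b) : Fin 3 × Vec))
        (y' := (n + 2, a)) (by
          simp only [Prod.mk.injEq, h3, h4, true_and, one_eq_ev n]
          constructor <;> intro h <;> linear_combination -h),
      ind_comm_iff (k := k) (x := ((n, a + (α + 1 - ev n)) : Fin 3 × Vec))
        (y := (n + 2 + 1, b + (α + ev (n + 2)))) (x' := ((n + 2, b) : Fin 3 × Vec))
        (y' := (n + 2, a + ev (n + 1))) (by
          simp only [Prod.mk.injEq, h3, true_and, one_eq_ev n]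
          constructor <;> intro h <;> linear_combination -h)]
    ring

end Groth.Agent.Hilb6
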