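import Groth.Agent.Hilb6.Comp
import Mathlib.RingTheory.MvPolynomial.Ideal
import Mathlib.Data.Sym.Card
import Mathlib.Data.Finsupp.Multiset

/-!
# `Hom(m^r, S/m^r)` for the irrelevant ideal
-/

namespace Groth.Agent.Hilb6

open MvPolynomial W4c1hilbpn

variable {σ : Type*} {k : Type*} [Field k] {I : Ideal (MvPolynomial σ k)}

theorem mem_exps_pow [Fintype σ] (r : ℕ) (β : σ →₀ ℕ) :
    β ∈ exps ((Ideal.span (Set.range (X : σ → MvPolynomial σ k))) ^ r) ↔ r ≤ ∑ i, β i := by
  rw [← Finsupp.degree_eq_sum]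
  exact monomial_mem_pow_idealOfVars_iff r β one_ne_zero

theorem isMonomial_pow [Fintype σ] (r : ℕ) :
    IsMonomial ((Ideal.span (Set.range (X : σ → MvPolynomial σ k))) ^ r) := fun p hp β hβ =>
  (monomial_mem_pow_idealOfVars_iff r β one_ne_zero).mpr ((mem_pow_idealOfVars_iff r p).mp hp β hβ)

variable [Fintype σ] {r : ℕ} (hE : ∀ β : σ →₀ ℕ, β ∈ exps I ↔ r ≤ ∑ i, β i) {α : σ → ℤ}

theorem le_sum_shift (β : σ →₀ ℕ) (α : σ → ℤ) :
    ((∑ i, β i : ℕ) : ℤ) + ∑ i, α i ≤ ((∑ i, shift β α i : ℕ) : ℤ) := by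
  push_cast
  rw [← Finset.sum_add_distrib]
  exact Finset.sum_le_sum fun i _ => Int.self_le_toNat _

theorem sum_shift {β : σ →₀ ℕ} (h : Pos α β) :
    ((∑ i, shift β α i : ℕ) : ℤ) = ((∑ i, β i : ℕ) : ℤ) + ∑ i, α i := by
  push_cast
  rw [← Finset.sum_add_distrib]
  exact Finset.sum_congr rfl fun i _ => cast_shift h i

theorem sum_add_single (β : σ →₀ ℕ) (i : σ) (t : ℕ) :
    ∑ l, (β + Finsupp.single i t : σ →₀ ℕ) l = ∑ l, β l + t := by
  classical
  simp [Finset.sum_add_distrib, Finsupp.single_apply]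

include hE in
theorem CSp_pow_bot_of_nonneg (hs : 0 ≤ ∑ i, α i) : CSp I α = ⊥ := by
  refine (Submodule.eq_bot_iff _).mpr fun c hc => funext fun β => by_contra fun hn => ?_
  obtain ⟨h1, -, h3⟩ := CSp.supp hc hn
  rw [hE] at h1 h3
  have := le_sum_shift β α
  omega

include hE in
theorem CSp_pow_bot_of_le [Nontrivial σ] (hs : ∑ i, α i ≤ -2) : CSp I α = ⊥ := by
  classical
  obtain ⟨j, hj⟩ : ∃ j, α j < 0 := by
    by_contra hn
    push Not at hn
    have := Finset.sum_nonneg fun i (_ : i ∈ Finset.univ) => hn i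
    omega
  obtain ⟨l, hl⟩ := exists_ne j
  refine (Submodule.eq_bot_iff _).mpr fun c hc => CSp.eq_zero_of_mins hc fun b hb => by_contra fun hn => ?_
  obtain ⟨h1, h2, h3⟩ := CSp.supp hc hn
  clear hb h3
  induction ht : b j using Nat.strong_induction_on generalizing b with
  | _ t ih =>
    have hbj : 1 ≤ b j := by have := h2 j; omega
    have hsum : ∑ i, b i < r - ∑ i, α i := by
      have h3 := (CSp.supp hc hn).2.2
      rw [hE] at h3
      have := sum_shift h2
      omega
    set b0 := b - Finsupp.single j 1 with hb0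
    have hb0' : b0 + Finsupp.single j 1 = b := tsub_add_cancel_of_le (Finsupp.single_le_iff.mpr hbj)
    rw [hE] at h1
    by_cases hgt : r < ∑ i, b i
    · have hb0m : b0 ∈ exps I := by
        rw [hE]
        have := sum_add_single b0 j 1
        rw [hb0'] at this
        omega
      have hne : c b0 ≠ 0 := by
        have hsh : shift (b0 + Finsupp.single j 1) α ∉ exps I := by
          rw [hb0']; exact (CSp.supp hc hn).2.2
        have := hc.2 b0 hb0m j hsh
        rw [hb0'] at this
        rwa [this] at hn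
      refine ih (b0 j) ?_ b0 hne hb0m (CSp.supp hc hne).2.1 rfl
      rw [← ht, ← hb0', Finsupp.add_apply, Finsupp.single_eq_same]; omega
    · have hp : Pos α (b + Finsupp.single l 1) := h2.mono (le_add_of_nonneg_right (zero_le (α := σ →₀ ℕ)))
      have hsh : shift (b + Finsupp.single l 1) α ∉ exps I := by
        rw [hE]
        have := sum_shift hp
        rw [sum_add_single] at this
        omega
      set b' := b0 + Finsupp.single l 1 with hb'
      have hb'' : b' + Finsupp.single j 1 = b + Finsupp.single l 1 := by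
        rw [hb', add_right_comm, hb0']
      have hb'm : b' ∈ exps I := by
        rw [hE, hb', sum_add_single]
        have := sum_add_single b0 j 1
        rw [hb0'] at this
        omega
      have hne : c b' ≠ 0 := by
        have e1 := hc.2 b ((hE b).mpr h1) l hsh
        have e2 := hc.2 b' hb'm j (hb''.symm ▸ hsh)
        rw [hb'', e1] at e2
        rwa [← e2]
      refine ih (b' j) ?_ b' hne hb'm (CSp.supp hc hne).2.1 rfl
      rw [← ht, hb', ← hb0', Finsupp.add_apply, Finsupp.add_apply, Finsupp.single_eq_same,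
        Finsupp.single_eq_of_ne hl.symm]
      omega

/-- Degree `r` exponents with nonnegative translate. -/
abbrev PowIdx (r : ℕ) (α : σ → ℤ) : Type _ := {β : σ →₀ ℕ // ∑ i, β i = r ∧ Pos α β}

include hE in
theorem finrank_CSp_pow_neg_one (hs : ∑ i, α i = -1) :
    Module.finrank k (CSp I α) = Nat.card (PowIdx r α) := by
  classical
  have hfin : Finite (PowIdx r α) := by
    refine Finite.of_injective (fun (b : PowIdx r α) (i : σ) => (⟨b.1 i, ?_⟩ : Fin (r + 1))) fun b b' h =>
      Subtype.ext (Finsupp.ext fun i => congrArg Fin.val (congrFun h i))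
    have := Finset.single_le_sum (fun l _ => Nat.zero_le (b.1 l)) (Finset.mem_univ i)
    have := b.2.1
    omega
  have hsupp : ∀ c ∈ CSp I α, ∀ β, c β ≠ 0 → ∑ i, β i = r ∧ Pos α β := fun c hc β h => by
    obtain ⟨h1, h2, h3⟩ := CSp.supp hc h
    rw [hE] at h1 h3
    have := sum_shift h2
    exact ⟨by omega, h2⟩
  let F : CSp I α →ₗ[k] (PowIdx r α → k) :=
    LinearMap.pi fun b => (LinearMap.proj b.1).comp (CSp I α).subtype
  have hbij : Function.Bijective F := by
    constructor
    · rw [injective_iff_map_eq_zero]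
      intro c hc
      refine Subtype.ext (funext fun β => by_contra fun hn => hn ?_)
      exact congrFun hc ⟨β, hsupp c.1 c.2 β hn⟩
    · intro g
      refine ⟨⟨fun β => if h : ∑ i, β i = r ∧ Pos α β then g ⟨β, h⟩ else 0, fun β hβ => ?_, fun β hβ i hi => ?_⟩, ?_⟩
      · show dite _ _ _ = _
        rw [dif_neg]
        rintro ⟨h1, h2⟩
        have := sum_shift h2
        exact hβ ⟨(hE β).mpr h1.ge, h2, fun h => by rw [hE] at h; omega⟩
      · exfalso
        rw [hE] at hi hβ
        have := le_sum_shift (β + Finsupp.single i 1) α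
        rw [sum_add_single] at this
        omega
      · funext b
        exact dif_pos b.2
  rw [(LinearEquiv.ofBijective F hbij).finrank_eq]
  haveI := Fintype.ofFinite (PowIdx r α)
  rw [Module.finrank_pi, Nat.card_eq_fintype_card]

theorem card_powIdx (r : ℕ) (α : σ → ℤ) :
    Nat.card (PowIdx r α) = if ∑ i, (-α i).toNat ≤ r
      then (Fintype.card σ + (r - ∑ i, (-α i).toNat) - 1).choose (r - ∑ i, (-α i).toNat) else 0 := by
  classical
  have hle : ∀ b : PowIdx r α, ∀ i, (-α i).toNat ≤ b.1 i := fun b i => by have := b.2.2 i; omega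
  split_ifs with h
  · let e : PowIdx r α ≃ {P : σ → ℕ // ∑ i, P i = r - ∑ i, (-α i).toNat} :=
      { toFun := fun b => ⟨fun i => b.1 i - (-α i).toNat, by
          rw [Finset.sum_tsub_distrib _ fun i _ => hle b i, b.2.1]⟩
        invFun := fun P => ⟨Finsupp.equivFunOnFinite.symm fun i => P.1 i + (-α i).toNat,
          by simp only [Finsupp.equivFunOnFinite_symm_apply_apply, Finset.sum_add_distrib, P.2]; omega,
          fun i => by simp only [Finsupp.equivFunOnFinite_symm_apply_apply]; omega⟩
        left_inv := fun b => Subtype.ext (Finsupp.ext fun i => by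
          simp only [Finsupp.equivFunOnFinite_symm_apply_apply]; have := hle b i; omega)
        right_inv := fun P => Subtype.ext (funext fun i => by simp) }
    rw [Nat.card_congr (e.trans (Sym.equivNatSumOfFintype σ _).symm), Nat.card_eq_fintype_card,
      Sym.card_sym_eq_choose]
  · haveI : IsEmpty (PowIdx r α) := ⟨fun b => h ((Finset.sum_le_sum fun i _ => hle b i).trans b.2.1.le)⟩
    exact Nat.card_of_isEmpty

include hE in
theorem finrank_CSp_pow [Nontrivial σ] (α : σ → ℤ) :
    Module.finrank k (CSp I α) = if ∑ i, α i = -1 ∧ ∑ i, (-α i).toNat ≤ r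
      then (Fintype.card σ + r - (∑ i, (-α i).toNat) - 1).choose (Fintype.card σ - 1) else 0 := by
  rcases lt_trichotomy (∑ i, α i) (-1) with h | h | h
  · rw [CSp_pow_bot_of_le hE (by omega), finrank_bot, if_neg fun hh => h.ne hh.1]
  · rw [finrank_CSp_pow_neg_one hE h, card_powIdx]
    by_cases hw : ∑ i, (-α i).toNat ≤ r
    · rw [if_pos hw, if_pos ⟨h, hw⟩]
      have := Fintype.card_pos (α := σ)
      set w := ∑ i, (-α i).toNat
      rw [show Fintype.card σ + r - w - 1 = (r - w) + (Fintype.card σ - 1) by omega,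
        show Fintype.card σ + (r - w) - 1 = (r - w) + (Fintype.card σ - 1) by omega]
      exact Nat.choose_symm_add
    · rw [if_neg hw, if_neg fun hh => hw hh.2]
  · rw [CSp_pow_bot_of_nonneg hE (by omega), finrank_bot, if_neg fun hh => h.ne' hh.1]

include hE in
theorem CSp_pow_ne_bot [Nontrivial σ] {α : σ → ℤ} (h : CSp I α ≠ ⊥) :
    ∑ i, α i = -1 ∧ ∑ i, (-α i).toNat ≤ r := by
  by_contra hn
  have h0 := finrank_CSp_pow (I := I) hE α
  rw [if_neg hn, Submodule.finrank_eq_zero] at h0
  exact h h0

end Groth.Agent.Hilb6
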