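import Groth.Agent.Hilb6.Pow
import Mathlib.Data.Nat.Factorial.BigOperators

/-!
# `Hom(m^r, S/m^r)` in three variables, by sign patterns
-/

namespace Groth.Agent.Hilb6

open MvPolynomial W4c1hilbpn

variable {k : Type*} [Field k] {I : Ideal (MvPolynomial (Fin 3) k)} {r : ℕ}

theorem sum_range_choose_two (r : ℕ) :
    ∑ v ∈ Finset.range r, (r + 1 - v).choose 2 = (r + 2).choose 3 := by
  induction r with
  | zero => rfl
  | succ r ih =>
    rw [Finset.sum_range_succ']
    have hc : ∑ v ∈ Finset.range r, (r + 1 + 1 - (v + 1)).choose 2 = ∑ v ∈ Finset.range r, (r + 1 - v).choose 2 :=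
      Finset.sum_congr rfl fun v _ => by congr 1; omega
    rw [hc, ih, Nat.sub_zero, Nat.choose_succ_succ' (r + 2) 2]
    ring

theorem sum_range_mul_choose_two (r : ℕ) :
    ∑ v ∈ Finset.range r, (v + 1) * (r + 1 - v).choose 2 = (r + 3).choose 4 := by
  induction r with
  | zero => rfl
  | succ r ih =>
    rw [Finset.sum_range_succ']
    have hc : ∑ v ∈ Finset.range r, (v + 1 + 1) * (r + 1 + 1 - (v + 1)).choose 2 =
        ∑ v ∈ Finset.range r, ((v + 1) * (r + 1 - v).choose 2 + (r + 1 - v).choose 2) :=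
      Finset.sum_congr rfl fun v _ => by
        rw [show r + 1 + 1 - (v + 1) = r + 1 - v by omega]; ring
    rw [hc, Finset.sum_add_distrib, ih, sum_range_choose_two, Nat.sub_zero,
      Nat.choose_succ_succ' (r + 3) 3, Nat.choose_succ_succ' (r + 2) 2]
    ring

theorem choose_identity (r : ℕ) :
    3 * ((r + 3).choose 4 + (r + 2).choose 4) = (r + 2).choose 2 * (r + 1).choose 2 := by
  rcases r with _ | _ | r
  · decide
  · decide
  have h4 : ∀ m : ℕ, 24 * m.choose 4 = m.descFactorial 4 := fun m => by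
    rw [Nat.descFactorial_eq_factorial_mul_choose]; rfl
  have h2 : ∀ m : ℕ, 2 * m.choose 2 = m.descFactorial 2 := fun m => by
    rw [Nat.descFactorial_eq_factorial_mul_choose]; rfl
  have e1 := h4 (r + 5)
  have e2 := h4 (r + 4)
  have e3 := h2 (r + 4)
  have e4 := h2 (r + 3)
  simp [Nat.descFactorial] at e1 e2 e3 e4
  nlinarith [e1, e2, e3, e4]

/-- The box holding all multidegrees with a nonzero piece. -/
noncomputable def box (r : ℕ) : Finset (Fin 3 → ℤ) := Fintype.piFinset fun _ => Finset.Icc (-(r : ℤ)) r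

theorem mem_box {α : Fin 3 → ℤ} (h : ∑ i, α i = -1 ∧ ∑ i, (-α i).toNat ≤ r) : α ∈ box r := by
  refine Fintype.mem_piFinset.mpr fun i => Finset.mem_Icc.mpr ?_
  simp only [Fin.sum_univ_three] at h
  fin_cases i <;> simp only [Fin.reduceFinMk, Fin.isValue, Fin.zero_eta, Fin.mk_one] <;> omega

/-- The dimension of a piece of `Hom(m^r, S/m^r)`. -/
noncomputable def wt (r : ℕ) (α : Fin 3 → ℤ) : ℕ :=
  if ∑ i, α i = -1 ∧ ∑ i, (-α i).toNat ≤ r then (r + 2 - ∑ i, (-α i).toNat).choose 2 else 0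

theorem sum3 (f : Fin 3 → ℤ) (i : Fin 3) : ∑ l, f l = f i + f (i + 1) + f (i + 2) := by
  fin_cases i <;> simp [Fin.sum_univ_three] <;> ring

theorem sum3' (f : Fin 3 → ℕ) (i : Fin 3) : ∑ l, f l = f i + f (i + 1) + f (i + 2) := by
  fin_cases i <;> simp [Fin.sum_univ_three] <;> ring

theorem cases3 (i l : Fin 3) : l = i ∨ l = i + 1 ∨ l = i + 2 := by
  fin_cases i <;> fin_cases l <;> decide

theorem ne3 (i : Fin 3) : i + 1 ≠ i ∧ i + 2 ≠ i ∧ i + 2 ≠ i + 1 := by
  fin_cases i <;> decide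

/-- A multidegree with prescribed entries. -/
def mk3 (i : Fin 3) (x y z : ℤ) : Fin 3 → ℤ := fun l => if l = i then x else if l = i + 1 then y else z

theorem mk3_fst (i : Fin 3) (x y z : ℤ) : mk3 i x y z i = x := by simp [mk3]

theorem mk3_snd (i : Fin 3) (x y z : ℤ) : mk3 i x y z (i + 1) = y := by simp [mk3, (ne3 i).1]

theorem mk3_thd (i : Fin 3) (x y z : ℤ) : mk3 i x y z (i + 2) = z := by
  simp [mk3, (ne3 i).2.1, (ne3 i).2.2]

open scoped Classical in
theorem sum_wt_single (r : ℕ) (i : Fin 3) :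
    ∑ α ∈ (box r).filter (fun α => ∀ l, α l < 0 ↔ l ∈ ({i} : Set (Fin 3))), wt r α = (r + 3).choose 4 := by
  rw [← sum_range_mul_choose_two]
  have hc : ∀ v, (v + 1) * (r + 1 - v).choose 2 =
      ∑ _p ∈ Finset.HasAntidiagonal.antidiagonal v, (r + 1 - v).choose 2 := fun v => by
    rw [Finset.sum_const, Finset.Nat.card_antidiagonal, smul_eq_mul]
  simp_rw [hc]
  rw [Finset.sum_sigma' (Finset.range r)]
  symm
  refine Finset.sum_bij_ne_zero (fun p _ _ => mk3 i (-((p.1 : ℤ) + 1)) p.2.1 p.2.2) ?_ ?_ ?_ ?_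
  · intro p hp _
    simp only [Finset.mem_sigma, Finset.mem_range, Finset.mem_antidiagonal] at hp
    refine Finset.mem_filter.mpr ⟨mem_box ?_, fun l => ?_⟩
    · rw [sum3 _ i, sum3' _ i, mk3_fst, mk3_snd, mk3_thd]; omega
    · rcases cases3 i l with rfl | rfl | rfl
      · simp [mk3_fst]; omega
      · simp [mk3_snd, (ne3 i).1]
      · simp [mk3_thd, (ne3 i).2.1]
  · rintro ⟨v, a, b⟩ _ _ ⟨v', a', b'⟩ _ _ h
    have h1 := congrFun h i
    have h2 := congrFun h (i + 1)
    have h3 := congrFun h (i + 2)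
    simp only [mk3_fst, mk3_snd, mk3_thd] at h1 h2 h3
    obtain ⟨rfl, rfl, rfl⟩ : v = v' ∧ a = a' ∧ b = b' := ⟨by omega, by omega, by omega⟩
    rfl
  · intro α hα hne
    obtain ⟨-, hN⟩ := Finset.mem_filter.mp hα
    have hcond : ∑ l, α l = -1 ∧ ∑ l, (-α l).toNat ≤ r := by_contra fun hn => hne (if_neg hn)
    have n0 := (hN i).mpr rfl
    have n1 : ¬ α (i + 1) < 0 := fun h => (ne3 i).1 ((hN _).mp h)
    have n2 : ¬ α (i + 2) < 0 := fun h => (ne3 i).2.1 ((hN _).mp h)
    rw [sum3 _ i, sum3' _ i] at hcond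
    refine ⟨⟨(-α i - 1).toNat, (α (i + 1)).toNat, (α (i + 2)).toNat⟩, ?_, ?_, ?_⟩
    · simp only [Finset.mem_sigma, Finset.mem_range, Finset.mem_antidiagonal]; omega
    · exact (Nat.choose_pos (by simp only; omega)).ne'
    · funext l
      rcases cases3 i l with rfl | rfl | rfl
      · rw [mk3_fst]; simp only; omega
      · rw [mk3_snd]; simp only; omega
      · rw [mk3_thd]; simp only; omega
  · intro p hp _
    simp only [Finset.mem_sigma, Finset.mem_range, Finset.mem_antidiagonal] at hp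
    rw [wt, if_pos, sum3' _ i, mk3_fst, mk3_snd, mk3_thd]
    · congr 1; omega
    · rw [sum3 _ i, sum3' _ i, mk3_fst, mk3_snd, mk3_thd]; omega

open scoped Classical in
theorem sum_wt_pair (r : ℕ) (i : Fin 3) :
    ∑ α ∈ (box r).filter (fun α => ∀ l, α l < 0 ↔ l ∈ ({i}ᶜ : Set (Fin 3))), wt r α = (r + 2).choose 4 := by
  rcases r with _ | r
  · refine Finset.sum_eq_zero fun α hα => if_neg fun hcond => ?_
    obtain ⟨-, hN⟩ := Finset.mem_filter.mp hα
    have n1 := (hN (i + 1)).mpr (ne3 i).1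
    rw [sum3' _ i] at hcond
    omega
  rw [← sum_range_mul_choose_two r]
  have hc : ∀ v, (v + 1) * (r + 1 - v).choose 2 =
      ∑ _p ∈ Finset.HasAntidiagonal.antidiagonal v, (r + 1 - v).choose 2 := fun v => by
    rw [Finset.sum_const, Finset.Nat.card_antidiagonal, smul_eq_mul]
  simp_rw [hc]
  rw [Finset.sum_sigma' (Finset.range r)]
  symm
  refine Finset.sum_bij_ne_zero
    (fun p _ _ => mk3 i ((p.1 : ℤ) + 1) (-((p.2.1 : ℤ) + 1)) (-((p.2.2 : ℤ) + 1))) ?_ ?_ ?_ ?_
  · intro p hp _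
    simp only [Finset.mem_sigma, Finset.mem_range, Finset.mem_antidiagonal] at hp
    refine Finset.mem_filter.mpr ⟨mem_box ?_, fun l => ?_⟩
    · rw [sum3 _ i, sum3' _ i, mk3_fst, mk3_snd, mk3_thd]; omega
    · rcases cases3 i l with rfl | rfl | rfl
      · simp [mk3_fst]; omega
      · simp [mk3_snd, (ne3 i).1]; omega
      · simp [mk3_thd, (ne3 i).2.1]; omega
  · rintro ⟨v, a, b⟩ _ _ ⟨v', a', b'⟩ _ _ h
    have h1 := congrFun h i
    have h2 := congrFun h (i + 1)
    have h3 := congrFun h (i + 2)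
    simp only [mk3_fst, mk3_snd, mk3_thd] at h1 h2 h3
    obtain ⟨rfl, rfl, rfl⟩ : v = v' ∧ a = a' ∧ b = b' := ⟨by omega, by omega, by omega⟩
    rfl
  · intro α hα hne
    obtain ⟨-, hN⟩ := Finset.mem_filter.mp hα
    have hcond : ∑ l, α l = -1 ∧ ∑ l, (-α l).toNat ≤ r + 1 := by_contra fun hn => hne (if_neg hn)
    have n0 : ¬ α i < 0 := fun h => (hN i).mp h rfl
    have n1 := (hN (i + 1)).mpr (ne3 i).1
    have n2 := (hN (i + 2)).mpr (ne3 i).2.1
    rw [sum3 _ i, sum3' _ i] at hcond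
    refine ⟨⟨(α i - 1).toNat, (-α (i + 1) - 1).toNat, (-α (i + 2) - 1).toNat⟩, ?_, ?_, ?_⟩
    · simp only [Finset.mem_sigma, Finset.mem_range, Finset.mem_antidiagonal]; omega
    · exact (Nat.choose_pos (by simp only; omega)).ne'
    · funext l
      rcases cases3 i l with rfl | rfl | rfl
      · rw [mk3_fst]; simp only; omega
      · rw [mk3_snd]; simp only; omega
      · rw [mk3_thd]; simp only; omega
  · intro p hp _
    simp only [Finset.mem_sigma, Finset.mem_range, Finset.mem_antidiagonal] at hp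
    rw [wt, if_pos, sum3' _ i, mk3_fst, mk3_snd, mk3_thd]
    · congr 1; omega
    · rw [sum3 _ i, sum3' _ i, mk3_fst, mk3_snd, mk3_thd]; omega

open scoped Classical in
theorem sum_wt_box (r : ℕ) : ∑ α ∈ box r, wt r α = (r + 2).choose 2 * (r + 1).choose 2 := by
  have key : ∀ α : Fin 3 → ℤ, wt r α =
      ∑ i : Fin 3, ((if ∀ l, α l < 0 ↔ l ∈ ({i} : Set (Fin 3)) then wt r α else 0) +
        (if ∀ l, α l < 0 ↔ l ∈ ({i}ᶜ : Set (Fin 3)) then wt r α else 0)) := by
    intro α
    by_cases h : ∑ i, α i = -1 ∧ ∑ i, (-α i).toNat ≤ r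
    · have h1 := h.1
      rw [Fin.sum_univ_three] at h1
      simp only [Fin.sum_univ_three, Fin.forall_fin_succ, Fin.forall_fin_zero, Fin.succ_zero_eq_one,
        Fin.succ_one_eq_two, Set.mem_singleton_iff, Set.mem_compl_iff, and_true]
      by_cases a0 : α 0 < 0 <;> by_cases a1 : α 1 < 0 <;> by_cases a2 : α 2 < 0 <;>
        first
        | omega
        | simp [a0, a1, a2]
    · have : wt r α = 0 := if_neg h
      simp [this]
  rw [Finset.sum_congr rfl fun α _ => key α, Finset.sum_comm]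
  simp only [Finset.sum_add_distrib, ← Finset.sum_filter, sum_wt_single, sum_wt_pair,
    Finset.sum_const, Finset.card_univ, Fintype.card_fin, smul_eq_mul]
  rw [← choose_identity]
  ring

theorem finrank_CSp_pow3 (hE : ∀ β : Fin 3 →₀ ℕ, β ∈ exps I ↔ r ≤ ∑ i, β i) (α : Fin 3 → ℤ) :
    Module.finrank k (CSp I α) = wt r α := by
  rw [finrank_CSp_pow hE α, wt, Fintype.card_fin]
  split_ifs with h
  · congr 1; omega
  · rfl

end Groth.Agent.Hilb6
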