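import Groth.Agent.Hilb6.SliceSum
import Groth.Agent.Hilb6.Bound
import Groth.Agent.Hilb6.Dual
import Groth.Agent.Hilb6.Pow3

/-!
# Bounds on sign-pattern pieces of strongly stable ideals
-/

namespace Groth.Agent.Hilb6

open MvPolynomial W4c1hilbpn

variable {k : Type*} [Field k] {I : Ideal (MvPolynomial (Fin 3) k)}

/-- A choice of a vertical axis `n` and of a second axis `q`, both different from the first. -/
structure View (I : Ideal (MvPolynomial (Fin 3) k)) where
  q : Fin 3
  n : Fin 3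
  hq : q ≠ 0
  hn : n ≠ 0
  hqn : q ≠ n
  pnt : ℕ → ℕ → ℕ → (Fin 3 →₀ ℕ)
  at0 : ∀ u v w, pnt u v w 0 = u
  atq : ∀ u v w, pnt u v w q = v
  atn : ∀ u v w, pnt u v w n = w
  st : ℕ → ℕ → ℕ
  mem_iff : ∀ u v w, pnt u v w ∈ exps I ↔ st u v ≤ w
  stable : ∀ u v, st (u + 1) v ≤ st u (v + 1)
  bound : ∀ u v w, pnt u v w ∉ exps I → v < stairZ I 0 0

namespace View

variable (V : View I)

theorem cases_fin (V : View I) (l : Fin 3) : l = 0 ∨ l = V.q ∨ l = V.n := by
  have := V.hq; have := V.hn; have := V.hqn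
  revert this
  generalize V.q = q at *
  generalize V.n = n at *
  revert q n l
  decide

theorem eta (β : Fin 3 →₀ ℕ) : V.pnt (β 0) (β V.q) (β V.n) = β := by
  ext l
  rcases V.cases_fin l with rfl | rfl | rfl
  · exact V.at0 _ _ _
  · exact V.atq _ _ _
  · exact V.atn _ _ _

theorem mem_iff' (β : Fin 3 →₀ ℕ) : β ∈ exps I ↔ V.st (β 0) (β V.q) ≤ β V.n := by
  conv_lhs => rw [← V.eta β]
  exact V.mem_iff _ _ _

theorem st_mono (u v : ℕ) : V.st u (v + 1) ≤ V.st u v := by
  rw [← V.mem_iff]
  refine exps_upper ((V.mem_iff u v _).mpr le_rfl) fun l => ?_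
  rcases V.cases_fin l with rfl | rfl | rfl
  · rw [V.at0, V.at0]
  · rw [V.atq, V.atq]; omega
  · rw [V.atn, V.atn]

theorem exists_bottom [Module.Finite k (MvPolynomial (Fin 3) k ⧸ I)] (hI : IsMonomial I)
    {α : Fin 3 → ℤ} {c : (Fin 3 →₀ ℕ) → k} (hc : c ∈ CSp I α) (hne : c ≠ 0) :
    ∃ u v : ℕ, c (V.pnt u v (V.st u v)) ≠ 0 ∧
      shift (V.pnt u v (V.st u v)) α + Finsupp.single V.q 1 ∈ exps I := by
  classical
  obtain ⟨β₀, hβ₀⟩ := Function.ne_iff.mp hne
  obtain ⟨β, hβ, hmax⟩ := (supp_finite hI hc).exists_maximalFor (fun β : Fin 3 →₀ ℕ => β 0 + β V.q) _ ⟨β₀, hβ₀⟩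
  obtain ⟨h1, -, h3⟩ := CSp.supp hc (hβ : c β ≠ 0)
  set b := V.pnt (β 0) (β V.q) (V.st (β 0) (β V.q)) with hb
  have hle : b ≤ β := fun l => by
    rcases V.cases_fin l with rfl | rfl | rfl
    · rw [hb, V.at0]
    · rw [hb, V.atq]
    · rw [hb, V.atn]; exact (V.mem_iff' β).mp h1
  have hbm : b ∈ exps I := (V.mem_iff _ _ _).mpr le_rfl
  have hcb : c b = c β := (CSp.eq_of_le hc hbm hle h3).symm
  have hne' : c b ≠ 0 := hcb ▸ hβ
  obtain ⟨g1, g2, -⟩ := CSp.supp hc hne'
  refine ⟨β 0, β V.q, hne', ?_⟩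
  by_contra hn
  have he : c (b + Finsupp.single V.q 1) = c b := hc.2 b g1 V.q (by rwa [shift_add g2])
  have hlt : β 0 + β V.q < (b + Finsupp.single V.q 1 : Fin 3 →₀ ℕ) 0 + (b + Finsupp.single V.q 1 : Fin 3 →₀ ℕ) V.q := by
    rw [Finsupp.add_apply, Finsupp.add_apply, hb, V.at0, V.atq, Finsupp.single_eq_of_ne V.hq.symm,
      Finsupp.single_eq_same]
    omega
  exact absurd (hmax (show c (b + Finsupp.single V.q 1) ≠ 0 by rw [he]; exact hne') hlt.le) (not_le.mpr hlt)

theorem sum_mul_tsub {b : ℕ → ℕ} (hb : ∀ j, b (j + 1) ≤ b j) (N : ℕ) :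
    ∑ j ∈ Finset.range N, (j + 1) * (b j - b (j + 1)) + N * b N = ∑ j ∈ Finset.range N, b j := by
  induction N with
  | zero => simp
  | succ N ih =>
    rw [Finset.sum_range_succ, Finset.sum_range_succ, ← ih]
    obtain ⟨d, hd⟩ : ∃ d, b N = b (N + 1) + d := ⟨_, (Nat.add_sub_cancel' (hb N)).symm⟩
    rw [hd, Nat.add_sub_cancel_left]
    ring

theorem st_eq_zero {u v : ℕ} (h : stairZ I 0 0 ≤ v) : V.st u v = 0 := by
  by_contra hn
  exact absurd (V.bound u v 0 fun hm => hn (Nat.le_zero.mp ((V.mem_iff _ _ _).mp hm))) (not_lt.mpr h)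

variable [Module.Finite k (MvPolynomial (Fin 3) k ⧸ I)]

theorem sum_st (hI : IsMonomial I) (u : ℕ) :
    ∑ v ∈ Finset.range (stairZ I 0 0), V.st u v = (layer hI u).card := by
  classical
  rw [← Finset.sum_congr rfl (fun v _ => Finset.card_range (V.st u v)), ← Finset.card_sigma]
  refine Finset.card_bij (fun p _ => V.pnt u p.1 p.2) ?_ ?_ ?_
  · intro p hp
    simp only [Finset.mem_sigma, Finset.mem_range] at hp
    exact Finset.mem_filter.mpr ⟨(mem_stdMons hI).mpr fun h => absurd ((V.mem_iff _ _ _).mp h) (not_le.mpr hp.2),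
      V.at0 _ _ _⟩
  · rintro ⟨a, b⟩ _ ⟨a', b'⟩ _ he
    have h1 := congrArg (fun w : Fin 3 →₀ ℕ => w V.q) he
    have h2 := congrArg (fun w : Fin 3 →₀ ℕ => w V.n) he
    simp only [V.atq, V.atn] at h1 h2
    rw [h1, h2]
  · intro β hβ
    obtain ⟨h1, h2⟩ := Finset.mem_filter.mp hβ
    rw [mem_stdMons hI, ← V.eta β] at h1
    refine ⟨⟨β V.q, β V.n⟩, ?_, ?_⟩
    · simp only [Finset.mem_sigma, Finset.mem_range]
      refine ⟨V.bound _ _ _ h1, ?_⟩
      rw [← h2]
      exact not_le.mp fun h => h1 ((V.mem_iff _ _ _).mpr h)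
    · rw [← h2]; exact V.eta β

open scoped Classical in
theorem finrank_sig_le (hI : IsMonomial I) {r : ℕ} (hr : ∀ i, r ≤ i → (layer hI i).card = 0) :
    Module.finrank k ↥(sigPiece I {V.n}) ≤ ∑ i ∈ Finset.range r, (i + 1) * (layer hI i).card := by
  set N := stairZ I 0 0 with hN
  unfold sigPiece
  rw [finrank_iSup hI _ (finite_CSp_ne_bot hI).toFinset fun α _ h => (Set.Finite.mem_toFinset _).mpr h]
  set s := (finite_CSp_ne_bot (I := I) hI).toFinset.filter
    (fun α : Fin 3 → ℤ => ∀ i, α i < 0 ↔ i ∈ ({V.n} : Set (Fin 3)))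
  let g : (Fin 3 → ℤ) → ℕ × ℕ → ℤ := fun α p =>
    (V.st (p.1 - (α 0).toNat) (p.2 - (α V.q).toNat) : ℤ) + α V.n
  let cond : (Fin 3 → ℤ) → ℕ × ℕ → Prop := fun α p =>
    (α 0 ≤ p.1 ∧ α V.q ≤ p.2) ∧ ((V.st p.1 (p.2 + 1) : ℤ) ≤ g α p ∧ g α p < V.st p.1 p.2)
  set B := Finset.range r ×ˢ Finset.range N
  have hsgn : ∀ α ∈ s, 0 ≤ α 0 ∧ 0 ≤ α V.q := fun α hα => by
    obtain ⟨-, hp⟩ := Finset.mem_filter.mp hα
    exact ⟨not_lt.mp fun h => V.hn ((hp 0).mp h).symm, not_lt.mp fun h => V.hqn ((hp V.q).mp h)⟩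
  have hle : ∀ α ∈ s, Module.finrank k (CSp I α) ≤ (B.filter (cond α)).card := by
    intro α hα
    obtain ⟨h0, h1⟩ := hsgn α hα
    let T := B.filter (cond α)
    let F : CSp I α →ₗ[k] (T → k) := LinearMap.pi fun p =>
      (LinearMap.proj (V.pnt (p.1.1 - (α 0).toNat) (p.1.2 - (α V.q).toNat)
        (V.st (p.1.1 - (α 0).toNat) (p.1.2 - (α V.q).toNat)))).comp (CSp I α).subtype
    have hinj : Function.Injective F := by
      rw [injective_iff_map_eq_zero]
      intro c hc
      by_contra hne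
      obtain ⟨u, v, hn, hy⟩ := V.exists_bottom hI c.2 fun h => hne (Subtype.ext h)
      obtain ⟨-, hp, hs⟩ := CSp.supp c.2 hn
      set t := shift (V.pnt u v (V.st u v)) α with ht
      have e0 := cast_shift hp 0
      have e1 := cast_shift hp V.q
      have e2 := cast_shift hp V.n
      rw [← ht, V.at0] at e0
      rw [← ht, V.atq] at e1
      rw [← ht, V.atn] at e2
      have ht0 : t 0 = u + (α 0).toNat := by omega
      have ht1 : t V.q = v + (α V.q).toNat := by omega
      rw [V.mem_iff', Finsupp.add_apply, Finsupp.add_apply, Finsupp.add_apply,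
        Finsupp.single_eq_of_ne V.hq.symm, Finsupp.single_eq_same, Finsupp.single_eq_of_ne V.hqn.symm, ht0, ht1,
        add_zero, add_zero] at hy
      rw [V.mem_iff', ht0, ht1, not_le] at hs
      have hu : u + (α 0).toNat < r := by
        by_contra hcon
        have hz := hr _ (not_lt.mp hcon)
        rw [← V.sum_st hI, Finset.sum_eq_zero_iff] at hz
        have hv : v + (α V.q).toNat < N := by
          by_contra h'
          rw [V.st_eq_zero (not_lt.mp h')] at hs
          omega
        rw [hz _ (Finset.mem_range.mpr hv)] at hs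
        omega
      have hv : v + (α V.q).toNat < N := by
        by_contra h'
        rw [V.st_eq_zero (not_lt.mp h')] at hs
        omega
      have hmem : ((u + (α 0).toNat, v + (α V.q).toNat) : ℕ × ℕ) ∈ T := by
        simp only [T, B, Finset.mem_filter, Finset.mem_product, Finset.mem_range, cond, g, Nat.add_sub_cancel]
        exact ⟨⟨hu, hv⟩, ⟨by omega, by omega⟩, by omega, by omega⟩
      refine hn ?_
      have := congrFun hc ⟨_, hmem⟩
      simpa [F] using this
    have := LinearMap.finrank_le_finrank_of_injective hinj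
    rwa [Module.finrank_pi, Fintype.card_coe] at this
  refine (Finset.sum_le_sum hle).trans ?_
  simp only [Finset.card_filter]
  rw [Finset.sum_comm, Finset.sum_product]
  refine Finset.sum_le_sum fun i _ => ?_
  rw [← V.sum_st hI i, Finset.mul_sum]
  have hkey := sum_mul_tsub (b := V.st i) (V.st_mono i) N
  rw [V.st_eq_zero (u := i) (v := N) le_rfl, mul_zero, add_zero] at hkey
  rw [← Finset.mul_sum, ← hkey, Finset.mul_sum]
  refine Finset.sum_le_sum fun j _ => ?_
  rw [← Finset.card_filter]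
  calc (s.filter fun α => cond α (i, j)).card
      ≤ (Finset.range (i + 1) ×ˢ (Finset.range (j + 1) ×ˢ Finset.Ico (V.st i (j + 1)) (V.st i j))).card := by
        refine Finset.card_le_card_of_injOn (fun α => ((α 0).toNat, (α V.q).toNat, (g α (i, j)).toNat)) (fun α hα => ?_) ?_
        · obtain ⟨hαs, ⟨h1, h2⟩, h3, h4⟩ := Finset.mem_filter.mp hα
          have := hsgn α hαs
          simp only [Finset.mem_coe, Finset.mem_product, Finset.mem_range, Finset.mem_Ico]
          simp only at h1 h2 h3 h4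
          omega
        · intro α hα α' hα' he
          obtain ⟨hαs, -, h3, -⟩ := Finset.mem_filter.mp hα
          obtain ⟨hαs', -, h3', -⟩ := Finset.mem_filter.mp hα'
          have := hsgn α hαs
          have := hsgn α' hαs'
          simp only [Prod.mk.injEq] at he
          have e0 : α 0 = α' 0 := by omega
          have e1 : α V.q = α' V.q := by omega
          have e2 : α V.n = α' V.n := by
            have h := he.2.2
            simp only [g, e0, e1] at h h3 h3'
            omega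
          funext l
          rcases V.cases_fin l with rfl | rfl | rfl
          · exact e0
          · exact e1
          · exact e2
    _ = _ := by rw [Finset.card_product, Finset.card_product, Finset.card_range, Finset.card_range, Nat.card_Ico]

end View

variable [Module.Finite k (MvPolynomial (Fin 3) k ⧸ I)]

/-- The view with vertical axis `z`. -/
noncomputable def viewZ (hI : IsStronglyStable I) : View I where
  q := 1
  n := 2
  hq := by decide
  hn := by decide
  hqn := by decide
  pnt := e3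
  at0 _ _ _ := rfl
  atq _ _ _ := rfl
  atn _ _ _ := rfl
  st := stairZ I
  mem_iff := e3_mem_iff_stairZ_le hI.1
  stable u v := Nat.card_mono (line_finite hI.1 (e3_z_injective hI.1 u (v + 1))) fun _ hc h => hc (stable10 hI h)
  bound u v w h := by
    have h0 : e3 0 v w ∉ exps I := fun h' => h (exps_e3_mono h' (Nat.zero_le _) le_rfl le_rfl)
    have := diag_le hI ((mem_stdMons hI.1).mpr h0)
    omega

theorem e3_mem_iff_stairY_le (hI : IsMonomial I) (a b c : ℕ) : e3 a b c ∈ exps I ↔ stairY I a c ≤ b := by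
  classical
  have hfin := line_finite hI (e3_y_injective hI a c)
  have hcard : stairY I a c = hfin.toFinset.card := by
    rw [stairY, ← Set.ncard_eq_toFinset_card _ hfin, ← Nat.card_coe_set_eq]; rfl
  constructor
  · intro h
    rw [hcard, ← Finset.card_range b]
    refine Finset.card_le_card fun x hx => Finset.mem_range.mpr ?_
    by_contra hn
    exact (Set.Finite.mem_toFinset _).mp hx (exps_e3_mono h le_rfl (not_lt.mp hn) le_rfl)
  · intro h
    by_contra hn
    have : Finset.range (b + 1) ⊆ hfin.toFinset := fun x hx => (Set.Finite.mem_toFinset _).mpr fun h' =>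
      hn (exps_e3_mono h' le_rfl (Nat.lt_succ_iff.mp (Finset.mem_range.mp hx)) le_rfl)
    have := Finset.card_le_card this
    rw [Finset.card_range] at this
    omega

/-- The view with vertical axis `y`. -/
noncomputable def viewY (hI : IsStronglyStable I) : View I where
  q := 2
  n := 1
  hq := by decide
  hn := by decide
  hqn := by decide
  pnt u v w := e3 u w v
  at0 _ _ _ := rfl
  atq _ _ _ := rfl
  atn _ _ _ := rfl
  st := stairY I
  mem_iff u v w := e3_mem_iff_stairY_le hI.1 u w v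
  stable u v := Nat.card_mono (line_finite hI.1 (e3_y_injective hI.1 u (v + 1))) fun _ hc h => hc (stable20 hI h)
  bound u v w h := by
    have h0 : e3 0 w v ∉ exps I := fun h' => h (exps_e3_mono h' (Nat.zero_le _) le_rfl le_rfl)
    have := diag_le hI ((mem_stdMons hI.1).mpr h0)
    omega

theorem layer_eq_zero (hI : IsStronglyStable I) {r : ℕ}
    (hd : Module.finrank k (MvPolynomial (Fin 3) k ⧸ I) ≤ (r + 2).choose 3) {i : ℕ} (hi : r ≤ i) :
    (layer hI.1 i).card = 0 := by
  induction i, hi using Nat.le_induction with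
  | base =>
    rcases r with _ | r
    · have := sum_layer_le hI.1 {0}
      simp at this hd
      simpa [Nat.choose] using Nat.le_zero.mp (this.trans hd.le)
    · have h := layer_tail_le hI hd (Nat.le_succ r)
      rw [Nat.Ico_succ_singleton, Finset.sum_singleton, Finset.sum_singleton] at h
      have h' := step_le (layer_succ_add_le hI r) (layer_card_le_choose hI r) (s := 1) (by simpa using h)
      simpa using Nat.le_zero.mp h'
  | succ i _ ih => have := layer_succ_add_le hI i; omega

theorem sum_mul_succ_le (hI : IsStronglyStable I) {r : ℕ}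
    (hd : Module.finrank k (MvPolynomial (Fin 3) k ⧸ I) ≤ (r + 2).choose 3) :
    ∑ i ∈ Finset.range r, (i + 1) * (layer hI.1 i).card ≤ (r + 3).choose 4 ∧
      (∑ i ∈ Finset.range r, (i + 1) * (layer hI.1 i).card = (r + 3).choose 4 →
        I = (Ideal.span (Set.range (X : Fin 3 → MvPolynomial (Fin 3) k))) ^ r) := by
  classical
  have key : ∀ f : ℕ → ℕ, ∑ i ∈ Finset.range r, (i + 1) * f i = ∑ j ∈ Finset.range r, ∑ i ∈ Finset.Ico j r, f i := by
    intro f
    rw [Finset.range_eq_Ico, Finset.sum_Ico_Ico_comm]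
    refine Finset.sum_congr rfl fun i _ => ?_
    rw [Finset.sum_const, Nat.card_Ico, smul_eq_mul, Nat.sub_zero]
  have hg : ∑ j ∈ Finset.range r, ∑ i ∈ Finset.Ico j r, (r - i + 1).choose 2 = (r + 3).choose 4 := by
    rw [← key, ← sum_range_mul_choose_two r]
    exact Finset.sum_congr rfl fun i hi => by
      rw [Finset.mem_range] at hi
      rw [show r - i + 1 = r + 1 - i by omega]
  have hle : ∀ j ∈ Finset.range r, ∑ i ∈ Finset.Ico j r, (layer hI.1 i).card ≤ ∑ i ∈ Finset.Ico j r, (r - i + 1).choose 2 :=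
    fun j hj => layer_tail_le hI hd (Finset.mem_range.mp hj).le
  rw [key, ← hg]
  refine ⟨Finset.sum_le_sum hle, fun he => eq_pow_of_layers hI hd fun j hj => ?_⟩
  exact (Finset.sum_eq_sum_iff_of_le hle).mp he j (Finset.mem_range.mpr hj)

theorem sig_bound (hI : IsStronglyStable I) {r : ℕ}
    (hd : Module.finrank k (MvPolynomial (Fin 3) k ⧸ I) ≤ (r + 2).choose 3) (V : View I) :
    Module.finrank k ↥(sigPiece I {V.n}) ≤ (r + 3).choose 4 ∧
      (Module.finrank k ↥(sigPiece I {V.n}) = (r + 3).choose 4 →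
        I = (Ideal.span (Set.range (X : Fin 3 → MvPolynomial (Fin 3) k))) ^ r) := by
  have h1 := V.finrank_sig_le hI.1 fun i hi => layer_eq_zero hI hd hi
  obtain ⟨h2, h3⟩ := sum_mul_succ_le hI hd
  exact ⟨h1.trans h2, fun h => h3 (le_antisymm h2 (h ▸ h1))⟩

end Groth.Agent.Hilb6
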