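import Groth.Agent.Hilb6.Stair

/-!
# Slices of monomial ideals in three variables
-/

namespace Groth.Agent.Hilb6

open MvPolynomial W4c1hilbpn

variable {k : Type*} [Field k] {I : Ideal (MvPolynomial (Fin 3) k)}

theorem mem_sliceX_iff (p : MvPolynomial (Fin 2) k) (a : ℕ) :
    p ∈ sliceX I a ↔ rename Fin.succ p * X 0 ^ a ∈ I := by
  rw [sliceX, Ideal.mem_comap, Submodule.mem_colon_singleton]
  rfl

theorem mapDomain_add (γ : Fin 2 →₀ ℕ) (a : ℕ) :
    Finsupp.mapDomain Fin.succ γ + Finsupp.single 0 a = e3 a (γ 0) (γ 1) := by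
  ext l
  fin_cases l
  · simp [Finsupp.mapDomain_notin_range, e3_apply0]
  · show (Finsupp.mapDomain Fin.succ γ + Finsupp.single 0 a : Fin 3 →₀ ℕ) (Fin.succ 0) = _
    rw [Finsupp.add_apply, Finsupp.mapDomain_apply (Fin.succ_injective _)]
    simp [e3_apply1]
  · show (Finsupp.mapDomain Fin.succ γ + Finsupp.single 0 a : Fin 3 →₀ ℕ) (Fin.succ 1) = _
    rw [Finsupp.add_apply, Finsupp.mapDomain_apply (Fin.succ_injective _)]
    simp [e3_apply2]

theorem mem_exps_slice (γ : Fin 2 →₀ ℕ) (a : ℕ) :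
    γ ∈ exps (sliceX I a) ↔ e3 a (γ 0) (γ 1) ∈ exps I := by
  show monomial γ (1 : k) ∈ sliceX I a ↔ monomial (e3 a (γ 0) (γ 1)) (1 : k) ∈ I
  rw [mem_sliceX_iff, rename_monomial, X_pow_eq_monomial, monomial_mul, mul_one, mapDomain_add]

theorem slice_support (hI : IsMonomial I) {p : MvPolynomial (Fin 2) k} {a : ℕ} (hp : p ∈ sliceX I a)
    {β : Fin 2 →₀ ℕ} (hβ : β ∈ p.support) : β ∈ exps (sliceX I a) := by
  rw [mem_exps_slice]
  refine hI _ ((mem_sliceX_iff p a).mp hp) _ (mem_support_iff.mpr ?_)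
  rw [← mapDomain_add, X_pow_eq_monomial, coeff_mul_monomial, mul_one,
    coeff_rename_mapDomain _ (Fin.succ_injective _)]
  exact mem_support_iff.mp hβ

theorem isMonomial_slice (hI : IsMonomial I) (a : ℕ) : IsMonomial (sliceX I a) :=
  fun _ hp _ hβ => slice_support hI hp hβ

theorem isStronglyStable_slice (hI : IsStronglyStable I) (a : ℕ) : IsStronglyStable (sliceX I a) := by
  refine ⟨isMonomial_slice hI.1 a, fun β hβ i j hij hj => ?_⟩
  obtain ⟨rfl, rfl⟩ : i = 0 ∧ j = 1 := by omega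
  rw [mem_exps_slice] at hβ ⊢
  obtain ⟨z, hz⟩ : ∃ z, β 1 = z + 1 := ⟨β 1 - 1, by omega⟩
  rw [hz] at hβ
  convert stable21 hI hβ using 2 <;> simp [Finsupp.single_apply, hz]

theorem slice_colon_le (hI : IsStronglyStable I) (a : ℕ) :
    (sliceX I a).colon {(X 0 : MvPolynomial (Fin 2) k)} ≤ sliceX I (a + 1) := by
  classical
  intro p hp
  rw [Submodule.mem_colon_singleton] at hp
  refine mem_of_support p fun β hβ => ?_
  have hmem : β + Finsupp.single 0 1 ∈ exps (sliceX I a) :=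
    slice_support hI.1 hp (mem_support_iff.mpr (by
      rw [smul_eq_mul, coeff_mul_X]; exact mem_support_iff.mp hβ))
  rw [mem_exps_slice] at hmem ⊢
  simp [Finsupp.single_apply] at hmem
  exact stable10 hI hmem

end Groth.Agent.Hilb6
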