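import Groth.Agent.Hilb6.Slice
import Groth.Agent.Hilb6.Pow
import Mathlib.Algebra.BigOperators.Intervals
import Mathlib.Data.Finsupp.Interval

/-!
# Colengths of slices of strongly stable ideals
-/

namespace Groth.Agent.Hilb6

open MvPolynomial W4c1hilbpn

variable {k : Type*} [Field k]

theorem finrank_quot_eq_card {σ : Type*} {J : Ideal (MvPolynomial σ k)} (hJ : IsMonomial J)
    (hfin : (exps J)ᶜ.Finite) :
    Module.finrank k (MvPolynomial σ k ⧸ J) = Nat.card ((exps J)ᶜ : Set (σ →₀ ℕ)) := by
  classical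
  haveI := hfin.to_subtype
  haveI := Fintype.ofFinite ((exps J)ᶜ : Set (σ →₀ ℕ))
  let F : (MvPolynomial σ k ⧸ J) →ₗ[k] (((exps J)ᶜ : Set (σ →₀ ℕ)) → k) :=
    LinearMap.pi fun γ => (LinearMap.proj γ.1).comp (nf hJ)
  have hbij : Function.Bijective F := by
    constructor
    · rw [injective_iff_map_eq_zero]
      intro x hx
      refine nf_injective hJ (funext fun γ => ?_)
      rw [map_zero, Pi.zero_apply]
      by_cases h : γ ∈ exps J
      · exact nf_apply_exps hJ _ h
      · exact congrFun hx ⟨γ, h⟩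
    · intro g
      refine ⟨Ideal.Quotient.mk J (∑ γ, monomial γ.1 (g γ)), funext fun γ => ?_⟩
      show nf hJ _ γ.1 = g γ
      rw [nf_mk_apply hJ _ γ.2, coeff_sum, Finset.sum_eq_single γ
        (fun b _ hb => by rw [coeff_monomial, if_neg fun he => hb (Subtype.ext he)])
        (fun hn => absurd (Finset.mem_univ _) hn), coeff_monomial, if_pos rfl]
  rw [(LinearEquiv.ofBijective F hbij).finrank_eq, Module.finrank_pi, Nat.card_eq_fintype_card]

theorem ideal_eq_of_exps {σ : Type*} {I J : Ideal (MvPolynomial σ k)} (hI : IsMonomial I) (hJ : IsMonomial J)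
    (h : exps I = exps J) : I = J :=
  le_antisymm (fun p hp => mem_of_support p fun β hβ => h ▸ hI p hp β hβ)
    (fun p hp => mem_of_support p fun β hβ => h.symm ▸ hJ p hp β hβ)

variable {I : Ideal (MvPolynomial (Fin 3) k)} [Module.Finite k (MvPolynomial (Fin 3) k ⧸ I)]

/-- The monomials outside the ideal. -/
noncomputable def stdMons (hI : IsMonomial I) : Finset (Fin 3 →₀ ℕ) := (compl_exps_finite hI).toFinset

theorem mem_stdMons (hI : IsMonomial I) {β : Fin 3 →₀ ℕ} : β ∈ stdMons hI ↔ β ∉ exps I :=
  Set.Finite.mem_toFinset _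

theorem mem_stdMons_e3 (hI : IsMonomial I) {a b c : ℕ} :
    e3 a b c ∈ stdMons hI ↔ c < stairZ I a b := by
  rw [mem_stdMons, e3_mem_iff_stairZ_le hI, not_le]

/-- The monomials outside the ideal with given `x`-exponent. -/
noncomputable def layer (hI : IsMonomial I) (i : ℕ) : Finset (Fin 3 →₀ ℕ) :=
  (stdMons hI).filter fun β => β 0 = i

theorem finrank_quot_slice (hI : IsMonomial I) (i : ℕ) :
    Module.finrank k (MvPolynomial (Fin 2) k ⧸ sliceX I i) = (layer hI i).card := by
  classical
  let e : ((exps (sliceX I i))ᶜ : Set (Fin 2 →₀ ℕ)) ≃ layer hI i :=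
    { toFun := fun γ => ⟨e3 i (γ.1 0) (γ.1 1), Finset.mem_filter.mpr
        ⟨(mem_stdMons hI).mpr fun h => γ.2 ((mem_exps_slice _ _).mpr h), rfl⟩⟩
      invFun := fun β => ⟨Finsupp.equivFunOnFinite.symm ![β.1 1, β.1 2], fun h => by
        obtain ⟨h1, h2⟩ := Finset.mem_filter.mp β.2
        refine (mem_stdMons hI).mp h1 ?_
        have := (mem_exps_slice _ _).mp h
        simpa [← h2, e3_eta] using this⟩
      left_inv := fun γ => Subtype.ext (Finsupp.ext fun l => by fin_cases l <;> simp [e3])
      right_inv := fun β => Subtype.ext (by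
        have h2 := (Finset.mem_filter.mp β.2).2
        simp [← h2, e3_eta]) }
  have hfin : (exps (sliceX I i))ᶜ.Finite := Set.finite_coe_iff.mp (Finite.of_equiv _ e.symm)
  rw [finrank_quot_eq_card (isMonomial_slice hI i) hfin, Nat.card_congr e,
    Nat.card_eq_fintype_card, Fintype.card_coe]

theorem diag_le (hI : IsStronglyStable I) {i b c : ℕ} (h : e3 i b c ∈ stdMons hI.1) :
    b + c < stairZ I i 0 := by
  induction b generalizing c with
  | zero => rw [zero_add]; exact (mem_stdMons_e3 hI.1).mp h
  | succ b ih =>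
    have : e3 i b (c + 1) ∈ stdMons hI.1 :=
      (mem_stdMons hI.1).mpr fun h' => (mem_stdMons hI.1).mp h (stable21 hI h')
    have := ih this
    omega

theorem sum_range_tsub (t : ℕ) : ∑ b ∈ Finset.range t, (t - b) = (t + 1).choose 2 := by
  induction t with
  | zero => rfl
  | succ t ih =>
    rw [Finset.sum_range_succ', Nat.sub_zero]
    have : ∑ b ∈ Finset.range t, (t + 1 - (b + 1)) = ∑ b ∈ Finset.range t, (t - b) :=
      Finset.sum_congr rfl fun b _ => by omega
    rw [this, ih, Nat.choose_succ_succ' (t + 1) 1, Nat.choose_one_right]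
    simp only [Nat.reduceAdd]
    omega

theorem layer_card_le_choose (hI : IsStronglyStable I) (i : ℕ) :
    (layer hI.1 i).card ≤ (stairZ I i 0 + 1).choose 2 := by
  classical
  rw [← sum_range_tsub]
  rw [show ∑ b ∈ Finset.range (stairZ I i 0), (stairZ I i 0 - b) =
    ∑ b ∈ Finset.range (stairZ I i 0), (Finset.range (stairZ I i 0 - b)).card from
      Finset.sum_congr rfl fun b _ => (Finset.card_range _).symm]
  rw [← Finset.card_sigma]
  refine Finset.card_le_card_of_injOn (fun β => ⟨β 1, β 2⟩) (fun β hβ => ?_) ?_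
  · obtain ⟨h1, h2⟩ := Finset.mem_filter.mp hβ
    rw [← e3_eta β, h2] at h1
    have := diag_le hI h1
    simp only [Finset.mem_coe, Finset.mem_sigma, Finset.mem_range, Finset.card_range]
    omega
  · intro β hβ β' hβ' he
    have h2 := (Finset.mem_filter.mp hβ).2
    have h2' := (Finset.mem_filter.mp hβ').2
    simp only [Sigma.mk.inj_iff, heq_eq_eq] at he
    rw [← e3_eta β, ← e3_eta β', h2, h2', he.1, he.2]

theorem layer_succ_add_le (hI : IsStronglyStable I) (i : ℕ) :
    (layer hI.1 (i + 1)).card + stairZ I i 0 ≤ (layer hI.1 i).card := by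
  classical
  let A := (layer hI.1 (i + 1)).image fun β => e3 i (β 1 + 1) (β 2)
  let B := (Finset.range (stairZ I i 0)).image fun c => e3 i 0 c
  have hA : A.card = (layer hI.1 (i + 1)).card := Finset.card_image_of_injOn fun β hβ β' hβ' he => by
    have h2 := (Finset.mem_filter.mp hβ).2
    have h2' := (Finset.mem_filter.mp hβ').2
    have e1 := congrArg (fun v : Fin 3 →₀ ℕ => v 1) he
    have e2 := congrArg (fun v : Fin 3 →₀ ℕ => v 2) he
    simp only [e3_apply1, e3_apply2, add_left_inj] at e1 e2
    rw [← e3_eta β, ← e3_eta β', h2, h2', e1, e2]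
  have hB : B.card = stairZ I i 0 := by
    rw [Finset.card_image_of_injective _ (e3_z_injective hI.1 i 0), Finset.card_range]
  rw [← hA, ← hB, ← Finset.card_union_of_disjoint]
  · refine Finset.card_le_card (Finset.union_subset ?_ ?_)
    · intro v hv
      obtain ⟨β, hβ, rfl⟩ := Finset.mem_image.mp hv
      obtain ⟨h1, h2⟩ := Finset.mem_filter.mp hβ
      refine Finset.mem_filter.mpr ⟨(mem_stdMons hI.1).mpr fun h => (mem_stdMons hI.1).mp h1 ?_, rfl⟩
      rw [← e3_eta β, h2]
      exact stable10 hI h
    · intro v hv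
      obtain ⟨c, hc, rfl⟩ := Finset.mem_image.mp hv
      exact Finset.mem_filter.mpr ⟨(mem_stdMons_e3 hI.1).mpr (Finset.mem_range.mp hc), rfl⟩
  · rw [Finset.disjoint_left]
    intro v hv hv'
    obtain ⟨β, -, rfl⟩ := Finset.mem_image.mp hv
    obtain ⟨c, -, he⟩ := Finset.mem_image.mp hv'
    simpa [e3_apply1] using congrArg (fun v : Fin 3 →₀ ℕ => v 1) he

theorem sum_layer_le (hI : IsMonomial I) (S : Finset ℕ) :
    ∑ i ∈ S, (layer hI i).card ≤ Module.finrank k (MvPolynomial (Fin 3) k ⧸ I) := by
  classical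
  rw [finrank_quot_eq_card hI (compl_exps_finite hI), Nat.card_coe_set_eq,
    Set.ncard_eq_toFinset_card _ (compl_exps_finite hI)]
  rw [← Finset.card_biUnion fun i _ j _ hij => Finset.disjoint_left.mpr fun β h1 h2 =>
    hij ((Finset.mem_filter.mp h1).2.symm.trans (Finset.mem_filter.mp h2).2)]
  exact Finset.card_le_card fun β hβ => by
    obtain ⟨i, -, hi⟩ := Finset.mem_biUnion.mp hβ
    exact (Finset.mem_filter.mp hi).1

theorem step_le {h h' t s : ℕ} (h1 : h' + t ≤ h) (h2 : h ≤ (t + 1).choose 2) (h3 : h ≤ (s + 1).choose 2) :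
    h' ≤ s.choose 2 := by
  rw [Nat.choose_succ_succ' t 1, Nat.choose_one_right] at h2
  rw [Nat.choose_succ_succ' s 1, Nat.choose_one_right] at h3
  rcases le_total s t with hle | hle
  · simp only [Nat.reduceAdd] at h3; omega
  · have := Nat.choose_le_choose 2 hle
    simp only [Nat.reduceAdd] at h2
    omega

theorem sum_choose_two (r : ℕ) : ∑ i ∈ Finset.range r, (r - i + 1).choose 2 = (r + 2).choose 3 := by
  induction r with
  | zero => rfl
  | succ r ih =>
    rw [Finset.sum_range_succ']
    have : ∑ i ∈ Finset.range r, (r + 1 - (i + 1) + 1).choose 2 = ∑ i ∈ Finset.range r, (r - i + 1).choose 2 :=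
      Finset.sum_congr rfl fun i _ => by congr 2; omega
    rw [this, ih, Nat.sub_zero, Nat.choose_succ_succ' (r + 2) 2]
    ring

theorem layer_tail_le (hI : IsStronglyStable I) {r : ℕ}
    (hd : Module.finrank k (MvPolynomial (Fin 3) k ⧸ I) ≤ (r + 2).choose 3) {j : ℕ} (hj : j ≤ r) :
    ∑ i ∈ Finset.Ico j r, (layer hI.1 i).card ≤ ∑ i ∈ Finset.Ico j r, (r - i + 1).choose 2 := by
  classical
  have hprop : ∀ i, i < r → (layer hI.1 i).card ≤ (r - i + 1).choose 2 →
      ∀ m, i ≤ m → m < r → (layer hI.1 m).card ≤ (r - m + 1).choose 2 := by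
    intro i _ hi m him
    induction m, him using Nat.le_induction with
    | base => exact fun _ => hi
    | succ m _ ih =>
      intro hm
      have := step_le (layer_succ_add_le hI m) (layer_card_le_choose hI m) (ih (by omega))
      rwa [show r - (m + 1) + 1 = r - m by omega]
  by_cases hle : ∀ i ∈ Finset.Ico j r, (layer hI.1 i).card ≤ (r - i + 1).choose 2
  · exact Finset.sum_le_sum hle
  push Not at hle
  obtain ⟨i, hi, hlt⟩ := hle
  rw [Finset.mem_Ico] at hi
  have hhead : ∑ m ∈ Finset.range j, (r - m + 1).choose 2 ≤ ∑ m ∈ Finset.range j, (layer hI.1 m).card := by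
    refine Finset.sum_le_sum fun m hm => ?_
    rw [Finset.mem_range] at hm
    by_contra hc
    exact absurd (hprop m (by omega) (not_le.mp hc).le i (by omega) hi.2) (not_le.mpr hlt)
  have h1 := Finset.sum_range_add_sum_Ico (fun m => (layer hI.1 m).card) hj
  have h2 := Finset.sum_range_add_sum_Ico (fun m => (r - m + 1).choose 2) hj
  have h3 := sum_layer_le hI.1 (Finset.range r)
  rw [sum_choose_two] at h2
  omega

theorem eq_pow_of_layers (hI : IsStronglyStable I) {r : ℕ}
    (hd : Module.finrank k (MvPolynomial (Fin 3) k ⧸ I) ≤ (r + 2).choose 3)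
    (heq : ∀ j, j < r → ∑ i ∈ Finset.Ico j r, (layer hI.1 i).card = ∑ i ∈ Finset.Ico j r, (r - i + 1).choose 2) :
    I = (Ideal.span (Set.range (X : Fin 3 → MvPolynomial (Fin 3) k))) ^ r := by
  classical
  have hi : ∀ i, i < r → (layer hI.1 i).card = (r - i + 1).choose 2 := fun i hir => by
    have h1 := heq i hir
    rw [Finset.sum_eq_sum_Ico_succ_bot hir, Finset.sum_eq_sum_Ico_succ_bot hir] at h1
    rcases lt_or_eq_of_le (Nat.succ_le_of_lt hir) with h | h
    · have := heq (i + 1) h; omega
    · simpa [← h] using h1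
  have htot : ∑ i ∈ Finset.range r, (layer hI.1 i).card = (r + 2).choose 3 := by
    rw [← sum_choose_two]
    exact Finset.sum_congr rfl fun i h => hi i (Finset.mem_range.mp h)
  have hzero : ∀ i, r ≤ i → (layer hI.1 i).card = 0 := fun i hir => by
    have := sum_layer_le hI.1 (insert i (Finset.range r))
    rw [Finset.sum_insert (by simp; omega), htot] at this
    omega
  have hsub : ∀ β : Fin 3 →₀ ℕ, β ∉ exps I → ∑ l, β l < r := by
    intro β hβ
    have hmem : β ∈ layer hI.1 (β 0) := Finset.mem_filter.mpr ⟨(mem_stdMons hI.1).mpr hβ, rfl⟩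
    have hir : β 0 < r := by
      by_contra hn
      rw [Finset.card_eq_zero.mp (hzero _ (not_lt.mp hn))] at hmem
      exact absurd hmem (Finset.notMem_empty _)
    have hd1 : β 1 + β 2 < stairZ I (β 0) 0 := diag_le hI ((mem_stdMons hI.1).mpr (by rwa [e3_eta]))
    have ht : stairZ I (β 0) 0 ≤ r - β 0 := by
      have h1 := layer_succ_add_le hI (β 0)
      rw [hi _ hir] at h1
      rcases lt_or_eq_of_le (Nat.succ_le_of_lt hir) with h | h
      · rw [hi _ h, Nat.choose_succ_succ' (r - β 0) 1, Nat.choose_one_right,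
          show r - (β 0 + 1) + 1 = r - β 0 by omega] at h1
        simp only [Nat.reduceAdd] at h1
        omega
      · rw [show r - β 0 + 1 = 2 by omega, Nat.choose_self] at h1
        omega
    rw [Fin.sum_univ_three]
    omega
  refine ideal_eq_of_exps hI.1 (isMonomial_pow r) ?_
  set L := (Finset.range r).biUnion (layer hI.1) with hL
  have hfinP : {β : Fin 3 →₀ ℕ | ∑ l, β l < r}.Finite :=
    (Set.finite_Iic (e3 r r r)).subset fun β hβ => by
      rw [Set.mem_Iic, ← e3_eta β]
      simp only [Set.mem_setOf_eq, Fin.sum_univ_three] at hβ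
      exact e3_le (by omega) (by omega) (by omega)
  have hcardP : hfinP.toFinset.card ≤ (stdMons hI.1).card := by
    have h1 : (stdMons hI.1).card = (r + 2).choose 3 := by
      refine le_antisymm ?_ ?_
      · rw [finrank_quot_eq_card hI.1 (compl_exps_finite hI.1), Nat.card_coe_set_eq,
          Set.ncard_eq_toFinset_card _ (compl_exps_finite hI.1)] at hd
        exact hd
      · rw [← htot, ← Finset.card_biUnion fun i _ j _ hij => Finset.disjoint_left.mpr fun β h1 h2 =>
          hij ((Finset.mem_filter.mp h1).2.symm.trans (Finset.mem_filter.mp h2).2)]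
        exact Finset.card_le_card fun β hβ => by
          obtain ⟨i, -, hi⟩ := Finset.mem_biUnion.mp hβ
          exact (Finset.mem_filter.mp hi).1
    have h2 : hfinP.toFinset.card ≤ ((Finset.range r).sigma fun i =>
        (Finset.range (r - i)).sigma fun b => Finset.range (r - i - b)).card := by
      refine Finset.card_le_card_of_injOn (fun β => ⟨β 0, β 1, β 2⟩) (fun β hβ => ?_) ?_
      · simp only [Set.Finite.coe_toFinset, Set.mem_setOf_eq, Fin.sum_univ_three] at hβ
        simp only [Finset.mem_coe, Finset.mem_sigma, Finset.mem_range]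
        omega
      · intro β _ β' _ he
        simp only [Sigma.mk.inj_iff, heq_eq_eq] at he
        rw [← e3_eta β, ← e3_eta β', he.1, he.2.1, he.2.2]
    simp only [Finset.card_sigma, Finset.card_range, sum_range_tsub, sum_choose_two] at h2
    omega
  have hsubF : stdMons hI.1 ⊆ hfinP.toFinset := fun β hβ =>
    (Set.Finite.mem_toFinset _).mpr (hsub β ((mem_stdMons hI.1).mp hβ))
  have heqF := Finset.eq_of_subset_of_card_le hsubF hcardP
  ext β
  rw [mem_exps_pow]
  have h1 := (mem_stdMons hI.1 (β := β))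
  rw [heqF, Set.Finite.mem_toFinset] at h1
  constructor
  · intro h
    by_contra hn
    exact h1.mp (not_le.mp hn) h
  · intro h
    by_contra hn
    exact absurd (show ∑ l, β l < r from h1.mpr hn) (not_lt.mpr h)

end Groth.Agent.Hilb6
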