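import Groth.Agent.Hilb6.Comp
import Mathlib.Tactic

/-!
# Staircases in three variables
-/

namespace Groth.Agent.Hilb6

open MvPolynomial W4c1hilbpn

variable {k : Type*} [Field k] {I : Ideal (MvPolynomial (Fin 3) k)}

theorem e3_apply0 (a b c : ℕ) : e3 a b c 0 = a := rfl
theorem e3_apply1 (a b c : ℕ) : e3 a b c 1 = b := rfl
theorem e3_apply2 (a b c : ℕ) : e3 a b c 2 = c := rfl

theorem e3_eta (β : Fin 3 →₀ ℕ) : e3 (β 0) (β 1) (β 2) = β := by
  ext l; fin_cases l <;> rfl

theorem e3_le {a b c a' b' c' : ℕ} (ha : a ≤ a') (hb : b ≤ b') (hc : c ≤ c') : e3 a b c ≤ e3 a' b' c' :=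
  fun l => by fin_cases l <;> assumption

theorem exps_e3_mono {a b c a' b' c' : ℕ} (h : e3 a b c ∈ exps I) (ha : a ≤ a') (hb : b ≤ b') (hc : c ≤ c') :
    e3 a' b' c' ∈ exps I :=
  exps_upper h (e3_le ha hb hc)

theorem e3_add_single0 (a b c : ℕ) : e3 a b c + Finsupp.single 0 1 = e3 (a + 1) b c := by
  ext l; fin_cases l <;> simp [e3]

theorem e3_add_single1 (a b c : ℕ) : e3 a b c + Finsupp.single 1 1 = e3 a (b + 1) c := by
  ext l; fin_cases l <;> simp [e3]

theorem e3_add_single2 (a b c : ℕ) : e3 a b c + Finsupp.single 2 1 = e3 a b (c + 1) := by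
  ext l; fin_cases l <;> simp [e3]

theorem stable10 (hI : IsStronglyStable I) {a b c : ℕ} (h : e3 a (b + 1) c ∈ exps I) :
    e3 (a + 1) b c ∈ exps I := by
  have := hI.2 _ h 0 1 (by decide) (by simp [e3])
  convert this using 1
  ext l; fin_cases l <;> simp [e3, Matrix.vecHead, Matrix.vecTail, Finsupp.single_apply]

theorem stable20 (hI : IsStronglyStable I) {a b c : ℕ} (h : e3 a b (c + 1) ∈ exps I) :
    e3 (a + 1) b c ∈ exps I := by
  have := hI.2 _ h 0 2 (by decide) (by simp [e3])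
  convert this using 1
  ext l; fin_cases l <;> simp [e3, Matrix.vecHead, Matrix.vecTail, Finsupp.single_apply]

theorem stable21 (hI : IsStronglyStable I) {a b c : ℕ} (h : e3 a b (c + 1) ∈ exps I) :
    e3 a (b + 1) c ∈ exps I := by
  have := hI.2 _ h 1 2 (by decide) (by simp [e3])
  convert this using 1
  ext l; fin_cases l <;> simp [e3, Matrix.vecHead, Matrix.vecTail, Finsupp.single_apply]

section

variable (hI : IsMonomial I) [Module.Finite k (MvPolynomial (Fin 3) k ⧸ I)]
include hI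

theorem line_finite {f : ℕ → (Fin 3 →₀ ℕ)} (hf : Function.Injective f) : {c | f c ∉ exps I}.Finite :=
  ((compl_exps_finite hI).preimage hf.injOn).subset fun _ h => h

theorem e3_z_injective (a b : ℕ) : Function.Injective fun c => e3 a b c := fun c c' h => by
  simpa [e3_apply2] using congrArg (fun β : Fin 3 →₀ ℕ => β 2) h

theorem e3_y_injective (a c : ℕ) : Function.Injective fun b => e3 a b c := fun b b' h => by
  simpa [e3_apply1] using congrArg (fun β : Fin 3 →₀ ℕ => β 1) h

theorem e3_mem_iff_stairZ_le (a b c : ℕ) : e3 a b c ∈ exps I ↔ stairZ I a b ≤ c := by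
  classical
  have hfin := line_finite hI (e3_z_injective hI a b)
  have hcard : stairZ I a b = hfin.toFinset.card := by
    rw [stairZ, ← Set.ncard_eq_toFinset_card _ hfin, ← Nat.card_coe_set_eq]; rfl
  constructor
  · intro h
    rw [hcard, ← Finset.card_range c]
    refine Finset.card_le_card fun x hx => Finset.mem_range.mpr ?_
    by_contra hn
    exact (Set.Finite.mem_toFinset _).mp hx (exps_e3_mono h le_rfl le_rfl (not_lt.mp hn))
  · intro h
    by_contra hn
    have : Finset.range (c + 1) ⊆ hfin.toFinset := fun x hx => (Set.Finite.mem_toFinset _).mpr fun h' =>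
      hn (exps_e3_mono h' le_rfl le_rfl (Nat.lt_succ_iff.mp (Finset.mem_range.mp hx)))
    have := Finset.card_le_card this
    rw [Finset.card_range] at this
    omega

theorem e3_stairZ_mem (a b : ℕ) : e3 a b (stairZ I a b) ∈ exps I :=
  (e3_mem_iff_stairZ_le hI a b _).mpr le_rfl

theorem stairZ_finite_support : {p : ℕ × ℕ | 0 < stairZ I p.1 p.2}.Finite := by
  refine ((compl_exps_finite hI).image fun β => (β 0, β 1)).subset fun p hp => ⟨e3 p.1 p.2 0, ?_, rfl⟩
  intro h
  have := (e3_mem_iff_stairZ_le hI p.1 p.2 0).mp h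
  exact absurd (Nat.le_zero.mp this) hp.ne'

/-- A monomial outside `I` lies below one all whose successors are in `I`. -/
theorem exists_socle_ge {u : Fin 3 →₀ ℕ} (hu : u ∉ exps I) :
    ∃ s, u ≤ s ∧ s ∉ exps I ∧ ∀ i, s + Finsupp.single i 1 ∈ exps I := by
  obtain ⟨s, hus, hs⟩ := (compl_exps_finite hI).exists_le_maximal (show u ∈ (exps I)ᶜ from hu)
  refine ⟨s, hus, hs.1, fun i => ?_⟩
  by_contra hn
  have h1 : s + Finsupp.single i 1 ≤ s :=
    hs.2 hn (le_add_of_nonneg_right (zero_le (α := Fin 3 →₀ ℕ)))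
  have := h1 i
  simp at this

end

/-- A minimal generator and a socle monomial give a nonzero graded piece. -/
theorem CSp_ne_bot_of_socle {σ : Type*} [Finite σ] {I : Ideal (MvPolynomial σ k)} {g s : σ →₀ ℕ} (hg : g ∈ exps I)
    (hgmin : ∀ β ∈ exps I, ∀ i, β + Finsupp.single i 1 ≠ g) (hs : s ∉ exps I)
    (hsoc : ∀ i, s + Finsupp.single i 1 ∈ exps I) : CSp I (fun i => (s i : ℤ) - g i) ≠ ⊥ := by
  classical
  set α : σ → ℤ := fun i => (s i : ℤ) - g i with hα
  have hp : Pos α g := fun i => by simp [hα]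
  have hsh : shift g α = s := by
    ext i; rw [shift_apply]; simp [hα]
  refine (Submodule.ne_bot_iff _).mpr ⟨fun β => if β = g then 1 else 0, ⟨fun β hβ => ?_, fun β hβ i hi => ?_⟩, ?_⟩
  · beta_reduce
    rw [if_neg]
    rintro rfl
    exact hβ ⟨hg, hp, hsh ▸ hs⟩
  · beta_reduce
    rw [if_neg (hgmin β hβ i), if_neg]
    rintro rfl
    rw [shift_add hp, hsh] at hi
    exact hi (hsoc i)
  · intro h
    have := congrFun h g
    simp at this

theorem sigPiece_ne_bot {σ : Type*} [Finite σ] {I : Ideal (MvPolynomial σ k)} (hI : IsMonomial I) {N : Set σ}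
    {α : σ → ℤ} (hN : ∀ i, α i < 0 ↔ i ∈ N) (h : CSp I α ≠ ⊥) : sigPiece I N ≠ ⊥ := fun hb => by
  refine h ((tPiece_eq_bot_iff hI α).mp (eq_bot_iff.mpr ?_))
  rw [← hb]
  exact le_iSup (fun α : {α : σ → ℤ // ∀ i, α i < 0 ↔ i ∈ N} => tPiece I α.1) ⟨α, hN⟩

theorem min_of_corner {a b c : ℕ} (hx : a = 0 ∨ e3 (a - 1) b c ∉ exps I)
    (hy : b = 0 ∨ e3 a (b - 1) c ∉ exps I) (hz : c = 0 ∨ e3 a b (c - 1) ∉ exps I) :
    ∀ β ∈ exps I, ∀ i, β + Finsupp.single i 1 ≠ e3 a b c := by
  intro β hβ i he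
  rw [← e3_eta β] at hβ
  have h0 := congrArg (fun v : Fin 3 →₀ ℕ => v 0) he
  have h1 := congrArg (fun v : Fin 3 →₀ ℕ => v 1) he
  have h2 := congrArg (fun v : Fin 3 →₀ ℕ => v 2) he
  fin_cases i <;> simp [e3] at h0 h1 h2
  · rcases hx with h | h
    · omega
    · exact h (exps_e3_mono hβ (by omega) (by omega) (by omega))
  · rcases hy with h | h
    · omega
    · exact h (exps_e3_mono hβ (by omega) (by omega) (by omega))
  · rcases hz with h | h
    · omega
    · exact h (exps_e3_mono hβ (by omega) (by omega) (by omega))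

theorem not_both {s : Fin 3 →₀ ℕ} (hs : s ∉ exps I) {a b c : ℕ} (h : e3 a b c ∈ exps I) :
    s 0 < a ∨ s 1 < b ∨ s 2 < c := by
  by_contra hn
  simp only [not_or, not_lt] at hn
  rw [← e3_eta s] at hs
  exact hs (exps_e3_mono h hn.1 hn.2.1 hn.2.2)

end Groth.Agent.Hilb6
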