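import Mathlib

/-!
# `dim Hom(I, S/I) ≤ (2p+1) · colength` when `I` contains a monic polynomial of degree `p`

`S = R[X]` with `R = k[z][y]`.
-/

set_option autoImplicit false
set_option linter.style.haveILetI false

namespace Groth.Agent.Hilb6.TgtBound

open Polynomial

variable {k : Type*} [Field k]

variable {A : Type*} [CommRing A] [Algebra k A]

/-- Dimension along a left exact sequence. -/
theorem finrank_le_add {P Q C : Type*} [AddCommGroup P] [Module k P] [AddCommGroup Q] [Module k Q]
    [AddCommGroup C] [Module k C] [Module.Finite k P] [Module.Finite k C]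
    (i : P →ₗ[k] Q) (π : Q →ₗ[k] C) (h : LinearMap.ker π ≤ LinearMap.range i) :
    Module.Finite k Q ∧ Module.finrank k Q ≤ Module.finrank k P + Module.finrank k C := by
  haveI : Module.Finite k (LinearMap.range i) := inferInstance
  haveI : Module.Finite k (LinearMap.ker π) := Submodule.finiteDimensional_of_le h
  haveI : Module.Finite k (Q ⧸ LinearMap.ker π) := Module.Finite.equiv π.quotKerEquivRange.symm
  haveI hQ : Module.Finite k Q := Module.Finite.of_submodule_quotient (LinearMap.ker π)
  refine ⟨hQ, ?_⟩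
  rw [← π.finrank_range_add_finrank_ker, add_comm]
  exact add_le_add ((Submodule.finrank_mono h).trans i.finrank_range_le) (Submodule.finrank_le _)

theorem finrank_le_of_injective {Q C : Type*} [AddCommGroup Q] [Module k Q] [AddCommGroup C] [Module k C]
    [Module.Finite k C] (π : Q →ₗ[k] C) (h : Function.Injective π) :
    Module.Finite k Q ∧ Module.finrank k Q ≤ Module.finrank k C :=
  ⟨Module.Finite.of_injective π h, LinearMap.finrank_le_finrank_of_injective h⟩

section Dual

variable [IsDomain A] [IsPrincipalIdealRing A] {F : Type*} [AddCommGroup F] [Module A F] [Module k F] [IsScalarTower k A F]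

theorem finrank_eq_of_finite_quotient (hA : ¬ Module.Finite k A) {ι : Type*} [Finite ι] (b : Module.Basis ι A F)
    (N : Submodule A F) [Module.Finite k (F ⧸ N)] : Module.finrank A N = Module.finrank A F := by
  haveI : Module.Finite A F := Module.Finite.of_basis b
  have ht : Module.rank A (F ⧸ N) = 0 := by
    rw [rank_eq_zero_iff]
    intro x
    by_contra hx
    push Not at hx
    refine hA (Module.Finite.of_injective
      ((LinearMap.toSpanSingleton A (F ⧸ N) x).restrictScalars k) ?_)
    rw [injective_iff_map_eq_zero]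
    exact fun a ha => by_contra fun h => hx a h ha
  have h := HasRankNullity.rank_quotient_add_rank N
  rw [ht, zero_add] at h
  exact congrArg Cardinal.toNat h

/-- A quotient of the dual of a lattice killing all functionals on the ambient module is at most as
big as the quotient by the lattice. -/
theorem dual_coker_le (hA : ¬ Module.Finite k A) {ι : Type*} [Finite ι] (b : Module.Basis ι A F) (N : Submodule A F)
    [Module.Finite k (F ⧸ N)] {M : Type*} [AddCommGroup M] [Module k M]
    (L : (N →ₗ[A] A) →ₗ[k] M) (hL : Function.Surjective L)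
    (h0 : ∀ ξ : F →ₗ[A] A, L (ξ.comp N.subtype) = 0) :
    Module.Finite k M ∧ Module.finrank k M ≤ Module.finrank k (F ⧸ N) := by
  classical
  haveI := Fintype.ofFinite ι
  have h := finrank_eq_of_finite_quotient hA b N
  let a := Submodule.smithNormalFormCoeffs b h
  let bT := Submodule.smithNormalFormTopBasis b h
  let bN := Submodule.smithNormalFormBotBasis b h
  let E : (ι → A) ≃ₗ[k] (N →ₗ[A] A) := bN.constr k
  let T : (ι → A) →ₗ[k] M := L.comp E.toLinearMap
  let Q : (ι → A) →ₗ[k] (∀ i, A ⧸ Ideal.span ({a i} : Set A)) :=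
    LinearMap.pi fun i => ((Submodule.mkQ (Ideal.span ({a i} : Set A))).restrictScalars k).comp (LinearMap.proj i)
  have hQ : Function.Surjective Q := fun v =>
    ⟨fun i => (Submodule.Quotient.mk_surjective _ (v i)).choose,
      funext fun i => (Submodule.Quotient.mk_surjective _ (v i)).choose_spec⟩
  have hker : LinearMap.ker Q ≤ LinearMap.ker T := by
    intro v hv
    have hdvd : ∀ i, ∃ w, w * a i = v i := fun i =>
      Ideal.mem_span_singleton'.1 ((Submodule.Quotient.mk_eq_zero _).1 (congrFun hv i))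
    choose w hw using hdvd
    have he : E v = (bT.constr k w).comp N.subtype := bN.ext fun i => by
      rw [Module.Basis.constr_basis, LinearMap.comp_apply, Submodule.subtype_apply,
        show (bN i : F) = a i • bT i from Submodule.smithNormalFormBotBasis_def b h i, map_smul,
        Module.Basis.constr_basis, smul_eq_mul, ← hw i, mul_comm]
    show L (E v) = 0
    rw [he, h0]
  have hT : Function.Surjective T := hL.comp E.surjective
  let eP : (F ⧸ N) ≃ₗ[k] (∀ i, A ⧸ Ideal.span ({a i} : Set A)) :=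
    (N.quotientEquivPiSpan b h).restrictScalars k
  haveI : Module.Finite k (∀ i, A ⧸ Ideal.span ({a i} : Set A)) := Module.Finite.equiv eP
  let G := ((LinearMap.ker Q).liftQ T hker).comp (Q.quotKerEquivOfSurjective hQ).symm.toLinearMap
  have hG : Function.Surjective G := fun m => by
    obtain ⟨v, rfl⟩ := hT m
    exact ⟨Q.quotKerEquivOfSurjective hQ (Submodule.Quotient.mk v), by simp [G]⟩
  haveI : Module.Finite k M := Module.Finite.of_surjective G hG
  refine ⟨inferInstance, ?_⟩
  rw [eP.finrank_eq]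
  rw [← finrank_top, ← LinearMap.range_eq_top.2 hG]
  exact G.finrank_range_le

end Dual

section Lattice

variable [IsDomain A] [IsPrincipalIdealRing A] {F : Type*} [AddCommGroup F] [Module A F] [Module k F] [IsScalarTower k A F]
variable {M : Type*} [AddCommGroup M] [Module A M] [Module k M] [IsScalarTower k A M]

/-- The defect operator of a lattice with an endomorphism. -/
noncomputable def defect {N : Submodule A F} (tN : N →ₗ[A] N) (cN : N →ₗ[A] A)
    (x : Module.End A M) : (N →ₗ[A] M) × M →ₗ[k] (N →ₗ[A] M) where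
  toFun v := x.comp v.1 - v.1.comp tN - cN.smulRight v.2
  map_add' v w := LinearMap.ext fun n => by simp only [Prod.fst_add, Prod.snd_add, LinearMap.sub_apply,
    LinearMap.add_apply, LinearMap.comp_apply, LinearMap.smulRight_apply, map_add, smul_add]; abel
  map_smul' a v := LinearMap.ext fun n => by simp only [Prod.smul_fst, Prod.smul_snd, LinearMap.sub_apply,
    LinearMap.smul_apply, LinearMap.comp_apply, LinearMap.smulRight_apply, RingHom.id_apply, smul_sub,
    LinearMap.map_smul_of_tower, smul_comm a]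

theorem defect_apply {N : Submodule A F} (tN : N →ₗ[A] N) (cN : N →ₗ[A] A)
    (x : Module.End A M) (v : (N →ₗ[A] M) × M) (n : N) :
    defect (k := k) tN cN x v n = x (v.1 n) - v.1 (tN n) - cN n • v.2 := rfl

/-- The key estimate: cokernel of the defect operator. -/
theorem lattice_hom_le (hA : ¬ Module.Finite k A) {q : ℕ} (e : Module.Basis (Fin q) A F) (N : Submodule A F)
    [Module.Finite k (F ⧸ N)] [Module.Finite k M]
    (tF : F →ₗ[A] F) (c : F →ₗ[A] A)
    (hdelta : ∀ (i : ℕ) (j : Fin q), i + j.val < q → c ((tF ^ i) (e j)) = if i + j.val + 1 = q then 1 else 0)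
    (tN : N →ₗ[A] N) (htN : ∀ n, (tN n : F) = tF n)
    (x : Module.End A M) (one : M) (hgen : ∀ u : M, ∃ p : A[X], (aeval x p) one = u) :
    Module.Finite k (LinearMap.ker (defect (k := k) tN (c.comp N.subtype) x)) ∧
      Module.finrank k (LinearMap.ker (defect (k := k) tN (c.comp N.subtype) x)) ≤
        Module.finrank k (F ⧸ N) + Module.finrank k M := by
  classical
  obtain ⟨κ, ⟨bN⟩⟩ := Submodule.nonempty_basis_of_pid e N
  haveI : Module.Finite k (N →ₗ[A] M) := Module.Finite.equiv (bN.constr (M' := M) k)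
  let cN : N →ₗ[A] A := c.comp N.subtype
  let Θ := defect (k := k) tN cN x
  let W : Submodule k (N →ₗ[A] M) := LinearMap.range Θ
  have hWX : ∀ w ∈ W, x.comp w ∈ W := by
    rintro _ ⟨v, rfl⟩
    exact ⟨(x.comp v.1, x v.2), LinearMap.ext fun n => by
      simp [Θ, defect_apply, map_sub, map_smul]⟩
  have hWA : ∀ w ∈ W, ∀ a : A, a • w ∈ W := by
    rintro _ ⟨v, rfl⟩ a
    exact ⟨(a • v.1, a • v.2), LinearMap.ext fun n => by
      simp [Θ, defect_apply, smul_sub, map_smul, smul_comm a]⟩
  let io : (N →ₗ[A] A) →ₗ[k] (N →ₗ[A] M) :=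
    { toFun := fun ξ => ξ.smulRight one
      map_add' := fun ξ η => LinearMap.ext fun n => by simp [add_smul]
      map_smul' := fun a ξ => LinearMap.ext fun n => by simp }
  have hio : ∀ ξ n, io ξ n = ξ n • one := fun _ _ => rfl
  have hcomp : ∀ ξ : N →ₗ[A] A, x.comp (io ξ) - io (ξ.comp tN) ∈ W := fun ξ =>
    ⟨(io ξ, 0), LinearMap.ext fun n => by simp [Θ, defect_apply, hio]⟩
  let P : Submodule k (N →ₗ[A] M) := LinearMap.range io ⊔ W
  have hPX : ∀ v ∈ P, x.comp v ∈ P := by
    intro v hv
    obtain ⟨_, ⟨η, rfl⟩, w, hw, rfl⟩ := Submodule.mem_sup.1 hv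
    rw [LinearMap.comp_add, ← sub_add_cancel (x.comp (io η)) (io (η.comp tN))]
    exact P.add_mem (P.add_mem (Submodule.mem_sup_right (hcomp η))
      (Submodule.mem_sup_left ⟨_, rfl⟩)) (Submodule.mem_sup_right (hWX w hw))
  have hpow : ∀ (m : ℕ) (ξ : N →ₗ[A] A), ξ.smulRight ((x ^ m) one) ∈ P := by
    intro m
    induction m with
    | zero => exact fun ξ => Submodule.mem_sup_left ⟨ξ, LinearMap.ext fun n => by simp [hio]⟩
    | succ m ih =>
      intro ξ
      convert hPX _ (ih ξ) using 1
      exact LinearMap.ext fun n => by simp [pow_succ', map_smul]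
  have hall : ∀ (p : A[X]) (ξ : N →ₗ[A] A), ξ.smulRight ((aeval x p) one) ∈ P := by
    intro p
    induction p using Polynomial.induction_on' with
    | add p p' hp hp' =>
      intro ξ
      convert P.add_mem (hp ξ) (hp' ξ) using 1
      exact LinearMap.ext fun n => by simp [smul_add]
    | monomial m a =>
      intro ξ
      convert hpow m (a • ξ) using 1
      exact LinearMap.ext fun n => by simp [aeval_monomial, mul_smul, smul_comm a]
  have hPtop : ∀ v, v ∈ P := fun v => by
    have hv : v = ∑ i, (bN.coord i).smulRight (v (bN i)) := bN.ext fun i => by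
      simp [LinearMap.sum_apply, Finsupp.single_apply, ite_smul]
    rw [hv]
    refine P.sum_mem fun i _ => ?_
    obtain ⟨p, hp⟩ := hgen (v (bN i))
    rw [← hp]; exact hall p _
  let L : (N →ₗ[A] A) →ₗ[k] (N →ₗ[A] M) ⧸ W := W.mkQ.comp io
  have hL : Function.Surjective L := fun v => by
    obtain ⟨v, rfl⟩ := Submodule.Quotient.mk_surjective W v
    obtain ⟨_, ⟨η, rfl⟩, w, hw, rfl⟩ := Submodule.mem_sup.1 (hPtop v)
    exact ⟨η, (Submodule.Quotient.eq W).2 (by simpa using W.neg_mem hw)⟩
  let Z : Submodule A (F →ₗ[A] A) :=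
    { carrier := {ξ | io (ξ.comp N.subtype) ∈ W}
      zero_mem' := by
        show io ((0 : F →ₗ[A] A).comp N.subtype) ∈ W
        rw [LinearMap.zero_comp, map_zero]; exact W.zero_mem
      add_mem' := fun {ξ η} hξ hη => by
        show io ((ξ + η).comp N.subtype) ∈ W
        rw [LinearMap.add_comp, map_add]; exact W.add_mem hξ hη
      smul_mem' := fun a ξ hξ => by
        show io ((a • ξ).comp N.subtype) ∈ W
        convert hWA _ hξ a using 1
        exact LinearMap.ext fun n => by simp [hio, mul_smul] }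
  have hZt : ∀ ξ ∈ Z, ξ.comp tF ∈ Z := fun ξ hξ => by
    have h := W.sub_mem (hWX _ hξ) (hcomp (ξ.comp N.subtype))
    rw [sub_sub_cancel] at h
    show io ((ξ.comp tF).comp N.subtype) ∈ W
    convert h using 2
    exact LinearMap.ext fun n => by simp [htN]
  have hZc : c ∈ Z := ⟨(0, -one), LinearMap.ext fun n => by simp [Θ, defect_apply, hio, cN]⟩
  have hZpow : ∀ i, c.comp (tF ^ i) ∈ Z := fun i => by
    induction i with
    | zero => rw [pow_zero, Module.End.one_eq_id, LinearMap.comp_id]; exact hZc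
    | succ i ih => rw [pow_succ, Module.End.mul_eq_comp, ← LinearMap.comp_assoc]; exact hZt _ ih
  have hZtop : ∀ i, i ≤ q → ∀ ξ : F →ₗ[A] A, (∀ j : Fin q, j.val + i < q → ξ (e j) = 0) → ξ ∈ Z := by
    intro i
    induction i with
    | zero =>
      intro _ ξ h
      convert Z.zero_mem
      exact e.ext fun j => by rw [h j (by omega), LinearMap.zero_apply]
    | succ i ih =>
      intro hi ξ h
      let j₀ : Fin q := ⟨q - 1 - i, by omega⟩
      have : ξ - ξ (e j₀) • c.comp (tF ^ i) ∈ Z := ih (by omega) _ fun j hji => by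
        rw [LinearMap.sub_apply, LinearMap.smul_apply, LinearMap.comp_apply, hdelta i j (by omega)]
        by_cases hj : j = j₀
        · subst hj
          rw [if_pos (show i + (q - 1 - i) + 1 = q by omega), smul_eq_mul, mul_one, sub_self]
        · have : j.val ≠ q - 1 - i := fun e' => hj (Fin.ext e')
          rw [if_neg (by omega), smul_zero, sub_zero, h j (by omega)]
      have := Z.add_mem this (Z.smul_mem (ξ (e j₀)) (hZpow i))
      rwa [sub_add_cancel] at this
  obtain ⟨hfin, hco⟩ := dual_coker_le hA e N L hL fun ξ =>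
    (Submodule.Quotient.mk_eq_zero W).2 (hZtop q le_rfl ξ fun j hj => absurd hj (by omega))
  refine ⟨inferInstance, ?_⟩
  have h1 := LinearMap.finrank_range_add_finrank_ker Θ
  have h2 := Submodule.finrank_quotient_add_finrank W
  rw [Module.finrank_prod] at h1
  change Module.finrank k (LinearMap.range Θ) + Module.finrank k (LinearMap.ker Θ) = _ at h1
  change _ + Module.finrank k (LinearMap.range Θ) = _ at h2
  show Module.finrank k (LinearMap.ker Θ) ≤ _
  omega

end Lattice

section TwoVariables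



/-- An ideal of finite colength contains a monic polynomial. -/
theorem exists_monic_mem (J : Ideal A[X]) [Module.Finite k (A[X] ⧸ J)] : ∃ g ∈ J, g.Monic := by
  obtain ⟨p, hp, he⟩ := (IsIntegral.of_finite k (Ideal.Quotient.mk J X) :)
  refine ⟨p.map (algebraMap k A), ?_, hp.map _⟩
  rw [← Ideal.Quotient.eq_zero_iff_mem, ← he, ← aeval_def, ← Ideal.Quotient.mkₐ_eq_mk k,
    aeval_algHom_apply]
  refine congrArg _ ?_
  exact congrArg (fun f => f p) (Polynomial.algHom_ext (f := mapAlgHom (Algebra.ofId k A)) (g := aeval X) (by simp))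

theorem coeff_defect {g n : A[X]} {q : ℕ} (hg : g.Monic) (hq : q = g.natDegree) (hn : n ∈ degreeLT A q) :
    X * n - n.coeff (q - 1) • g ∈ degreeLT A q := by
  have hn' : ∀ j, q ≤ j → n.coeff j = 0 := fun j hj =>
    coeff_eq_zero_of_degree_lt (lt_of_lt_of_le (mem_degreeLT.1 hn) (WithBot.coe_le_coe.2 hj))
  rw [mem_degreeLT, degree_lt_iff_coeff_zero]
  intro j hj
  rw [coeff_sub, coeff_smul, smul_eq_mul]
  rcases Nat.eq_zero_or_pos j with rfl | hj0
  · rw [hn' (q - 1) (by omega), zero_mul, sub_zero, coeff_X_mul_zero]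
  obtain ⟨j, rfl⟩ := Nat.exists_eq_add_one.2 hj0
  rw [coeff_X_mul]
  rcases eq_or_lt_of_le hj with he | hlt
  · rw [show g.coeff (j + 1) = 1 by rw [← he, hq]; exact hg.coeff_natDegree, mul_one,
      show q - 1 = j by omega, sub_self]
  · rw [coeff_eq_zero_of_natDegree_lt (p := g) (n := j + 1) (by omega), mul_zero, sub_zero, hn' j (by omega)]

theorem hom_quotient_le [IsDomain A] [IsPrincipalIdealRing A] (hA : ¬ Module.Finite k A) (J K : Ideal A[X]) [Module.Finite k (A[X] ⧸ J)] [Module.Finite k (A[X] ⧸ K)] :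
    Module.Finite k (J →ₗ[A[X]] A[X] ⧸ K) ∧
      Module.finrank k (J →ₗ[A[X]] A[X] ⧸ K) ≤ Module.finrank k (A[X] ⧸ J) + Module.finrank k (A[X] ⧸ K) := by
  classical
  obtain ⟨g, hgJ, hg⟩ := exists_monic_mem (k := k) J
  obtain ⟨q, hq⟩ : ∃ q, q = g.natDegree := ⟨_, rfl⟩
  let F : Submodule A A[X] := degreeLT A q
  let N : Submodule A F := (J.restrictScalars A).comap F.subtype
  have hN : ∀ n : N, ((n : F) : A[X]) ∈ J := fun n => n.2
  let c : F →ₗ[A] A := (lcoeff A (q - 1)).comp F.subtype
  let tF : F →ₗ[A] F := LinearMap.codRestrict F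
    ((LinearMap.mulLeft A (X : A[X])).comp F.subtype - c.smulRight g) fun n => coeff_defect hg hq n.2
  have htF : ∀ n : F, (tF n : A[X]) = X * (n : A[X]) - c n • g := fun n => rfl
  let tN : N →ₗ[A] N := LinearMap.codRestrict N (tF.comp N.subtype) fun n => by
    show (tF n : A[X]) ∈ J
    rw [htF]
    exact J.sub_mem (J.mul_mem_left _ (hN n)) (Submodule.smul_of_tower_mem J _ hgJ)
  let bF : Module.Basis (Fin q) A F := Module.Basis.ofEquivFun (degreeLTEquiv A q)
  have hbF : ∀ j : Fin q, ((bF j : F) : A[X]) = X ^ j.val := fun j => by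
    rw [Module.Basis.coe_ofEquivFun]
    show ∑ i : Fin q, monomial i.val (Pi.single j (1 : A) i) = _
    rw [Finset.sum_eq_single j]
    · simp [← C_mul_X_pow_eq_monomial]
    · intro b _ hb; simp [Pi.single_eq_of_ne hb]
    · simp
  have hpowc : ∀ (i : ℕ) (j : Fin q), i + j.val < q →
      (((tF ^ i) (bF j) : F) : A[X]) = X ^ (i + j.val) := by
    intro i j hij
    induction i with
    | zero => simp [hbF]
    | succ i ih =>
      rw [pow_succ', Module.End.mul_apply, htF]
      have h0 : c ((tF ^ i) (bF j)) = 0 := by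
        show Polynomial.coeff (((tF ^ i) (bF j) : F) : A[X]) (q - 1) = 0
        rw [ih (by omega), coeff_X_pow, if_neg (by omega)]
      rw [h0, ih (by omega), zero_smul, sub_zero, show i + 1 + j.val = (i + j.val) + 1 by omega, pow_succ']
  let π : F →ₗ[k] A[X] ⧸ J := ((Ideal.Quotient.mkₐ A J).toLinearMap.comp F.subtype).restrictScalars k
  have hπ : Function.Surjective π := fun x => by
    obtain ⟨r, rfl⟩ := Ideal.Quotient.mk_surjective x
    refine ⟨⟨r %ₘ g, ?_⟩, ?_⟩
    · rw [mem_degreeLT, hq, ← degree_eq_natDegree hg.ne_zero]; exact degree_modByMonic_lt _ hg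
    · refine Ideal.Quotient.eq.2 ?_
      show r %ₘ g - r ∈ J
      rw [modByMonic_eq_sub_mul_div, sub_sub_cancel_left]
      exact J.neg_mem (J.mul_mem_right _ hgJ)
  let eFN : (F ⧸ N) ≃ₗ[k] (A[X] ⧸ J) :=
    (Submodule.Quotient.restrictScalarsEquiv k N).symm.trans ((Submodule.quotEquivOfEq _ (LinearMap.ker π) (by
      ext n; exact Ideal.Quotient.eq_zero_iff_mem.symm)).trans (π.quotKerEquivOfSurjective hπ))
  haveI : Module.Finite k (F ⧸ N) := Module.Finite.equiv eFN.symm
  let x : Module.End A (A[X] ⧸ K) := LinearMap.mulLeft A (Ideal.Quotient.mk K X)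
  have hgen : ∀ u : A[X] ⧸ K, ∃ p : A[X], (aeval x p) (Ideal.Quotient.mk K 1) = u := fun u => by
    obtain ⟨r, rfl⟩ := Ideal.Quotient.mk_surjective u
    refine ⟨r, ?_⟩
    induction r using Polynomial.induction_on' with
    | add r r' hr hr' => rw [map_add, LinearMap.add_apply, hr, hr', map_add]
    | monomial i a =>
      rw [aeval_monomial, ← C_mul_X_pow_eq_monomial, map_mul (Ideal.Quotient.mk K), map_pow]
      show a • ((LinearMap.mulLeft A (Ideal.Quotient.mk K X)) ^ i) (Ideal.Quotient.mk K 1) = _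
      rw [LinearMap.pow_mulLeft, LinearMap.mulLeft_apply, map_one, mul_one]
      obtain ⟨z, hz⟩ := Ideal.Quotient.mk_surjective (Ideal.Quotient.mk K (X : A[X]) ^ i)
      rw [← hz]
      show Ideal.Quotient.mk K (a • z) = _
      rw [smul_eq_C_mul, map_mul]
  obtain ⟨hfin, hle⟩ := lattice_hom_le (k := k) (M := A[X] ⧸ K) hA bF N tF c (fun i j hij => by
      show Polynomial.coeff (((tF ^ i) (bF j) : F) : A[X]) (q - 1) = _
      rw [hpowc i j hij, coeff_X_pow]
      exact if_congr (by omega) rfl rfl) tN (fun n => rfl) x _ hgen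
  let incl : N →ₗ[A] J.restrictScalars A := LinearMap.codRestrict _ (F.subtype.comp N.subtype) hN
  let Ξ : (J →ₗ[A[X]] A[X] ⧸ K) →ₗ[k] (N →ₗ[A] A[X] ⧸ K) × (A[X] ⧸ K) :=
    { toFun := fun φ => ((φ.restrictScalars A).comp incl, φ ⟨g, hgJ⟩)
      map_add' := fun φ ψ => rfl
      map_smul' := fun a φ => rfl }
  have hΞ : Function.Injective Ξ := by
    rw [injective_iff_map_eq_zero]
    intro φ hφ
    obtain ⟨h1, h2⟩ := Prod.ext_iff.1 hφ
    refine LinearMap.ext fun j => ?_
    have hrJ : (j : A[X]) %ₘ g ∈ J := by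
      rw [modByMonic_eq_sub_mul_div]; exact J.sub_mem j.2 (J.mul_mem_right _ hgJ)
    have hrF : (j : A[X]) %ₘ g ∈ F := by
      rw [mem_degreeLT, hq, ← degree_eq_natDegree hg.ne_zero]; exact degree_modByMonic_lt _ hg
    have hj : j = (⟨(j : A[X]) %ₘ g, hrJ⟩ : J) + ((j : A[X]) /ₘ g) • ⟨g, hgJ⟩ := Subtype.ext (by
      show (j : A[X]) = (j : A[X]) %ₘ g + ((j : A[X]) /ₘ g) * g
      rw [mul_comm, modByMonic_add_div])
    rw [hj, map_add, map_smul, show φ ⟨g, hgJ⟩ = 0 from h2, smul_zero, add_zero,
      show φ ⟨(j : A[X]) %ₘ g, hrJ⟩ = 0 from LinearMap.congr_fun h1 ⟨⟨_, hrF⟩, hrJ⟩]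
    rfl
  have hΞΘ : ∀ φ, Ξ φ ∈ LinearMap.ker (defect (k := k) tN (c.comp N.subtype) x) := fun φ => by
    refine LinearMap.ext fun n => ?_
    rw [defect_apply]
    show Ideal.Quotient.mk K X * φ ⟨((n : F) : A[X]), hN n⟩ - φ ⟨((tN n : F) : A[X]), hN (tN n)⟩ - c n • φ ⟨g, hgJ⟩ = 0
    have e1 : (X : A[X]) • (⟨((n : F) : A[X]), hN n⟩ : J) =
        (⟨((tN n : F) : A[X]), hN (tN n)⟩ : J) + (C (c n) : A[X]) • (⟨g, hgJ⟩ : J) := Subtype.ext (by
      show X * ((n : F) : A[X]) = (tF n : A[X]) + C (c n) * g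
      rw [htF, smul_eq_C_mul, sub_add_cancel])
    have e2 := congrArg φ e1
    rw [map_add, map_smul, map_smul] at e2
    rw [show Ideal.Quotient.mk K X * φ ⟨((n : F) : A[X]), hN n⟩ = (X : A[X]) • φ ⟨((n : F) : A[X]), hN n⟩ from ?_, e2,
      add_sub_cancel_left,
      sub_eq_zero]
    · exact IsScalarTower.algebraMap_smul A[X] (c n) _
    · obtain ⟨z, hz⟩ := Ideal.Quotient.mk_surjective (φ ⟨((n : F) : A[X]), hN n⟩)
      rw [← hz]; rfl
  have hinj : Function.Injective (Ξ.codRestrict _ hΞΘ) := fun a b h => hΞ (congrArg Subtype.val h :)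
  rw [eFN.finrank_eq] at hle
  haveI := isNoetherian_of_isNoetherianRing_of_finite k (LinearMap.ker (defect (k := k) tN (c.comp N.subtype) x))
  exact ⟨Module.Finite.of_injective _ hinj, (LinearMap.finrank_le_finrank_of_injective hinj).trans hle⟩

end TwoVariables

end Groth.Agent.Hilb6.TgtBound
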