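import Groth.Agent.Hilb6.TgtFiltration
import Groth.Prelude.Def_W4c1hilbpnTgt

/-!
# Tangent spaces in three variables after a linear change of coordinates
-/

set_option autoImplicit false
set_option linter.style.haveILetI false

namespace Groth.Agent.Hilb6.TgtBound

open Polynomial

variable {k : Type*} [Field k]

local notation "S3" => Polynomial (Polynomial (Polynomial k))
local notation "T3" => MvPolynomial (Fin 3) k

/-- The change of coordinates determined by a vector. -/
noncomputable def psi (v : Fin 3 → k) : T3 →ₐ[k] S3 :=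
  MvPolynomial.aeval (R := k) (![v 0 • X, C (C X) + v 1 • X, C X + v 2 • X] : Fin 3 → S3)

/-- Its inverse. -/
noncomputable def phi (v : Fin 3 → k) : S3 →ₐ[k] T3 :=
  aevalTower (aevalTower (aeval (MvPolynomial.X 1 - (v 1 / v 0) • MvPolynomial.X 0 : T3))
    (MvPolynomial.X 2 - (v 2 / v 0) • MvPolynomial.X 0)) ((v 0)⁻¹ • MvPolynomial.X 0)

theorem psi_X (v : Fin 3 → k) (i : Fin 3) :
    psi v (MvPolynomial.X i) = ![v 0 • X, C (C X) + v 1 • X, C X + v 2 • X] i := MvPolynomial.aeval_X _ _

/-- The coordinates as an equivalence. -/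
noncomputable def coords (v : Fin 3 → k) (hv : v 0 ≠ 0) : T3 ≃ₐ[k] S3 :=
  AlgEquiv.ofAlgHom (psi v) (phi v)
    (by
      apply Polynomial.algHom_ext'
      · apply Polynomial.algHom_ext'
        · apply Polynomial.algHom_ext
          simp [phi, psi_X, CAlgHom, smul_smul, div_mul_cancel₀ _ hv]
          ring
        · simp [phi, psi_X, CAlgHom, smul_smul, div_mul_cancel₀ _ hv]
          ring
      · simp [phi, psi_X, smul_smul, inv_mul_cancel₀ hv])
    (MvPolynomial.algHom_ext fun i => by
      fin_cases i <;> simp [phi, psi_X, smul_smul, mul_inv_cancel₀ hv, div_eq_mul_inv])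

theorem smul_X_natDegree_le (a : k) : (a • X : S3).natDegree ≤ 1 :=
  (natDegree_smul_le _ _).trans natDegree_X_le

theorem lin_natDegree_le (c : Polynomial (Polynomial k)) (a : k) : (C c + a • X : S3).natDegree ≤ 1 :=
  (natDegree_add_le _ _).trans (max_le (by rw [natDegree_C]; omega) (smul_X_natDegree_le a))

theorem psi_monomial (v : Fin 3 → k) (β : Fin 3 →₀ ℕ) (a : k) :
    (psi v (MvPolynomial.monomial β a)).natDegree ≤ β 0 + β 1 + β 2 ∧
      (psi v (MvPolynomial.monomial β a)).coeff (β 0 + β 1 + β 2) =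
        algebraMap k (Polynomial (Polynomial k)) (a * (v 0 ^ β 0 * v 1 ^ β 1 * v 2 ^ β 2)) := by
  have hm : MvPolynomial.monomial β a = a •
      ((MvPolynomial.X 0 : T3) ^ β 0 * MvPolynomial.X 1 ^ β 1 * MvPolynomial.X 2 ^ β 2) := by
    rw [MvPolynomial.monomial_eq, Finsupp.prod_fintype _ _ (fun i => pow_zero _), Fin.prod_univ_three,
      MvPolynomial.smul_eq_C_mul]
  let P : Fin 3 → S3 := ![v 0 • X, C (C X) + v 1 • X, C X + v 2 • X]
  have hP : ∀ i, (P i).natDegree ≤ 1 := fun i => by
    fin_cases i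
    · exact smul_X_natDegree_le _
    · exact lin_natDegree_le _ _
    · exact lin_natDegree_le _ _
  have hP1 : ∀ i, (P i).coeff 1 = algebraMap k (Polynomial (Polynomial k)) (v i) := fun i => by
    fin_cases i <;> simp [P, coeff_smul, Algebra.smul_def, coeff_C]
  have hd : ∀ i (n : ℕ), (P i ^ n).natDegree ≤ n := fun i n =>
    natDegree_pow_le.trans (by simpa using Nat.mul_le_mul_left n (hP i))
  have hc : ∀ i (n : ℕ), (P i ^ n).coeff n = algebraMap k (Polynomial (Polynomial k)) (v i ^ n) := fun i n => by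
    have := coeff_pow_of_natDegree_le (m := n) (hP i)
    rw [mul_one] at this
    rw [this, hP1, map_pow]
  rw [hm, map_smul, map_mul, map_mul, map_pow, map_pow, map_pow, psi_X, psi_X, psi_X]
  have h01 : (P 0 ^ β 0 * P 1 ^ β 1).natDegree ≤ β 0 + β 1 := natDegree_mul_le.trans (Nat.add_le_add (hd 0 _) (hd 1 _))
  refine ⟨(natDegree_smul_le _ _).trans (natDegree_mul_le.trans (Nat.add_le_add h01 (hd 2 _))), ?_⟩
  show (a • (P 0 ^ β 0 * P 1 ^ β 1 * P 2 ^ β 2)).coeff _ = _
  rw [coeff_smul, coeff_mul_add_eq_of_natDegree_le h01 (hd 2 _),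
    coeff_mul_add_eq_of_natDegree_le (hd 0 _) (hd 1 _), hc, hc, hc, Algebra.smul_def, map_mul, map_mul, map_mul]

theorem sum_three (β : Fin 3 →₀ ℕ) : (β.sum fun _ n => n) = β 0 + β 1 + β 2 := by
  rw [Finsupp.sum_fintype _ _ (fun _ => rfl), Fin.sum_univ_three]

theorem psi_top (v : Fin 3 → k) (f : T3) :
    (psi v f).natDegree ≤ f.totalDegree ∧ (psi v f).coeff f.totalDegree =
      algebraMap k (Polynomial (Polynomial k))
        (MvPolynomial.eval v (MvPolynomial.homogeneousComponent f.totalDegree f)) := by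
  classical
  set e := f.totalDegree with he
  have hle : ∀ β ∈ f.support, β 0 + β 1 + β 2 ≤ e := fun β hβ => by
    rw [← sum_three]; exact MvPolynomial.le_totalDegree hβ
  have hf : psi v f = ∑ β ∈ f.support, psi v (MvPolynomial.monomial β (MvPolynomial.coeff β f)) := by
    rw [← map_sum, ← MvPolynomial.as_sum]
  refine ⟨hf ▸ natDegree_sum_le_of_forall_le _ _ fun β hβ => (psi_monomial v β _).1.trans (hle β hβ), ?_⟩
  rw [hf, finsetSum_coeff, MvPolynomial.homogeneousComponent_apply, map_sum, map_sum, Finset.sum_filter]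
  refine Finset.sum_congr rfl fun β hβ => ?_
  obtain ⟨h1, h2⟩ := psi_monomial v β (MvPolynomial.coeff β f)
  by_cases h : β.degree = e
  · rw [if_pos h]
    rw [Finsupp.degree_eq_sum, Fin.sum_univ_three] at h
    rw [← h, h2, MvPolynomial.eval_monomial, Finsupp.prod_fintype _ _ (fun i => pow_zero _), Fin.prod_univ_three]
  · rw [if_neg h]
    rw [Finsupp.degree_eq_sum, Fin.sum_univ_three] at h
    exact coeff_eq_zero_of_natDegree_lt (lt_of_le_of_lt h1 (lt_of_le_of_ne (hle β hβ) h))

open W4c1hilbpn in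
theorem tgt_le_of_equiv {R : Type*} [CommRing R] [Algebra k R] [Nontrivial R]
    (hR : ∀ J K : Ideal R, Module.Finite k (R ⧸ J) → Module.Finite k (R ⧸ K) →
      Module.Finite k (J →ₗ[R] R ⧸ K) ∧
        Module.finrank k (J →ₗ[R] R ⧸ K) ≤ Module.finrank k (R ⧸ J) + Module.finrank k (R ⧸ K))
    (I : Ideal T3) [Module.Finite k (T3 ⧸ I)] (ψ : T3 ≃ₐ[k] R[X]) {f : T3} (hf : f ∈ I)
    (hm : (ψ f).Monic) :
    Module.finrank k (Tgt I) ≤ (2 * (ψ f).natDegree + 1) * Module.finrank k (T3 ⧸ I) := by
  let J : Ideal R[X] := I.map (ψ : T3 →ₐ[k] R[X])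
  let e : (T3 ⧸ I) ≃ₐ[k] (R[X] ⧸ J) := Ideal.quotientEquivAlg I J ψ rfl
  haveI : Module.Finite k (R[X] ⧸ J) := Module.Finite.equiv e.toLinearEquiv
  obtain ⟨hfin, hle⟩ := tgt_le (k := k) J hR
    (Ideal.mem_map_of_mem _ hf : ψ f ∈ J) hm
  have hmem : ∀ x : J, ψ.symm (x : R[X]) ∈ I := fun x => by
    obtain ⟨y, hy, he⟩ := (Ideal.mem_map_iff_of_surjective _ ψ.surjective).1 x.2
    rw [← he]
    show ψ.symm (ψ y) ∈ I
    rwa [ψ.symm_apply_apply]
  let G : Tgt I →ₗ[k] (J →ₗ[R[X]] R[X] ⧸ J) :=
    { toFun := fun φ =>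
        { toFun := fun x => e (φ ⟨ψ.symm x, hmem x⟩)
          map_add' := fun x y => by
            rw [← map_add, ← map_add φ]
            exact congrArg _ (congrArg φ (Subtype.ext (map_add ψ.symm _ _)))
          map_smul' := fun s x => by
            have : (⟨ψ.symm ((s • x : J) : R[X]), hmem (s • x)⟩ : I) = ψ.symm s • ⟨ψ.symm x, hmem x⟩ :=
              Subtype.ext (map_mul ψ.symm _ _)
            rw [RingHom.id_apply, this, map_smul]
            obtain ⟨t, ht⟩ := Ideal.Quotient.mk_surjective (φ ⟨ψ.symm x, hmem x⟩)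
            rw [← ht]
            show e (Ideal.Quotient.mk I (ψ.symm s * t)) = s • e (Ideal.Quotient.mk I t)
            show Ideal.Quotient.mk J (ψ (ψ.symm s * t)) = s • Ideal.Quotient.mk J (ψ t)
            rw [map_mul, ψ.apply_symm_apply]
            rfl }
      map_add' := fun φ φ' => LinearMap.ext fun x => map_add e _ _
      map_smul' := fun a φ => LinearMap.ext fun x => map_smul e a _ }
  have hG : Function.Injective G := by
    rw [injective_iff_map_eq_zero]
    intro φ hφ
    refine LinearMap.ext fun x => ?_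
    have hx : ψ (x : T3) ∈ J := Ideal.mem_map_of_mem _ x.2
    have h := LinearMap.congr_fun hφ ⟨ψ (x : T3), hx⟩
    have he : (⟨ψ.symm (ψ (x : T3)), hmem ⟨ψ (x : T3), hx⟩⟩ : I) = x := Subtype.ext (ψ.symm_apply_apply _)
    change e (φ ⟨ψ.symm (ψ (x : T3)), _⟩) = 0 at h
    rw [he] at h
    exact (map_eq_zero_iff e e.injective).1 h
  haveI := hfin
  rw [e.toLinearEquiv.finrank_eq]
  exact (LinearMap.finrank_le_finrank_of_injective hG).trans hle

/-- The two-variable hypothesis for `k[z][y]`. -/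
theorem two_var (J K : Ideal (Polynomial (Polynomial k))) (h1 : Module.Finite k (Polynomial (Polynomial k) ⧸ J))
    (h2 : Module.Finite k (Polynomial (Polynomial k) ⧸ K)) :
    Module.Finite k (J →ₗ[Polynomial (Polynomial k)] Polynomial (Polynomial k) ⧸ K) ∧
      Module.finrank k (J →ₗ[Polynomial (Polynomial k)] Polynomial (Polynomial k) ⧸ K) ≤
        Module.finrank k (Polynomial (Polynomial k) ⧸ J) + Module.finrank k (Polynomial (Polynomial k) ⧸ K) :=
  haveI := h1
  haveI := h2
  hom_quotient_le (k := k) Polynomial.not_finite J K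

/-- A nonzero element of degree at most `r` in an ideal of small colength. -/
theorem exists_mem_totalDegree_le (I : Ideal T3) [Module.Finite k (T3 ⧸ I)] (r : ℕ)
    (h : Module.finrank k (T3 ⧸ I) ≤ (r + 2).choose 3) : ∃ f ∈ I, f ≠ 0 ∧ f.totalDegree ≤ r := by
  classical
  let s := (Finset.univ : Finset (Fin 4)).finsuppAntidiag r
  let m : s → (Fin 3 →₀ ℕ) := fun b => Finsupp.equivFunOnFinite.symm fun i => b.1 i.succ
  have hsum : ∀ b : s, b.1 0 + (m b 0 + m b 1 + m b 2) = r := fun b => by
    have := (Finset.mem_finsuppAntidiag.1 b.2).1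
    rw [Fin.sum_univ_succ, Fin.sum_univ_three] at this
    exact this
  have hinj : Function.Injective m := fun a b hab => by
    refine Subtype.ext (Finsupp.ext fun i => ?_)
    have ha := hsum a
    have hb := hsum b
    rw [hab] at ha
    refine Fin.cases ?_ (fun j => DFunLike.congr_fun hab j) i
    omega
  have hcard : Fintype.card s = (r + 3).choose 3 := by
    rw [Fintype.card_coe, Finset.card_finsuppAntidiag_nat_eq_choose, Finset.card_fin,
      show 4 + r - 1 = r + 3 by omega, Nat.choose_symm_of_eq_add (rfl : r + 3 = r + 3)]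
  have hdep : ¬ LinearIndependent k fun b : s => Ideal.Quotient.mk I (MvPolynomial.monomial (m b) 1) := fun hli => by
    have := hli.fintype_card_le_finrank
    rw [hcard, show (r + 3).choose 3 = (r + 2).choose 2 + (r + 2).choose 3 from Nat.choose_succ_succ' (r + 2) 2] at this
    have := Nat.choose_pos (show 2 ≤ r + 2 by omega)
    omega
  rw [Fintype.linearIndependent_iff] at hdep
  push Not at hdep
  obtain ⟨g, hg, b, hb⟩ := hdep
  refine ⟨∑ b, g b • MvPolynomial.monomial (m b) 1, ?_, fun h0 => ?_, ?_⟩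
  · rw [← Ideal.Quotient.eq_zero_iff_mem, map_sum, ← hg]
    exact Finset.sum_congr rfl fun b _ => (map_smul (Ideal.Quotient.mkₐ k I) (g b) _)
  · have := congrArg (MvPolynomial.coeff (m b)) h0
    rw [MvPolynomial.coeff_sum, Finset.sum_eq_single b] at this
    · simp at this; exact hb this
    · intro c _ hc
      simp [MvPolynomial.coeff_monomial, hinj.ne hc]
    · simp
  · refine (MvPolynomial.totalDegree_finsetSum_le fun b _ => ?_)
    refine (MvPolynomial.totalDegree_smul_le _ _).trans ?_
    rw [MvPolynomial.totalDegree_monomial _ one_ne_zero, sum_three]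
    have := hsum b
    omega

open W4c1hilbpn in
/-- The general bound. -/
theorem finrank_tgt_le [Infinite k] (I : Ideal T3) [Module.Finite k (T3 ⧸ I)] (r : ℕ)
    (h : Module.finrank k (T3 ⧸ I) ≤ (r + 2).choose 3) :
    Module.finrank k (Tgt I) ≤ (2 * r + 1) * Module.finrank k (T3 ⧸ I) := by
  classical
  obtain ⟨f, hf, hf0, hfr⟩ := exists_mem_totalDegree_le I r h
  set e := f.totalDegree with he
  have hh : MvPolynomial.homogeneousComponent e f ≠ 0 := fun h0 => by
    obtain ⟨β, hβ, hmax⟩ := Finset.exists_mem_eq_sup f.support (MvPolynomial.support_nonempty.2 hf0)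
      fun s => s.sum fun _ x => x
    have h1 := congrArg (MvPolynomial.coeff β) h0
    rw [MvPolynomial.coeff_homogeneousComponent, if_pos] at h1
    · exact MvPolynomial.mem_support_iff.1 hβ (by simpa using h1)
    · rw [he, MvPolynomial.totalDegree, hmax]; rfl
  obtain ⟨v, hv⟩ : ∃ v, MvPolynomial.eval v (MvPolynomial.X 0 * MvPolynomial.homogeneousComponent e f) ≠ 0 := by
    by_contra hc
    push Not at hc
    exact mul_ne_zero (MvPolynomial.X_ne_zero 0) hh (MvPolynomial.funext fun v => by rw [hc v, map_zero])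
  rw [map_mul, MvPolynomial.eval_X] at hv
  obtain ⟨hv0, hvh⟩ := mul_ne_zero_iff.1 hv
  set c := MvPolynomial.eval v (MvPolynomial.homogeneousComponent e f) with hc
  obtain ⟨h1, h2⟩ := psi_top v f
  have hnat : (coords v hv0 (c⁻¹ • f)).natDegree ≤ e := by
    rw [map_smul]; exact (natDegree_smul_le _ _).trans h1
  have hm : (coords v hv0 (c⁻¹ • f)).Monic := by
    refine monic_of_natDegree_le_of_coeff_eq_one e hnat ?_
    rw [map_smul, coeff_smul, show (coords v hv0 f).coeff e = algebraMap k _ c from h2,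
      Algebra.smul_def, ← map_mul, inv_mul_cancel₀ hvh, map_one]
  refine (tgt_le_of_equiv two_var I (coords v hv0) (Submodule.smul_of_tower_mem I _ hf) hm).trans ?_
  exact Nat.mul_le_mul_right _ (by omega)

open W4c1hilbpn in
/-- The bound for an ideal containing a power of `x`. -/
theorem finrank_tgt_le_of_X_pow (I : Ideal T3) [Module.Finite k (T3 ⧸ I)] (p : ℕ)
    (hx : (MvPolynomial.X 0 : T3) ^ p ∈ I) :
    Module.finrank k (Tgt I) ≤ (2 * p + 1) * Module.finrank k (T3 ⧸ I) := by
  have hv : (![1, 0, 0] : Fin 3 → k) 0 ≠ 0 := one_ne_zero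
  have h : coords ![(1 : k), 0, 0] hv ((MvPolynomial.X 0 : T3) ^ p) = X ^ p := by
    rw [map_pow]
    congr 1
    show psi _ (MvPolynomial.X 0) = X
    simp [psi_X]
  refine (tgt_le_of_equiv two_var I (coords ![(1 : k), 0, 0] hv) hx (h ▸ monic_X_pow p)).trans ?_
  rw [h, natDegree_X_pow]

end Groth.Agent.Hilb6.TgtBound
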