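import Groth.Agent.Hilb6.TgtBound

/-!
# The filtration by degree in the last variable
-/

set_option autoImplicit false
set_option linter.style.haveILetI false

namespace Groth.Agent.Hilb6.TgtBound

open Polynomial

variable {k : Type*} [Field k] {R : Type*} [CommRing R] [Algebra k R]

section Generic

variable {P Q C : Type*} [AddCommGroup P] [Module R P] [AddCommGroup Q] [Module R Q] [AddCommGroup C] [Module R C]
variable [Module k P] [IsScalarTower k R P] [Module k Q] [IsScalarTower k R Q] [Module k C] [IsScalarTower k R C]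

theorem hom_target_le {J : Type*} [AddCommGroup J] [Module R J] (i : P →ₗ[R] Q) (π : Q →ₗ[R] C)
    (hi : Function.Injective i) (h : LinearMap.ker π ≤ LinearMap.range i)
    [Module.Finite k (J →ₗ[R] P)] [Module.Finite k (J →ₗ[R] C)] :
    Module.Finite k (J →ₗ[R] Q) ∧
      Module.finrank k (J →ₗ[R] Q) ≤ Module.finrank k (J →ₗ[R] P) + Module.finrank k (J →ₗ[R] C) := by
  refine finrank_le_add
    ({ toFun := fun φ => i.comp φ
       map_add' := fun φ ψ => LinearMap.comp_add _ _ _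
       map_smul' := fun a φ => LinearMap.ext fun x => by simp [LinearMap.map_smul_of_tower] } :
      (J →ₗ[R] P) →ₗ[k] (J →ₗ[R] Q))
    ({ toFun := fun φ => π.comp φ
       map_add' := fun φ ψ => LinearMap.comp_add _ _ _
       map_smul' := fun a φ => LinearMap.ext fun x => by simp [LinearMap.map_smul_of_tower] } :
      (J →ₗ[R] Q) →ₗ[k] (J →ₗ[R] C)) fun φ hφ => ?_
  have hmem : ∀ x, φ x ∈ LinearMap.range i := fun x => h (LinearMap.congr_fun hφ x)
  refine ⟨(LinearEquiv.ofInjective i hi).symm.toLinearMap.comp (φ.codRestrict _ hmem), LinearMap.ext fun x => ?_⟩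
  exact congrArg Subtype.val ((LinearEquiv.ofInjective i hi).apply_symm_apply ⟨φ x, hmem x⟩)

omit [Module k P] [IsScalarTower k R P] [Module k Q] [IsScalarTower k R Q] in
theorem hom_source_le (i : P →ₗ[R] Q) {J : Type*} [AddCommGroup J] [Module R J] (π : Q →ₗ[R] J)
    (hπ : Function.Surjective π) (h : LinearMap.ker π ≤ LinearMap.range i)
    [Module.Finite k (J →ₗ[R] C)] [Module.Finite k (P →ₗ[R] C)] :
    Module.Finite k (Q →ₗ[R] C) ∧
      Module.finrank k (Q →ₗ[R] C) ≤ Module.finrank k (J →ₗ[R] C) + Module.finrank k (P →ₗ[R] C) := by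
  refine finrank_le_add
    ({ toFun := fun φ => φ.comp π
       map_add' := fun φ ψ => LinearMap.add_comp _ _ _
       map_smul' := fun a φ => rfl } : (J →ₗ[R] C) →ₗ[k] (Q →ₗ[R] C))
    ({ toFun := fun φ => φ.comp i
       map_add' := fun φ ψ => LinearMap.add_comp _ _ _
       map_smul' := fun a φ => rfl } : (Q →ₗ[R] C) →ₗ[k] (P →ₗ[R] C)) fun φ hφ => ?_
  have hker : LinearMap.ker π ≤ LinearMap.ker φ := fun x hx => by
    obtain ⟨y, rfl⟩ := h hx
    exact LinearMap.congr_fun hφ y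
  refine ⟨((LinearMap.ker π).liftQ φ hker).comp (π.quotKerEquivOfSurjective hπ).symm.toLinearMap,
    LinearMap.ext fun x => ?_⟩
  show ((LinearMap.ker π).liftQ φ hker) ((π.quotKerEquivOfSurjective hπ).symm (π x)) = φ x
  rw [LinearMap.quotKerEquivOfSurjective_symm_apply, Submodule.liftQ_apply]

end Generic

variable (I : Ideal R[X])

/-- Elements of the ideal of degree `< b`. -/
noncomputable def Nb (b : ℕ) : Submodule R R[X] := degreeLT R b ⊓ I.restrictScalars R

/-- The image of the polynomials of degree `< b`. -/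
noncomputable def Mb (b : ℕ) : Submodule R (R[X] ⧸ I) := (degreeLT R b).map (Ideal.Quotient.mkₐ R I).toLinearMap

/-- The ideal of coefficients in degree `b`. -/
noncomputable def Jb (b : ℕ) : Ideal R := (Nb I (b + 1)).map (lcoeff R b)

theorem mem_degreeLT_succ {b : ℕ} {p : R[X]} (hp : p ∈ degreeLT R (b + 1)) :
    p - monomial b (p.coeff b) ∈ degreeLT R b := by
  rw [mem_degreeLT, degree_lt_iff_coeff_zero]
  intro j hj
  rw [coeff_sub, coeff_monomial]
  rcases eq_or_lt_of_le hj with rfl | hlt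
  · simp
  · rw [if_neg (by omega), sub_zero]
    exact coeff_eq_zero_of_degree_lt (lt_of_lt_of_le (mem_degreeLT.1 hp) (WithBot.coe_le_coe.2 hlt))

theorem monomial_mem_degreeLT (b : ℕ) (r : R) : monomial b r ∈ degreeLT R (b + 1) :=
  mem_degreeLT.2 ((degree_monomial_le b r).trans_lt (WithBot.coe_lt_coe.2 (Nat.lt_succ_self b)))

theorem coeff_of_mem_degreeLT {b : ℕ} {p : R[X]} (hp : p ∈ degreeLT R b) : p.coeff b = 0 :=
  coeff_eq_zero_of_degree_lt (mem_degreeLT.1 hp)

/-- The leading coefficient map to the successive quotient. -/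
noncomputable def top (b : ℕ) : (R ⧸ Jb I b) →ₗ[R] (R[X] ⧸ I) ⧸ Mb I b :=
  Submodule.liftQ (Jb I b) ((Mb I b).mkQ.comp ((Ideal.Quotient.mkₐ R I).toLinearMap.comp (monomial b))) (by
    rintro r ⟨h, ⟨hd, hI⟩, rfl⟩
    refine (Submodule.Quotient.mk_eq_zero _).2 ⟨monomial b (h.coeff b) - h, ?_, ?_⟩
    · rw [← neg_sub]; exact neg_mem (mem_degreeLT_succ hd)
    · show Ideal.Quotient.mk I (monomial b (h.coeff b) - h) = Ideal.Quotient.mk I (monomial b (h.coeff b))
      rw [map_sub, Ideal.Quotient.eq_zero_iff_mem.2 hI, sub_zero])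

theorem top_injective (b : ℕ) : Function.Injective (top I b) := by
  rw [injective_iff_map_eq_zero]
  intro x hx
  obtain ⟨r, rfl⟩ := Submodule.Quotient.mk_surjective _ x
  obtain ⟨g, hg, he⟩ := (Submodule.Quotient.mk_eq_zero _).1 hx
  refine (Submodule.Quotient.mk_eq_zero _).2 ⟨monomial b r - g, ⟨?_, ?_⟩, ?_⟩
  · exact sub_mem (monomial_mem_degreeLT b r) (degreeLT_mono (Nat.le_succ b) hg)
  · exact Ideal.Quotient.eq.1 he.symm
  · simp [coeff_of_mem_degreeLT hg]

/-- The inclusion of successive steps. -/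
theorem Mb_le (b : ℕ) : Mb I b ≤ Mb I (b + 1) := Submodule.map_mono (degreeLT_mono (Nat.le_succ b))

/-- The projection to the leading coefficient. -/
noncomputable def lead (b : ℕ) : Mb I (b + 1) →ₗ[R] R ⧸ Jb I b :=
  (LinearEquiv.ofInjective (top I b) (top_injective I b)).symm.toLinearMap.comp
    (LinearMap.codRestrict (LinearMap.range (top I b)) ((Mb I b).mkQ.comp (Mb I (b + 1)).subtype) (by
      rintro ⟨_, h, hh, rfl⟩
      refine ⟨Submodule.Quotient.mk (h.coeff b), (Submodule.Quotient.eq _).2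
        ⟨-(h - monomial b (h.coeff b)), neg_mem (mem_degreeLT_succ hh), ?_⟩⟩
      rw [neg_sub, map_sub]
      rfl))

theorem lead_eq_zero_iff (b : ℕ) (x : Mb I (b + 1)) : lead I b x = 0 ↔ (x : R[X] ⧸ I) ∈ Mb I b := by
  rw [← Submodule.Quotient.mk_eq_zero (Mb I b), lead, LinearMap.comp_apply, LinearEquiv.coe_coe,
    LinearEquiv.map_eq_zero_iff]
  exact Subtype.ext_iff

theorem ker_lead (b : ℕ) : LinearMap.ker (lead I b) ≤ LinearMap.range (Submodule.inclusion (Mb_le I b)) := by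
  intro x hx
  have hmem : (x : R[X] ⧸ I) ∈ Mb I b := (lead_eq_zero_iff I b x).1 hx
  exact ⟨⟨x, hmem⟩, rfl⟩

theorem lead_surjective (b : ℕ) : Function.Surjective (lead I b) := by
  intro x
  obtain ⟨r, rfl⟩ := Submodule.Quotient.mk_surjective _ x
  exact ⟨⟨_, monomial b r, monomial_mem_degreeLT b r, rfl⟩, (LinearEquiv.symm_apply_eq _).2 (Subtype.ext rfl)⟩

theorem finite_quot_Jb [Module.Finite k (R[X] ⧸ I)] (b : ℕ) : Module.Finite k (R ⧸ Jb I b) :=
  Module.Finite.of_injective ((top I b).restrictScalars k) (top_injective I b)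

theorem finrank_Mb_succ [Module.Finite k (R[X] ⧸ I)] (b : ℕ) :
    Module.finrank k (Mb I (b + 1)) = Module.finrank k (Mb I b) + Module.finrank k (R ⧸ Jb I b) := by
  haveI := finite_quot_Jb (k := k) I b
  haveI : Module.Finite k (Mb I (b + 1)) :=
    Module.Finite.of_injective ((Mb I (b + 1)).subtype.restrictScalars k) Subtype.val_injective
  have h1 := ((lead I b).restrictScalars k).finrank_range_add_finrank_ker
  rw [LinearMap.range_eq_top.2 (show Function.Surjective ((lead I b).restrictScalars k) from lead_surjective I b),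
    finrank_top] at h1
  have e : LinearMap.ker ((lead I b).restrictScalars k) =
      LinearMap.range ((Submodule.inclusion (Mb_le I b)).restrictScalars k) := by
    refine le_antisymm (fun x hx => ker_lead I b hx) ?_
    rintro _ ⟨⟨x, hx⟩, rfl⟩
    exact (lead_eq_zero_iff I b _).2 hx
  rw [e, LinearMap.finrank_range_of_inj (f := (Submodule.inclusion (Mb_le I b)).restrictScalars k)
    (Submodule.inclusion_injective (Mb_le I b))] at h1
  omega

theorem Mb_zero : Mb I 0 = ⊥ := by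
  refine (Submodule.eq_bot_iff _).2 ?_
  rintro _ ⟨h, hh, rfl⟩
  have h0 : h = 0 := Polynomial.ext fun j =>
    coeff_eq_zero_of_degree_lt (lt_of_lt_of_le (mem_degreeLT.1 hh) (WithBot.coe_le_coe.2 (Nat.zero_le j)))
  simp [h0]

theorem sum_Jb [Module.Finite k (R[X] ⧸ I)] (p : ℕ) :
    ∑ b ∈ Finset.range p, Module.finrank k (R ⧸ Jb I b) = Module.finrank k (Mb I p) := by
  induction p with
  | zero =>
    haveI : Subsingleton (Mb I 0) := by rw [Mb_zero]; infer_instance
    rw [Finset.sum_range_zero, Module.finrank_zero_of_subsingleton]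
  | succ p ih => rw [Finset.sum_range_succ, ih, finrank_Mb_succ]

theorem Mb_eq_top {f : R[X]} (hf : f ∈ I) (hm : f.Monic) [Nontrivial R] : Mb I f.natDegree = ⊤ := by
  refine eq_top_iff.2 fun x _ => ?_
  obtain ⟨h, rfl⟩ := Ideal.Quotient.mk_surjective x
  refine ⟨h %ₘ f, ?_, Ideal.Quotient.eq.2 ?_⟩
  · rw [SetLike.mem_coe, mem_degreeLT, ← degree_eq_natDegree hm.ne_zero]; exact degree_modByMonic_lt _ hm
  · rw [modByMonic_eq_sub_mul_div, sub_sub_cancel_left]
    exact I.neg_mem (I.mul_mem_right _ hf)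

theorem hom_to_Mb (hR : ∀ J K : Ideal R, Module.Finite k (R ⧸ J) → Module.Finite k (R ⧸ K) →
      Module.Finite k (J →ₗ[R] R ⧸ K) ∧
        Module.finrank k (J →ₗ[R] R ⧸ K) ≤ Module.finrank k (R ⧸ J) + Module.finrank k (R ⧸ K))
    [Module.Finite k (R[X] ⧸ I)] (J : Ideal R) (hJ : Module.Finite k (R ⧸ J)) (b : ℕ) :
    Module.Finite k (J →ₗ[R] Mb I b) ∧ Module.finrank k (J →ₗ[R] Mb I b) ≤
      b * Module.finrank k (R ⧸ J) + ∑ a ∈ Finset.range b, Module.finrank k (R ⧸ Jb I a) := by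
  induction b with
  | zero =>
    haveI : Subsingleton (Mb I 0) := by rw [Mb_zero]; infer_instance
    haveI : Subsingleton (J →ₗ[R] Mb I 0) := ⟨fun φ ψ => LinearMap.ext fun x => Subsingleton.elim _ _⟩
    exact ⟨inferInstance, by rw [Module.finrank_zero_of_subsingleton]; exact Nat.zero_le _⟩
  | succ b ih =>
    obtain ⟨h1, h2⟩ := ih
    obtain ⟨h3, h4⟩ := hR J (Jb I b) hJ (finite_quot_Jb I b)
    obtain ⟨h5, h6⟩ := hom_target_le (k := k) (J := J) (Submodule.inclusion (Mb_le I b)) (lead I b)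
      (Submodule.inclusion_injective _) (ker_lead I b)
    refine ⟨h5, h6.trans ?_⟩
    rw [Finset.sum_range_succ, Nat.succ_mul]
    omega

theorem hom_from_Nb (hR : ∀ J K : Ideal R, Module.Finite k (R ⧸ J) → Module.Finite k (R ⧸ K) →
      Module.Finite k (J →ₗ[R] R ⧸ K) ∧
        Module.finrank k (J →ₗ[R] R ⧸ K) ≤ Module.finrank k (R ⧸ J) + Module.finrank k (R ⧸ K))
    [Module.Finite k (R[X] ⧸ I)] (p : ℕ) (hp : Mb I p = ⊤) (a : ℕ) :
    Module.Finite k (Nb I a →ₗ[R] R[X] ⧸ I) ∧ Module.finrank k (Nb I a →ₗ[R] R[X] ⧸ I) ≤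
      p * (∑ i ∈ Finset.range a, Module.finrank k (R ⧸ Jb I i)) + a * Module.finrank k (R[X] ⧸ I) := by
  induction a with
  | zero =>
    haveI : Subsingleton (Nb I 0) := ⟨fun x y => by
      have : ∀ z : Nb I 0, (z : R[X]) = 0 := fun z => Polynomial.ext fun j =>
        coeff_eq_zero_of_degree_lt (lt_of_lt_of_le (mem_degreeLT.1 z.2.1) (WithBot.coe_le_coe.2 (Nat.zero_le j)))
      exact Subtype.ext ((this x).trans (this y).symm)⟩
    haveI : Subsingleton (Nb I 0 →ₗ[R] R[X] ⧸ I) := ⟨fun φ ψ => LinearMap.ext fun x => by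
      rw [Subsingleton.elim x 0, map_zero, map_zero]⟩
    exact ⟨inferInstance, by rw [Module.finrank_zero_of_subsingleton]; exact Nat.zero_le _⟩
  | succ a ih =>
    obtain ⟨h1, h2⟩ := ih
    have hJ := finite_quot_Jb (k := k) I a
    obtain ⟨h3, h4⟩ := hom_to_Mb I hR (Jb I a) hJ p
    let e : Mb I p ≃ₗ[R] R[X] ⧸ I := (LinearEquiv.ofEq _ _ hp).trans Submodule.topEquiv
    let F : (Jb I a →ₗ[R] Mb I p) →ₗ[k] (Jb I a →ₗ[R] R[X] ⧸ I) :=
      { toFun := fun φ => e.toLinearMap.comp φ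
        map_add' := fun φ ψ => LinearMap.comp_add _ _ _
        map_smul' := fun c φ => LinearMap.ext fun x => (e.toLinearMap.map_smul_of_tower c (φ x) :) }
    have hF : Function.Surjective F := fun φ => ⟨e.symm.toLinearMap.comp φ, LinearMap.ext fun x => by simp [F]⟩
    haveI := h3
    haveI : Module.Finite k (Jb I a →ₗ[R] R[X] ⧸ I) := Module.Finite.of_surjective F hF
    have h5 : Module.finrank k (Jb I a →ₗ[R] R[X] ⧸ I) ≤ Module.finrank k (Jb I a →ₗ[R] Mb I p) := by
      rw [← finrank_top, ← LinearMap.range_eq_top.2 hF]; exact F.finrank_range_le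
    let incl : Nb I a →ₗ[R] Nb I (a + 1) :=
      Submodule.inclusion (inf_le_inf_right _ (degreeLT_mono (Nat.le_succ a)))
    let π : Nb I (a + 1) →ₗ[R] Jb I a :=
      LinearMap.codRestrict (Jb I a) ((lcoeff R a).comp (Nb I (a + 1)).subtype) fun x => ⟨x, x.2, rfl⟩
    have hπ : Function.Surjective π := fun ⟨r, h, hh, he⟩ => ⟨⟨h, hh⟩, Subtype.ext he⟩
    have hker : LinearMap.ker π ≤ LinearMap.range incl := by
      intro x hx
      have h0 : (x : R[X]).coeff a = 0 := congrArg Subtype.val hx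
      refine ⟨⟨x, ?_, x.2.2⟩, rfl⟩
      have := mem_degreeLT_succ x.2.1
      rwa [h0, map_zero, sub_zero] at this
    obtain ⟨h6, h7⟩ := hom_source_le (k := k) (C := R[X] ⧸ I) incl π hπ hker
    refine ⟨h6, h7.trans ?_⟩
    have hs : ∑ i ∈ Finset.range p, Module.finrank k (R ⧸ Jb I i) = Module.finrank k (R[X] ⧸ I) := by
      rw [sum_Jb]; exact (e.restrictScalars k).finrank_eq
    rw [Finset.sum_range_succ, Nat.mul_add, Nat.succ_mul]
    omega

theorem tgt_le (hR : ∀ J K : Ideal R, Module.Finite k (R ⧸ J) → Module.Finite k (R ⧸ K) →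
      Module.Finite k (J →ₗ[R] R ⧸ K) ∧
        Module.finrank k (J →ₗ[R] R ⧸ K) ≤ Module.finrank k (R ⧸ J) + Module.finrank k (R ⧸ K))
    [Nontrivial R] [Module.Finite k (R[X] ⧸ I)] {f : R[X]} (hf : f ∈ I) (hm : f.Monic) :
    Module.Finite k (I →ₗ[R[X]] R[X] ⧸ I) ∧
      Module.finrank k (I →ₗ[R[X]] R[X] ⧸ I) ≤ (2 * f.natDegree + 1) * Module.finrank k (R[X] ⧸ I) := by
  have hp := Mb_eq_top I hf hm
  obtain ⟨h1, h2⟩ := hom_from_Nb I hR f.natDegree hp f.natDegree
  have hN : ∀ n : Nb I f.natDegree, (n : R[X]) ∈ I := fun n => n.2.2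
  let incl : Nb I f.natDegree →ₗ[R] I.restrictScalars R :=
    LinearMap.codRestrict _ (Nb I f.natDegree).subtype hN
  let Ξ : (I →ₗ[R[X]] R[X] ⧸ I) →ₗ[k] (Nb I f.natDegree →ₗ[R] R[X] ⧸ I) × (R[X] ⧸ I) :=
    { toFun := fun φ => ((φ.restrictScalars R).comp incl, φ ⟨f, hf⟩)
      map_add' := fun φ ψ => rfl
      map_smul' := fun a φ => rfl }
  have hΞ : Function.Injective Ξ := by
    rw [injective_iff_map_eq_zero]
    intro φ hφ
    obtain ⟨h1, h2⟩ := Prod.ext_iff.1 hφ
    refine LinearMap.ext fun j => ?_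
    have hrI : (j : R[X]) %ₘ f ∈ I := by
      rw [modByMonic_eq_sub_mul_div]; exact I.sub_mem j.2 (I.mul_mem_right _ hf)
    have hrN : (j : R[X]) %ₘ f ∈ Nb I f.natDegree := ⟨by
      rw [SetLike.mem_coe, mem_degreeLT, ← degree_eq_natDegree hm.ne_zero]; exact degree_modByMonic_lt _ hm, hrI⟩
    have hj : j = (⟨(j : R[X]) %ₘ f, hrI⟩ : I) + ((j : R[X]) /ₘ f) • ⟨f, hf⟩ := Subtype.ext (by
      show (j : R[X]) = (j : R[X]) %ₘ f + ((j : R[X]) /ₘ f) * f
      rw [mul_comm, modByMonic_add_div])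
    rw [hj, map_add, map_smul, show φ ⟨f, hf⟩ = 0 from h2, smul_zero, add_zero,
      show φ ⟨(j : R[X]) %ₘ f, hrI⟩ = 0 from LinearMap.congr_fun h1 ⟨_, hrN⟩]
    rfl
  haveI := h1
  haveI := isNoetherian_of_isNoetherianRing_of_finite k ((Nb I f.natDegree →ₗ[R] R[X] ⧸ I) × (R[X] ⧸ I))
  refine ⟨Module.Finite.of_injective Ξ hΞ, (LinearMap.finrank_le_finrank_of_injective hΞ).trans ?_⟩
  rw [Module.finrank_prod]
  have hs : ∑ i ∈ Finset.range f.natDegree, Module.finrank k (R ⧸ Jb I i) = Module.finrank k (R[X] ⧸ I) := by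
    rw [sum_Jb]
    exact (((LinearEquiv.ofEq _ _ hp).trans Submodule.topEquiv).restrictScalars k).finrank_eq
  rw [hs] at h2
  rw [add_mul, one_mul, mul_assoc, two_mul]
  omega

end Groth.Agent.Hilb6.TgtBound
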